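/-
S4371 (no prime divides three element orders): definitions and work packages.  See `notes/EO.md`.
-/
import Cfsg.Agent.AG.CA2

set_option autoImplicit false

namespace CfsgEO

open Subgroup CfsgFT CfsgBS CfsgAG

universe u v

/-- no prime divides three distinct element orders -/
def E3 (G : Type*) [Group G] : Prop :=
  ∀ p : ℕ, p.Prime → ∀ a b c : G, orderOf a ≠ orderOf b → orderOf b ≠ orderOf c →
    orderOf a ≠ orderOf c → ¬ (p ∣ orderOf a ∧ p ∣ orderOf b ∧ p ∣ orderOf c)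

/-- every element of even order has order two or four -/
def CIT (G : Type*) [Group G] : Prop := ∀ g : G, Even (orderOf g) → g ^ 4 = 1

/-- the Sylow 2-subgroup `V W` of `L₃(q)`, with both parabolic subgroups -/
structure Pat {G : Type*} [Group G] (V W : Subgroup G) (q : ℕ) : Prop where
  sqV : ∀ v ∈ V, v * v = 1
  sqW : ∀ w ∈ W, w * w = 1
  cardV : #V = q ^ 2
  cardW : #W = q ^ 2
  cardZ : #(V ⊓ W : Subgroup G) = q
  two : 2 ≤ q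
  VW : V ≤ 𝒩 W
  WV : W ≤ 𝒩 V
  syl : IsSylowOf 2 (V ⊔ W) ⊤
  nc : ∀ v ∈ V, ∀ w ∈ W, v * w = w * v → v ∈ W ∨ w ∈ V
  partV : ∀ v ∈ V, ∃ g ∈ 𝒩 V, g * v * g⁻¹ ∈ W
  partW : ∀ w ∈ W, ∃ g ∈ 𝒩 W, g * w * g⁻¹ ∈ V
  normV : 𝒩 (V ⊔ W) ≤ 𝒩 V
  normW : 𝒩 (V ⊔ W) ≤ 𝒩 W

/-- WP LOC, first part -/
def SpecE : Prop :=
  ∀ (G : Type u) [Group G] [Finite G], CIT G → Cfsg.pCore 2 G ≠ ⊥ →
    ∀ g : G, Even (orderOf g) → g * g ∈ Cfsg.pCore 2 G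

/-- WP LOC -/
def SpecLoc : Prop :=
  ∀ (G : Type u) [Group G] [Finite G], CIT G → Cfsg.pCore 2 G = ⊥ → Even (Nat.card G) →
    (∃ M : Subgroup G, Cfsg.IsStronglyEmbedded M) ∨ ∃ V W : Subgroup G, Pat V W 2 ∨ Pat V W 4

/-- WP L34 -/
def SpecL34 : Prop :=
  ∀ (G : Type u) [Group G] [Finite G], CIT G → ∀ V W : Subgroup G, Pat V W 4 →
    ∃ (F : Type) (_ : Field F) (_ : Fintype F), Fintype.card F = 4 ∧
      Nonempty (G ≃* Matrix.ProjectiveSpecialLinearGroup (Fin 3) F)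

/-- WP SZ -/
def SpecSZ : Prop :=
  ∀ (G : Type u) [Group G] [Finite G] (Ω : Type v) [MulAction G Ω] [FaithfulSMul G Ω]
    (X : R1 G Ω), HasFour G → IsPGroup 2 X.Q → X.CaseB → X.L = ⊤ → CIT G →
    ∃ n : ℕ, 1 ≤ n ∧
      Nat.card G = (2 ^ (2 * n + 1)) ^ 2 * ((2 ^ (2 * n + 1)) ^ 2 + 1) * (2 ^ (2 * n + 1) - 1) ∧
      ∃ a b c : G, orderOf a = 2 ^ (2 * n + 1) - 1 ∧
        orderOf b = 2 ^ (2 * n + 1) - 2 ^ (n + 1) + 1 ∧ orderOf c = 2 ^ (2 * n + 1) + 2 ^ (n + 1) + 1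

/-- WP EB -/
def SpecEB : Prop :=
  ∀ (G : Type u) [Group G] [Finite G], E3 G → ¬ Group.IsSolvable G →
    ∀ (g : G) (r : ℕ), r.Prime → r ≠ 2 → orderOf g = 2 * r →
    ∃ K t s, TO (⊤ : Subgroup G) K t s

end CfsgEO
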