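import Cfsg.Agent.EO.EB3

/-! WP EB: `specEB`. -/

set_option autoImplicit false
set_option linter.style.haveILetI false

namespace CfsgEO

open Subgroup CfsgFT CfsgL0 CfsgAG CfsgAG.W1 CfsgAG.GW
open scoped commutatorElement

universe u

theorem nf_abs {Γ A : Type*} [Group Γ] [Finite Γ] [CommGroup A] (φ : Γ →* MulAut A)
    {E : Subgroup Γ} {ρ : Γ} {n : ℕ} (hρ : ρ ∈ 𝒩 E)
    (hb : ∀ i < n, ∀ e ∈ E, e * ρ ^ (i + 1) = ρ ^ (i + 1) * e → e = 1) (v : A)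
    (hN : ∀ e ∈ E, ∏ i ∈ Finset.range (n + 1), φ (e * ρ ^ i * e⁻¹) v = 1) {a : Γ} (ha : a ∈ E) :
    φ a (v ^ #E) = v ^ #E := by
  haveI := Fintype.ofFinite E
  have hT : ∀ w : A, φ a (∏ e : E, φ e w) = ∏ e : E, φ e w := fun w => by
    rw [map_prod]
    exact Fintype.prod_equiv (Equiv.mulLeft (⟨a, ha⟩ : E)) _ _ fun e => by simp
  have h1 : ∏ i ∈ Finset.range (n + 1), ∏ e : E, φ (e * ρ ^ i * (e : Γ)⁻¹) v = 1 := by
    rw [Finset.prod_comm]; exact Finset.prod_eq_one fun e _ => hN e e.2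
  rw [Finset.prod_range_succ'] at h1
  have h2 : ∏ e : E, φ (e * ρ ^ 0 * (e : Γ)⁻¹) v = v ^ #E := by simp
  rw [← h2, eq_inv_of_mul_eq_one_right h1, map_inv, map_prod]
  congr 1
  refine Finset.prod_congr rfl fun i hi => ?_
  let f : E → E := fun e => ⟨e * (ρ ^ (i + 1) * (e : Γ)⁻¹ * (ρ ^ (i + 1))⁻¹),
    mul_mem e.2 (conj_mem_of_mem_norm (pow_mem hρ _) (inv_mem e.2))⟩
  have hf : Function.Injective f := fun e e' h => by
    have h3 : (e : Γ) * (ρ ^ (i + 1) * (e : Γ)⁻¹ * (ρ ^ (i + 1))⁻¹) =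
      e' * (ρ ^ (i + 1) * (e' : Γ)⁻¹ * (ρ ^ (i + 1))⁻¹) := congrArg Subtype.val h
    have := hb i (Finset.mem_range.1 hi) _ (mul_mem (inv_mem e'.2) e.2) (by
      generalize ρ ^ (i + 1) = σ at h3
      calc _ = (e' : Γ)⁻¹ * (e * (σ * (e : Γ)⁻¹ * σ⁻¹)) * σ * e := by group
        _ = _ := by rw [h3]; group)
    exact (Subtype.ext (inv_mul_eq_one.1 this)).symm
  have h4 : ∏ e : E, φ (e * ρ ^ (i + 1) * (e : Γ)⁻¹) v = ∏ e : E, φ e (φ (ρ ^ (i + 1)) v) :=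
    Fintype.prod_bijective f (Finite.injective_iff_bijective.1 hf) _ _ fun e => by
      rw [← MulAut.mul_apply, ← map_mul]
      congr 2
      simp only [f]; group
  rw [h4, hT]

variable {G : Type u} [Group G] [Finite G] {r : ℕ}

theorem EH.nf (h : EH G r) {A E : Subgroup G} [A.Normal] (hA : A ≤ 𝒞 A) (pA : IsPGroup r A)
    (hE : IsPGroup 2 E) {ρ : G} {p : ℕ} (hp : p.Prime) (p2 : p ≠ 2) (hρ : ρ ∈ 𝒩 E)
    (ρp : ρ ^ p = 1) (ρ1 : ρ ≠ 1) (h0 : E ⊓ 𝒞₁ ρ = ⊥) : E ≤ 𝒞 A := by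
  letI : CommGroup A := { (inferInstance : Group A) with
    mul_comm := fun a b => Subtype.ext (le_cent_iff.1 hA a a.2 b b.2) }
  obtain ⟨n, rfl⟩ : ∃ n, p = n + 1 := ⟨p - 1, by have := hp.pos; omega⟩
  have e1 : ∀ (σ : G) (v : A) (m : ℕ), ((v : G) * σ) ^ m =
      (∏ i ∈ Finset.range m, MulAut.conjNormal (σ ^ i) v : A) * σ ^ m := fun σ v m => by
    induction m with
    | zero => simp
    | succ m ih =>
      rw [pow_succ, ih, Finset.prod_range_succ, coe_mul, MulAut.conjNormal_apply, pow_succ]; group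
  intro a ha
  refine mem_cent_iff.2 fun w hw => ?_
  obtain ⟨v, hv⟩ := ((coprime_two_of_odd hE (h.odd_pg pA)).symm.pow_left_bijective).2 ⟨w, hw⟩
  have := nf_abs (MulAut.conjNormal (H := A)) (n := n) hρ (fun i hi e he hc => ?_) v
    (fun e he => ?_) ha
  · rw [show v ^ #E = ⟨w, hw⟩ from hv] at this
    have := congrArg Subtype.val this
    rw [MulAut.conjNormal_apply] at this
    exact mul_inv_eq_iff_eq_mul.1 this
  · refine mem_bot.1 (h0 ▸ ⟨he, mem_c1.2 (mem_c1.1 (mem_of_pow_coprime (C := 𝒞₁ e)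
      ((Nat.coprime_of_lt_prime (Nat.succ_ne_zero i) (by omega) hp)) ?_ (mem_c1.2 hc.symm))).symm⟩)
    rw [ρp]; exact one_mem _
  · have a1 : (e * ρ * e⁻¹) ^ (n + 1) = 1 := by rw [conj_pow, ρp]; group
    have a2 := e1 (e * ρ * e⁻¹) v (n + 1)
    rw [a1, mul_one] at a2
    have a3 := h.pow_eq_one pA hp p2 v.2 a1 (conj_ne_one ρ1) (a2 ▸ Subtype.prop _)
    rw [a2] at a3
    simp only [conj_pow] at a3
    exact Subtype.ext a3

theorem EH.oc_eq_bot (h : EH G r) (hG : ¬ Group.IsSolvable (⊤ : Subgroup G)) :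
    Oc (⊤ : Subgroup G) = ⊥ := by
  by_contra h0
  have hs : Simp (bar (⊤ : Subgroup G)) := (h.qt _).simp_of
    (fun hh => hG (solvable_of_qm (solvable_oc _) le_norm_oc hh)) (oc_bar _)
  obtain ⟨A, hA, A0, cA, nA⟩ := exists_char_abelian (solvable_oc (⊤ : Subgroup G)) h0
  have nA' : ⊤ ≤ 𝒩 A := le_norm_oc.trans nA
  haveI : A.Normal := CfsgCA.normal_of fun g => nA' (mem_top g)
  obtain ⟨S, hS⟩ := CfsgH2.exists_isSylowOf (p := 2) (⊤ : Subgroup G)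
  have hb := sylow_qm (le_norm_oc (X := ⊤)) hS
  have h4 := ((h.qt _).kf hs).four hb
  rw [card_qm_two (odd_oc _) (le_top.trans le_norm_oc) hS.2.1] at h4
  have pA := h.pg hS.2.1 h4 (odd_of_le hA (odd_oc _)) (le_top.trans nA')
  obtain ⟨⟨a, ha⟩, a1⟩ := ne_bot_iff_exists_ne_one.1 A0
  have sC : Group.IsSolvable (𝒞 A) := CfsgH2.isSolvable_of_le
    (centralizer_le (by simpa using ha)) (h.solv_c1 (x := a) (fun e => a1 (Subtype.ext e))
      (by rw [mul_comm, pow_mul, h.pow_r pA a ha, one_pow]))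
  have cO : 𝒞 A ≤ Oc ⊤ := (qm_eq_bot_iff (le_top.trans le_norm_oc)).1
    (hs.eq_bot_of_solvable (qm_mono le_top)
      (qm_le_normalizer (CfsgH2.le_normalizer_centralizer nA')) (isSolvable_qm sC))
  obtain ⟨n, hn, s, hs', hne⟩ := CfsgCA.exists_pair hS hG
  obtain ⟨p, hp, p2, ρ, m1, m2, m3⟩ := h.exists_prime hS hn.2 fun hh =>
    hne (mem_cent_iff.1 hh s hs')
  have nρ : zpowers ρ ≤ 𝒩 S := zpowers_le.2 (zpowers_le.2 hn.2 m1)
  have hle : ⁅S, zpowers ρ⁆ ≤ S := commutator_le_left_of_le_normalizer nρ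
  have oρ : Odd #(zpowers ρ) := by
    rw [Nat.card_zpowers]; exact odd_of_pow (hp.odd_of_ne_two p2) m3
  have c0 := CfsgH2.commutator_inf_centralizer_eq_bot nρ (coprime_two_of_odd hS.2.1 oρ).symm
    (CfsgH1.isMulCommutative_of_le_centralizer (h.comm hS.2.1))
  rw [CfsgFT.centralizer_zpowers] at c0
  have := (h.nf cA pA (hS.2.1.to_le hle) hp p2 (norm_comm nρ le_normalizer (mem_zpowers ρ)) m3
    (fun e => m2 (e ▸ one_mem _)) c0).trans cO
  have e : ⁅S, zpowers ρ⁆ = ⊥ := eq_bot_iff.2 (two_inf_odd hS.2.1 (odd_oc ⊤) ▸ le_inf hle this)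
  exact m2 (le_centralizer_symm (le_cent_iff_comm.2 e) (mem_zpowers ρ))

theorem specEB : SpecEB.{u} := by
  intro G _ _ h3 hG g r hr r2 hg
  have h := eh_of_e3 h3 hr r2 hg
  have hG' : ¬ Group.IsSolvable (⊤ : Subgroup G) := fun hh => hG (CfsgCA.solv_top hh)
  refine (simple_case h (h.simp_of hG' (h.oc_eq_bot hG'))).resolve_left fun ⟨S, H, h2⟩ => ?_
  have h1 : g ^ r ≠ 1 := fun e => by
    have := Nat.le_of_dvd hr.pos (hg ▸ orderOf_dvd_of_pow_eq_one e)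
    have := hr.pos
    omega
  have := h.sq (h2.cent_two (mem_top _) h1 (by rw [← pow_add, ← two_mul, ← hg, pow_orderOf_eq_one]))
    g ⟨mem_top _, mem_c1.2 (Commute.self_pow g r).eq⟩
  rw [← pow_two] at this
  have := Nat.le_of_dvd two_pos (hg ▸ orderOf_dvd_of_pow_eq_one this)
  have := h.three
  omega

end CfsgEO
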