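import Cfsg.Agent.EO.Defs
import Cfsg.Agent.AG.GW1
import Cfsg.Agent.H1.Burnside

/-! WP EB, first part: the order condition and solvable subgroups. -/

set_option autoImplicit false
set_option linter.style.haveILetI false

namespace CfsgEO

open Subgroup CfsgFT CfsgL0 CfsgAG
open scoped commutatorElement

/-- elements of order divisible by `2` or `r` have order dividing `2 r` -/
structure EH (G : Type*) [Group G] (r : ℕ) : Prop where
  prime : r.Prime
  ne : r ≠ 2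
  even : ∀ g : G, 2 ∣ orderOf g → g ^ (2 * r) = 1
  rr : ∀ g : G, r ∣ orderOf g → g ^ (2 * r) = 1

variable {G : Type*} [Group G] {r : ℕ}

theorem eh_of_e3 (h : E3 G) {g : G} (hr : r.Prime) (h2 : r ≠ 2) (hg : orderOf g = 2 * r) :
    EH G r := by
  have r0 := hr.pos
  have r1 := hr.one_lt
  have o2 : orderOf (g ^ r) = 2 := by
    rw [orderOf_pow' _ hr.ne_zero, hg, Nat.gcd_mul_left_left, Nat.mul_div_cancel _ r0]
  have or : orderOf (g ^ 2) = r := by
    rw [orderOf_pow' _ two_ne_zero, hg, Nat.gcd_mul_right_left, Nat.mul_div_cancel_left _ two_pos]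
  refine ⟨hr, h2, fun x hx => ?_, fun x hx => ?_⟩
  · rw [← orderOf_dvd_iff_pow_eq_one]
    by_contra hn
    refine h 2 Nat.prime_two x g (g ^ r) (fun e => hn (by rw [e, hg])) (by rw [hg, o2]; omega)
      (fun e => hn (by rw [e, o2]; exact dvd_mul_right _ _)) ⟨hx, by rw [hg]; simp, by rw [o2]⟩
  · rw [← orderOf_dvd_iff_pow_eq_one]
    by_contra hn
    refine h r hr x g (g ^ 2) (fun e => hn (by rw [e, hg])) (by rw [hg, or]; omega)
      (fun e => hn (by rw [e, or]; exact dvd_mul_left _ _)) ⟨hx, by rw [hg]; simp, by rw [or]⟩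

theorem EH.of_surj {G' : Type*} [Group G'] (h : EH G r) (f : G →* G')
    (hf : Function.Surjective f) : EH G' r := by
  refine ⟨h.prime, h.ne, fun x hx => ?_, fun x hx => ?_⟩ <;> obtain ⟨y, rfl⟩ := hf x
  · rw [← map_pow, h.even y (hx.trans (orderOf_map_dvd f y)), map_one]
  · rw [← map_pow, h.rr y (hx.trans (orderOf_map_dvd f y)), map_one]

theorem EH.sub (h : EH G r) (X : Subgroup G) : EH X r := by
  refine ⟨h.prime, h.ne, fun x hx => Subtype.ext ?_, fun x hx => Subtype.ext ?_⟩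
  · exact h.even x (by rwa [orderOf_coe])
  · exact h.rr x (by rwa [orderOf_coe])

theorem EH.qt (h : EH G r) (N : Subgroup G) : EH (Qt N) r :=
  (h.sub _).of_surj (qp N) (qp_surj N)

theorem EH.odd (h : EH G r) : Odd r := h.prime.odd_of_ne_two h.ne

theorem EH.three (h : EH G r) : 3 ≤ r := by
  have := h.prime.two_le
  have := h.ne
  omega

theorem dvd_or_dvd {p : ℕ} (hp : p.Prime) {g x : G} (hx : orderOf x = p) (hc : g * x = x * g) :
    p ∣ orderOf g ∨ p ∣ orderOf (g * x) := by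
  by_contra hn
  rw [not_or] at hn
  have h1 : x ^ (orderOf (g * x) * orderOf g) = 1 := by
    have := pow_orderOf_eq_one (g * x)
    have e : (g * x) ^ (orderOf (g * x) * orderOf g) = 1 := by rw [pow_mul, this, one_pow]
    rwa [(show Commute g x from hc).mul_pow, mul_comm (orderOf (g * x)), pow_mul,
      pow_orderOf_eq_one, one_pow, one_mul, mul_comm] at e
  rw [← orderOf_dvd_iff_pow_eq_one, hx, hp.dvd_mul] at h1
  tauto

theorem EH.pow_of_inv (h : EH G r) {t g : G} (h1 : t ≠ 1) (ht : t * t = 1) (hc : g * t = t * g) :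
    g ^ (2 * r) = 1 := by
  rcases dvd_or_dvd Nat.prime_two (orderOf_eq_two' h1 ht) hc with e | e
  · exact h.even g e
  · have := h.even _ e
    rwa [(show Commute g t from hc).mul_pow, pow_mul t, sq, ht, one_pow, mul_one] at this

theorem EH.pow_of_r (h : EH G r) {x g : G} (h1 : x ≠ 1) (hx : x ^ r = 1) (hc : g * x = x * g) :
    g ^ (2 * r) = 1 := by
  haveI := Fact.mk h.prime
  rcases dvd_or_dvd h.prime (orderOf_eq_prime hx h1) hc with e | e
  · exact h.rr g e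
  · have := h.rr _ e
    rwa [(show Commute g x from hc).mul_pow, mul_comm 2 r, pow_mul x, hx, one_pow, mul_one,
      mul_comm r 2] at this

theorem EH.pow_of_comm (h : EH G r) {x g : G} (h1 : x ≠ 1) (hx : x ^ (2 * r) = 1)
    (hc : g * x = x * g) : g ^ (2 * r) = 1 := by
  by_cases e : x ^ r = 1
  · exact h.pow_of_r h1 e hc
  · refine h.pow_of_inv e (by rw [← pow_add, ← two_mul, hx]) ?_
    exact ((show Commute g x from hc).pow_right r).eq

theorem pow_eq_one_of_odd {g : G} {n : ℕ} (ho : Odd (orderOf g)) (h : g ^ (2 * n) = 1) :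
    g ^ n = 1 := by
  rw [← orderOf_dvd_iff_pow_eq_one] at h ⊢
  exact (Nat.coprime_two_right.2 ho).dvd_of_dvd_mul_left h

theorem odd_of_pow {g : G} {n : ℕ} (hn : Odd n) (h : g ^ n = 1) : Odd (orderOf g) :=
  hn.of_dvd_nat (orderOf_dvd_of_pow_eq_one h)

variable [Finite G]

theorem EH.sq (h : EH G r) {S : Subgroup G} (hS : IsPGroup 2 S) : ∀ v ∈ S, v * v = 1 := by
  intro v hv
  obtain ⟨k, hk⟩ := hS ⟨v, hv⟩
  have h1 : v ^ 2 ^ k = 1 := congrArg Subtype.val hk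
  rw [← orderOf_dvd_iff_pow_eq_one] at h1
  obtain ⟨j, -, hj⟩ := (Nat.dvd_prime_pow Nat.prime_two).1 h1
  rw [← pow_two, ← orderOf_dvd_iff_pow_eq_one]
  rcases j with _ | j
  · rw [hj]; simp
  · have h2 := h.even v (by rw [hj]; exact dvd_pow_self 2 (by omega))
    rw [← orderOf_dvd_iff_pow_eq_one] at h2
    refine Nat.Coprime.dvd_of_dvd_mul_right ?_ h2
    rw [hj]
    exact Nat.Coprime.pow_left _ (Nat.coprime_two_left.2 h.odd)

theorem EH.comm (h : EH G r) {S : Subgroup G} (hS : IsPGroup 2 S) : S ≤ 𝒞 S :=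
  comm_of_sq (h.sq hS)

theorem EH.pow_r (h : EH G r) {D : Subgroup G} (hD : IsPGroup r D) : ∀ g ∈ D, g ^ r = 1 := by
  intro v hv
  obtain ⟨k, hk⟩ := hD ⟨v, hv⟩
  have h1 : v ^ r ^ k = 1 := congrArg Subtype.val hk
  have ho := odd_of_pow h.odd.pow h1
  rw [← orderOf_dvd_iff_pow_eq_one] at h1
  obtain ⟨j, -, hj⟩ := (Nat.dvd_prime_pow h.prime).1 h1
  rcases j with _ | j
  · rw [← orderOf_dvd_iff_pow_eq_one, hj]; simp
  · exact pow_eq_one_of_odd ho (h.rr v (by rw [hj]; exact dvd_pow_self r (by omega)))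

theorem EH.odd_pg (h : EH G r) {D : Subgroup G} (hD : IsPGroup r D) : Odd #D :=
  haveI := Fact.mk h.prime
  W1.odd_pgroup h.ne hD

theorem EH.solv (h : EH G r) {X : Subgroup G} (hX : ∀ g ∈ X, g ^ (2 * r) = 1) :
    Group.IsSolvable X := by
  refine CfsgH1.isSolvable_of_two_primes Nat.prime_two h.prime _ X rfl fun p hp hd => ?_
  haveI := Fact.mk hp
  obtain ⟨g, hg⟩ := exists_prime_orderOf_dvd_card' p hd
  have := orderOf_dvd_of_pow_eq_one (hX g g.2)
  rw [orderOf_coe, hg, hp.dvd_mul, Nat.prime_dvd_prime_iff_eq hp Nat.prime_two,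
    Nat.prime_dvd_prime_iff_eq hp h.prime] at this
  exact this

theorem EH.solv_c1 (h : EH G r) {x : G} (h1 : x ≠ 1) (hx : x ^ (2 * r) = 1) :
    Group.IsSolvable (𝒞₁ x) :=
  h.solv fun _ hg => h.pow_of_comm h1 hx (mem_c1.1 hg)

theorem EH.pow_inv (_h : EH G r) {t : G} (ht : t * t = 1) : t ^ (2 * r) = 1 := by
  rw [pow_mul, pow_two, ht, one_pow]

theorem EH.solv_inv (h : EH G r) {t : G} (h1 : t ≠ 1) (ht : t * t = 1) :
    Group.IsSolvable (𝒞₁ t) := h.solv_c1 h1 (h.pow_inv ht)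

theorem EH.pg_of_pow (_h : EH G r) {D : Subgroup G} (hD : Odd #D)
    (hp : ∀ g ∈ D, g ^ (2 * r) = 1) : IsPGroup r D := fun g =>
  ⟨1, Subtype.ext (by
    rw [pow_one]; exact pow_eq_one_of_odd (odd_orderOf_of_mem hD g.2) (hp g g.2))⟩

theorem EH.pg_of_inv (h : EH G r) {D : Subgroup G} (hD : Odd #D) {t : G} (h1 : t ≠ 1)
    (ht : t * t = 1) (hc : D ≤ 𝒞₁ t) : IsPGroup r D :=
  h.pg_of_pow hD fun _ hg => h.pow_of_inv h1 ht (mem_c1.1 (hc hg))

/-- an odd subgroup normalised by a non-cyclic 2-group is an `r`-group -/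
theorem EH.pg (h : EH G r) {S D : Subgroup G} (hS : IsPGroup 2 S) (h4 : 4 ≤ #S) (hD : Odd #D)
    (hn : S ≤ 𝒩 D) : IsPGroup r D := by
  haveI := Fact.mk h.prime
  obtain ⟨R, hR, hn'⟩ := CfsgH2.exists_invariant_sylow (p := r) hn (coprime_two_of_odd hS hD)
    (Or.inl (solv_two hS))
  refine hR.2.1.to_le (CfsgH2.le_of_forall_sylow fun q hq _ => ?_)
  haveI := Fact.mk hq
  by_cases e : q = r
  · subst e; exact ⟨R, hR, le_rfl⟩
  obtain ⟨P, hP, hP'⟩ := CfsgH2.exists_invariant_sylow (p := q) hn (coprime_two_of_odd hS hD)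
    (Or.inl (solv_two hS))
  refine ⟨P, hP, (le_bot_of_cent (h.sq hS) h4 (odd_of_le hP.1 hD) hP' fun v hv v1 => ?_).trans
    bot_le⟩
  rw [← IsPGroup.inf_eq_bot' e hP.2.1 (h.pg_of_inv (D := P ⊓ 𝒞₁ v)
    (odd_of_le (inf_le_left.trans hP.1) hD) v1 (h.sq hS v hv) inf_le_right)]
  exact le_inf inf_le_left le_rfl

/-- a non-solvable group of even order has trivial centraliser -/
theorem EH.cent_eq_bot (h : EH G r) {L : Subgroup G} (hL : ¬ Group.IsSolvable L) : 𝒞 L = ⊥ := by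
  refine eq_bot_iff.2 fun g hg => ?_
  by_contra g1
  obtain ⟨S, hS⟩ := CfsgH2.exists_isSylowOf (p := 2) L
  have h0 : S ≠ ⊥ := fun e => hL (solvable_of_normal_syl hS (by rw [e]; exact le_normalizer_of_le_centralizer (le_centralizer_symm bot_le)))
  obtain ⟨t, ht, t1, tt⟩ := exists_inv hS.2.1 h0
  have hL' : L ≤ 𝒞₁ g := fun x hx => mem_c1.2 (mem_cent_iff.1 hg x hx).symm
  exact hL (CfsgH2.isSolvable_of_le hL' (h.solv_c1 g1
    (h.pow_of_inv t1 tt (mem_cent_iff.1 hg t (hS.1 ht)))))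

section solv

variable {Y S D : Subgroup G}

theorem qm_syl_eq (hs : Group.IsSolvable Y) (hS : IsSylowOf 2 S Y) (hc : S ≤ 𝒞 S) :
    qm (Oc Y) S = pCoreOf 2 (bar Y) := by
  have h1 := pCoreOf_le_sylow (sylow_qm le_norm_oc hS)
  refine le_antisymm ((le_inf (qm_mono hS.1) ?_).trans
    (inf_centralizer_pCoreOf_le (isSolvable_qm hs) (oc_bar Y))) h1
  exact (qm_le_centralizer hc).trans (cent_anti h1)

theorem solv_norm (hs : Group.IsSolvable Y) (hS : IsSylowOf 2 S Y) (hc : S ≤ 𝒞 S) :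
    Y ≤ 𝒩 (Oc Y ⊔ S) := by
  rw [← qm_le_normalizer_iff le_norm_oc (hS.1.trans le_norm_oc), qm_syl_eq hs hS hc]
  exact le_normalizer_pCoreOf

theorem solv_gen (hs : Group.IsSolvable Y) (hS : IsSylowOf 2 S Y) (hc : S ≤ 𝒞 S) :
    Y ≤ Oc Y ⊔ (Y ⊓ 𝒩 S) :=
  (le_inf le_rfl (solv_norm hs hS hc)).trans
    (norm_le_sup (odd_oc Y) le_norm_oc oc_le (hS.1.trans le_norm_oc) hS.2.1)

theorem solv_odd_le (hs : Group.IsSolvable Y) (hS : IsSylowOf 2 S Y) (hc : S ≤ 𝒞 S)
    (hD : Odd #D) (hDY : D ≤ Y) (hn : S ≤ 𝒩 D) : D ≤ Oc Y := by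
  have hDn : D ≤ 𝒩 (Oc Y) := hDY.trans le_norm_oc
  have hD' : Odd #(qm (Oc Y) D) := odd_card_qm hD
  have h2 : IsPGroup 2 (pCoreOf 2 (bar Y)) := isPGroup_pCoreOf
  have hN : qm (Oc Y) D ≤ 𝒩 (pCoreOf 2 (bar Y)) := (qm_mono hDY).trans le_normalizer_pCoreOf
  rw [← qm_eq_bot_iff hDn, ← le_bot_iff, ← two_inf_odd h2 hD']
  refine le_inf ((le_inf (qm_mono hDY) ?_).trans
    (inf_centralizer_pCoreOf_le (isSolvable_qm hs) (oc_bar Y))) le_rfl
  rw [le_cent_iff_comm, ← le_bot_iff, ← two_inf_odd h2 hD', inf_comm]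
  exact commutator_le_inf_of_le_normalizer hN
    ((qm_syl_eq hs hS hc).ge.trans (qm_le_normalizer hn))

end solv

end CfsgEO
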