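import Cfsg.Agent.EO.EB1
import Cfsg.Agent.AG.SE1
import Cfsg.Agent.H2.Sig7

/-! WP EB, second part: the simple groups. -/

set_option autoImplicit false
set_option linter.style.haveILetI false

namespace CfsgEO

open Subgroup CfsgFT CfsgL0 CfsgAG CfsgAG.W1 CfsgAG.GW
open scoped commutatorElement

universe u

section
variable {G : Type*} [Group G] [Finite G] {r : ℕ}

omit [Finite G] in
theorem mem_of_pow_coprime {C : Subgroup G} {g : G} {a b : ℕ} (hab : a.Coprime b)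
    (ha : g ^ a ∈ C) (hb : g ^ b ∈ C) : g ∈ C := by
  have e : g = (g ^ a) ^ Nat.gcdA a b * (g ^ b) ^ Nat.gcdB a b := by
    rw [← zpow_natCast, ← zpow_natCast, ← zpow_mul, ← zpow_mul, ← zpow_add, ← Nat.gcd_eq_gcd_ab,
      hab.gcd_eq_one, Nat.cast_one, zpow_one]
  rw [e]
  exact mul_mem (zpow_mem ha _) (zpow_mem hb _)

omit [Finite G] in
theorem exists_prime_step {C : Subgroup G} (n : ℕ) : n ≠ 0 → ∀ g : G, g ^ n ∈ C → g ∉ C →
    ∃ p k : ℕ, p.Prime ∧ g ^ k ∉ C ∧ (g ^ k) ^ p ∈ C := by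
  induction n using induction_on_primes with
  | zero => simp
  | one => intro _ g h1 h2; exact absurd (by simpa using h1) h2
  | prime_mul p a hp ih =>
    intro h0 g h1 h2
    by_cases e : g ^ a ∈ C
    · exact ih (right_ne_zero_of_mul h0) g e h2
    · exact ⟨p, a, hp, e, by rwa [← pow_mul, mul_comm]⟩

/-- an element of odd prime order acting non-trivially on a Sylow 2-subgroup -/
theorem EH.exists_prime (h : EH G r) {S : Subgroup G} (hS : IsSylowOf 2 S ⊤) {g : G}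
    (hg : g ∈ 𝒩 S) (hc : g ∉ 𝒞 S) :
    ∃ p : ℕ, p.Prime ∧ p ≠ 2 ∧ ∃ ρ ∈ zpowers g, ρ ∉ 𝒞 S ∧ ρ ^ p = 1 := by
  have cS := h.comm hS.2.1
  obtain ⟨p, k, hp, h1, h2⟩ := exists_prime_step (orderOf g) (orderOf_pos g).ne' g
    (by rw [pow_orderOf_eq_one]; exact one_mem _) hc
  have hk : g ^ k ∈ 𝒩 S := pow_mem hg k
  have p2 : p ≠ 2 := by
    rintro rfl
    exact h1 (mem_of_sq hS cS hk (by rwa [← pow_two]))
  have h0 : S ≠ ⊥ := fun e => hc (by rw [e]; exact le_centralizer_symm bot_le (mem_top g))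
  obtain ⟨t, ht, t1, tt⟩ := exists_inv hS.2.1 h0
  by_cases e : p = r
  · subst e
    refine ⟨p, hp, p2, g ^ k * g ^ k, mul_mem (pow_mem (mem_zpowers g) k) (pow_mem (mem_zpowers g) k),
      fun hh => h1 (mem_of_sq hS cS hk hh), ?_⟩
    rw [← pow_two, ← pow_mul]
    refine h.rr _ ?_
    by_contra hn
    exact h1 (mem_of_pow_coprime ((Nat.Prime.coprime_iff_not_dvd hp).2 hn) h2
      (by rw [pow_orderOf_eq_one]; exact one_mem _))
  · refine ⟨p, hp, p2, (g ^ k) ^ (2 * r), pow_mem (pow_mem (mem_zpowers g) k) _, fun hh => h1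
      (mem_of_pow_coprime (Nat.Coprime.mul_right ((Nat.coprime_primes hp Nat.prime_two).2 p2)
        ((Nat.coprime_primes hp h.prime).2 e)) h2 hh), ?_⟩
    rw [← pow_mul, mul_comm, pow_mul]
    exact h.pow_of_inv t1 tt (mem_cent_iff.1 h2 t ht)

theorem EH.pow_eq_one (h : EH G r) {X : Subgroup G} (hX : IsPGroup r X) {p : ℕ} (hp : p.Prime)
    (p2 : p ≠ 2) {w ρ : G} (hw : w ∈ X) (hρ : ρ ^ p = 1) (h1 : ρ ≠ 1) (hm : (w * ρ) ^ p ∈ X) :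
    (w * ρ) ^ p = 1 := by
  by_contra hn
  haveI := Fact.mk h.prime
  have a1 := h.pow_r hX _ hm
  have a2 : r ∣ orderOf (w * ρ) := by
    rw [← orderOf_eq_prime a1 hn]; exact orderOf_pow_dvd p
  have a3 : (w * ρ) ^ r = 1 := pow_eq_one_of_odd
    (odd_of_pow ((hp.odd_of_ne_two p2).mul h.odd) (by rw [pow_mul, a1])) (h.rr _ a2)
  by_cases e : p = r
  · exact hn (e ▸ a3)
  have hc := (Nat.coprime_primes hp h.prime).2 e
  have a4 : ρ ∈ X := (X.mul_mem_cancel_left hw).1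
    (mem_of_pow_coprime hc hm (by rw [a3]; exact one_mem _))
  exact h1 (mem_bot.1 (mem_of_pow_coprime hc (mem_bot.2 hρ) (mem_bot.2 (h.pow_r hX _ a4))))

end

variable {G : Type u} [Group G] [Finite G] {r : ℕ}

/-- 2-rank at least three -/
theorem rank3 (h : EH G r) (hs : Simp (⊤ : Subgroup G)) {S : Subgroup G} (hS : IsSylowOf 2 S ⊤)
    {E : Subgroup G} (hE : EA 2 3 E) (hES : E ≤ S) : ∃ H, T2 ⊤ S H := by
  have hc := h.comm hS.2.1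
  have hq := h.sq hS.2.1
  have hO : ∀ {a : G}, a ∈ S → S ≤ 𝒩 (Oc (𝒞₁ a)) := fun ha =>
    (le_c1 hc ha).trans le_normalizer_pPrimeCoreOf
  have hy : ∀ {a : G}, a ∈ S → IsSylowOf 2 S (𝒞₁ a) := fun ha => hS.mono (le_c1 hc ha) le_top
  obtain ⟨W, -, -, w3, w4, -⟩ := CfsgSig.solv_sft (p := 2) (A := S) (θ := fun a => Oc (𝒞₁ a))
    (elem_of_sq hq).1 hES hE
    (fun _ _ _ => pPrimeCoreOf_le) (fun _ _ _ => not_dvd_pPrime _)
    (fun a ha _ => hO ha) (fun _ _ _ => solvable_oc _)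
    fun a ha _ b hb b1 => solv_odd_le (h.solv_inv b1 (hq b hb)) (hy hb) hc
      (odd_of_le inf_le_left (odd_oc _)) inf_le_right
      (CfsgH2.le_normalizer_inf (hO ha) ((le_c1 hc hb).trans le_normalizer))
  have hW : ∀ a ∈ S, a ≠ 1 → Oc (𝒞₁ a) ≤ W := fun a ha a1 =>
    w4 ▸ le_iSup_of_le (f := fun a : {a : G // a ∈ S ∧ a ≠ 1} => Oc (𝒞₁ (a : G)))
      ⟨a, ha, a1⟩ le_rfl
  have hN : 𝒩 S ≤ 𝒩 W := fun n hn => mem_normalizer_of_cj_le (by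
    nth_rw 1 [← w4]
    rw [cj, Subgroup.map_iSup]
    refine iSup_le fun ⟨a, ha, a1⟩ => ?_
    exact (cj_oc n _).le.trans (by
      rw [cj_centralizer_singleton]
      exact hW _ (conj_mem_of_mem_norm hn ha) (conj_ne_one a1)))
  have hM : 𝒩 S ≤ 𝒩 (W ⊔ S) := CfsgH2.le_normalizer_sup hN le_rfl
  have h0 : W ⊔ S ≠ ⊥ := fun e => by
    have := hE.2
    rw [eq_bot_iff.2 (hES.trans (le_sup_right.trans e.le)), card_bot] at this
    norm_num at this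
  refine (le_or_t2 specSE hs hS hc (inf_le_right.trans hM) fun v hv v1 vv =>
    inf_le_right.trans ((solv_gen (h.solv_inv v1 vv) (hy hv) hc).trans (sup_le
      ((hW v hv v1).trans (le_sup_left.trans le_normalizer)) (inf_le_right.trans hM)))).resolve_left
    fun e => ?_
  exact hs.norm_ne_top_of_solvable h0 (solvable_sup (le_normalizer.trans hN) w3
    (solv_two hS.2.1)) (top_le_iff.1 e)

/-- the standing hypotheses in 2-rank two -/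
structure R2 (r : ℕ) (V : Subgroup G) (t s : G) : Prop where
  eh : EH G r
  simp : Simp (⊤ : Subgroup G)
  t_ne : t ≠ 1
  s_ne : s ≠ 1
  ts_ne : t ≠ s
  tt : t * t = 1
  ss : s * s = 1
  comm : t * s = s * t
  V_eq : V = closure {t, s}
  syl : IsSylowOf 2 V ⊤
  nt : ¬ ∃ H, T2 ⊤ V H

variable {V : Subgroup G} {t s : G}

namespace R2

variable (h : R2 r V t s)
include h

theorem mem {v : G} : v ∈ V ↔ v = 1 ∨ v = t ∨ v = s ∨ v = t * s := by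
  rw [h.V_eq]; exact mem_four h.tt h.ss h.comm

theorem card : #V = 4 := by
  rw [h.V_eq]; exact card_four h.t_ne h.s_ne h.ts_ne h.tt h.ss h.comm

theorem sq : ∀ v ∈ V, v * v = 1 := by
  rw [h.V_eq]; exact sq_four h.tt h.ss h.comm

theorem two : IsPGroup 2 V := h.syl.2.1

theorem cV : V ≤ 𝒞 V := comm_of_sq h.sq

theorem t_mem : t ∈ V := h.mem.2 (by simp)

theorem s_mem : s ∈ V := h.mem.2 (by simp)

theorem ts_mem : t * s ∈ V := mul_mem h.t_mem h.s_mem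

theorem ts_ne_one : t * s ≠ 1 := fun e =>
  h.ts_ne (by rw [← inv_eq_self h.ss]; exact eq_inv_of_mul_eq_one_left e)

theorem ts_ne_t : t * s ≠ t := by simpa using h.s_ne

theorem ts_ne_s : t * s ≠ s := by simpa using h.t_ne

theorem tts : t * (t * s) = s := by rw [← mul_assoc, h.tt, one_mul]

theorem le_iff {X : Subgroup G} : V ≤ X ↔ t ∈ X ∧ s ∈ X := by
  refine ⟨fun hx => ⟨hx h.t_mem, hx h.s_mem⟩, fun hx => ?_⟩
  rw [h.V_eq, closure_le]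
  rintro x (rfl | rfl)
  exacts [hx.1, hx.2]

theorem mem_cent {g : G} : g ∈ 𝒞 V ↔ g ∈ 𝒞₁ t ∧ g ∈ 𝒞₁ s := by
  have : g ∈ 𝒞 V ↔ V ≤ 𝒞₁ g := by
    rw [mem_cent_iff]
    exact ⟨fun hh v hv => mem_c1.2 (hh v hv).symm, fun hh v hv => (mem_c1.1 (hh hv)).symm⟩
  rw [this, h.le_iff, mem_c1, mem_c1, mem_c1, mem_c1, eq_comm, eq_comm (a := s * g)]

theorem V_le {v : G} (hv : v ∈ V) : V ≤ 𝒞₁ v := le_c1 h.cV hv

theorem cV_le {v : G} (hv : v ∈ V) : 𝒞 V ≤ 𝒞₁ v := centralizer_le (by simpa using hv)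

theorem syl_of {Y : Subgroup G} (hY : V ≤ Y) : IsSylowOf 2 V Y := h.syl.mono hY le_top

protected theorem «at» {v w : G} (hv : v ∈ V) (hw : w ∈ V) (h1 : v ≠ 1) (h2 : w ≠ 1)
    (h3 : v ≠ w) : R2 r V v w :=
  ⟨h.eh, h.simp, h1, h2, h3, h.sq v hv, h.sq w hw, le_cent_iff.1 h.cV v hv w hw,
    (closure_eq_of_four h.card h.sq hv hw h1 h2 h3).symm, h.syl, h.nt⟩

theorem fix_t {g : G} (hg : g ∈ 𝒩 V) (ht : g ∈ 𝒞₁ t) : g ∈ 𝒞 V := by
  have e := conj_eq_iff.2 ht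
  refine mem_of_sq h.syl h.cV hg (h.mem_cent.2 ⟨mul_mem ht ht, conj_eq_iff.1 ?_⟩)
  have e2 : g * g * s * (g * g)⁻¹ = g * (g * s * g⁻¹) * g⁻¹ := by group
  rw [e2]
  rcases h.mem.1 (conj_mem_of_mem_norm hg h.s_mem) with e1 | e1 | e1 | e1
  · exact absurd e1 (conj_ne_one h.s_ne)
  · exact absurd (conj_inj (e1.trans e.symm)) h.ts_ne.symm
  · rw [e1, e1]
  · have : g * (t * s) * g⁻¹ = (g * t * g⁻¹) * (g * s * g⁻¹) := by group
    rw [e1, this, e, e1, h.tts]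

theorem fix {g v : G} (hg : g ∈ 𝒩 V) (hv : v ∈ V) (h1 : v ≠ 1) (ht : g ∈ 𝒞₁ v) : g ∈ 𝒞 V := by
  by_cases e : v = t
  · exact h.fix_t hg (e ▸ ht)
  · exact (h.at hv h.t_mem h1 h.t_ne e).fix_t hg ht

theorem rho_of {g : G} (hg : g ∈ 𝒩 V) (hc : g ∉ 𝒞 V) :
    ∃ ρ, (ρ = g ∨ ρ = g⁻¹) ∧ ρ * t * ρ⁻¹ = s ∧ ρ * s * ρ⁻¹ = t * s := by
  have m : g * (t * s) * g⁻¹ = (g * t * g⁻¹) * (g * s * g⁻¹) := by group
  have n1 : g * t * g⁻¹ ≠ t := fun e => hc (h.fix hg h.t_mem h.t_ne (conj_eq_iff.1 e))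
  have n2 : g * s * g⁻¹ ≠ s := fun e => hc (h.fix hg h.s_mem h.s_ne (conj_eq_iff.1 e))
  have n3 : g * (t * s) * g⁻¹ ≠ t * s := fun e =>
    hc (h.fix hg h.ts_mem h.ts_ne_one (conj_eq_iff.1 e))
  rcases h.mem.1 (conj_mem_of_mem_norm hg h.t_mem) with e1 | e1 | e1 | e1
  · exact absurd e1 (conj_ne_one h.t_ne)
  · exact absurd e1 n1
  · rcases h.mem.1 (conj_mem_of_mem_norm hg h.s_mem) with e2 | e2 | e2 | e2
    · exact absurd e2 (conj_ne_one h.s_ne)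
    · exact absurd (by rw [m, e1, e2, h.comm]) n3
    · exact absurd e2 n2
    · exact ⟨g, Or.inl rfl, e1, e2⟩
  · rcases h.mem.1 (conj_mem_of_mem_norm hg h.s_mem) with e2 | e2 | e2 | e2
    · exact absurd e2 (conj_ne_one h.s_ne)
    · refine ⟨g⁻¹, Or.inr rfl, by rw [← e2]; group, ?_⟩
      have : g * (t * s) * g⁻¹ = s := by
        rw [m, e1, e2, mul_assoc, ← h.comm, h.tts]
      conv_lhs => rw [← this]
      group
    · exact absurd e2 n2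
    · exact absurd (conj_inj (e1.trans e2.symm)) h.ts_ne

theorem not_le : ¬ 𝒩 V ≤ 𝒞 V := fun hh => by
  have := cent_norm_eq_bot h.simp.perfect h.syl h.cV
  rw [top_inf_eq] at this
  exact h.t_ne (mem_bot.1 (this ▸ ⟨h.t_mem, le_centralizer_symm hh h.t_mem⟩))

theorem mem_norm_of {ρ : G} (h1 : ρ * t * ρ⁻¹ = s) (h2 : ρ * s * ρ⁻¹ = t * s) : ρ ∈ 𝒩 V := by
  refine mem_normalizer_of_cj_le ?_
  rw [cj_le_iff_le_cj_inv, h.le_iff, mem_cj, mem_cj, inv_inv, h1, h2]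
  exact ⟨h.s_mem, h.ts_mem⟩

theorem trans_of {ρ : G} (h1 : ρ * t * ρ⁻¹ = s) (h2 : ρ * s * ρ⁻¹ = t * s) {v : G} (hv : v ∈ V)
    (hv1 : v ≠ 1) : ∃ g ∈ zpowers ρ, g * t * g⁻¹ = v := by
  rcases h.mem.1 hv with e | e | e | e
  · exact absurd e hv1
  · exact ⟨1, one_mem _, by simp [e]⟩
  · exact ⟨ρ, mem_zpowers ρ, e ▸ h1⟩
  · refine ⟨ρ * ρ, mul_mem (mem_zpowers ρ) (mem_zpowers ρ), ?_⟩
    rw [e, ← h2, ← h1]; group

theorem rho : ∃ ρ ∈ 𝒩 V, ρ * t * ρ⁻¹ = s ∧ ρ * s * ρ⁻¹ = t * s := by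
  obtain ⟨g, hg, hc⟩ := SetLike.not_le_iff_exists.1 h.not_le
  obtain ⟨ρ, -, h1, h2⟩ := h.rho_of hg hc
  exact ⟨ρ, h.mem_norm_of h1 h2, h1, h2⟩

theorem trans {v : G} (hv : v ∈ V) (hv1 : v ≠ 1) : ∃ g ∈ 𝒩 V, g * t * g⁻¹ = v := by
  obtain ⟨ρ, hρ, h1, h2⟩ := h.rho
  obtain ⟨g, hg, e⟩ := h.trans_of h1 h2 hv hv1
  exact ⟨g, zpowers_le.2 hρ hg, e⟩

theorem conj {v : G} (h1 : v ≠ 1) (hv : v * v = 1) : ∃ g : G, g * t * g⁻¹ = v := by
  obtain ⟨x, -, hx⟩ := exists_conj_mem_syl h.syl (mem_top v) hv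
  obtain ⟨g, -, e⟩ := h.trans hx (conj_ne_one h1)
  exact ⟨x⁻¹ * g, by
    rw [show x⁻¹ * g * t * (x⁻¹ * g)⁻¹ = x⁻¹ * (g * t * g⁻¹) * x by group, e]; group⟩

/-- a subgroup containing `ρ` and `C(V)` contains `N(V)` -/
theorem norm_le {Y : Subgroup G} {ρ : G} (h1 : ρ * t * ρ⁻¹ = s) (h2 : ρ * s * ρ⁻¹ = t * s)
    (hρ : ρ ∈ Y) (hY : 𝒞 V ≤ Y) : 𝒩 V ≤ Y := by
  intro n hn
  obtain ⟨g, hg, e⟩ := h.trans_of h1 h2 (conj_mem_of_mem_norm hn h.t_mem) (conj_ne_one h.t_ne)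
  have hgN : g ∈ 𝒩 V := zpowers_le.2 (h.mem_norm_of h1 h2) hg
  have : g⁻¹ * n ∈ 𝒞 V := h.fix_t (mul_mem (inv_mem hgN) hn) (conj_eq_iff.1 (by
    rw [show g⁻¹ * n * t * (g⁻¹ * n)⁻¹ = g⁻¹ * (n * t * n⁻¹) * g by group, ← e]; group))
  simpa using mul_mem (zpowers_le.2 hρ hg) (hY this)

theorem NT {Y : Subgroup G} (hY : Y ≠ ⊤) (hC : 𝒞₁ t ≤ Y) : Y ⊓ 𝒩 V ≤ 𝒞 V := by
  intro g hg
  by_contra hc
  obtain ⟨ρ, hρ, h1, h2⟩ := h.rho_of hg.2 hc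
  have hρY : ρ ∈ Y := by
    rcases hρ with rfl | rfl
    exacts [hg.1, inv_mem hg.1]
  refine (le_or_t2 specSE h.simp h.syl h.cV (M := Y) (inf_le_right.trans (h.norm_le h1 h2 hρY
    ((h.cV_le h.t_mem).trans hC))) fun v hv hv1 _ => ?_).elim (fun e => hY (top_le_iff.1 e)) h.nt
  obtain ⟨x, hx, e⟩ := h.trans_of h1 h2 hv hv1
  rw [← e, ← cj_centralizer_singleton]
  exact inf_le_right.trans (cj_le_of_mem (zpowers_le.2 hρY hx) hC)

theorem pnil {Y : Subgroup G} (hV : V ≤ Y) (hY : Y ⊓ 𝒩 V ≤ 𝒞 V) : PNil 2 Y :=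
  bg1_18 (h.syl_of hV) hY

theorem oc_sup {Y : Subgroup G} (hV : V ≤ Y) (hY : PNil 2 Y) : Oc Y ⊔ V = Y :=
  (PNil_sdp hY (h.syl_of hV)).sup_eq

theorem pnil_H : PNil 2 (𝒞₁ t) :=
  h.pnil (h.V_le h.t_mem) (h.NT (h.simp.cent_ne_top h.t_ne) le_rfl)

theorem le_R {D : Subgroup G} (hD : D ≤ 𝒞₁ t) (ho : Odd #D) : D ≤ Oc (𝒞₁ t) :=
  GW.odd_le_oc h.pnil_H hD ho

theorem pg {D : Subgroup G} (hD : Odd #D) (hn : V ≤ 𝒩 D) : IsPGroup r D :=
  h.eh.pg h.two h.card.ge hD hn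

theorem a4_aux {X : Subgroup G} (hX : IsPGroup r X) {ρ : G} (h1 : ρ * t * ρ⁻¹ = s)
    (h2 : ρ * s * ρ⁻¹ = t * s) (h3 : ρ ^ 3 = 1) (hV : V ≤ 𝒩 X) (hρ : ρ ∈ 𝒩 X) :
    X ⊓ 𝒞₁ t ≤ 𝒞 V := by
  intro y hy
  refine h.mem_cent.2 ⟨hy.2, mem_c1.2 ?_⟩
  have ns : s ∈ 𝒩 (X ⊓ 𝒞₁ t : Subgroup G) :=
    norm_inf hV ((h.V_le h.t_mem).trans le_normalizer) h.s_mem
  obtain ⟨w, hw⟩ : ∃ w, w = y * (s * y⁻¹ * s⁻¹) := ⟨_, rfl⟩
  have wm : w ∈ X ⊓ 𝒞₁ t := hw ▸ mul_mem hy (conj_mem_of_mem_norm ns (inv_mem hy))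
  have si := inv_eq_self h.ss
  have c1 : s * w * s⁻¹ = w⁻¹ := by
    calc _ = s * y * s⁻¹ * (s * s) * y⁻¹ * (s * s)⁻¹ := by rw [hw]; group
      _ = _ := by rw [h.ss, hw]; group
  have c0 : t * w * t⁻¹ = w := by rw [← mem_c1.1 wm.2]; group
  have h4 : ρ * (t * s) * ρ⁻¹ = t := by
    calc _ = (ρ * t * ρ⁻¹) * (ρ * s * ρ⁻¹) := by group
      _ = _ := by rw [h1, h2, ← mul_assoc, ← h.comm, mul_assoc, h.ss, mul_one]
  have m2 : ρ * w * ρ⁻¹ ∈ X := conj_mem_of_mem_norm hρ wm.1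
  have m3 : ρ * (ρ * w * ρ⁻¹) * ρ⁻¹ ∈ X := conj_mem_of_mem_norm hρ m2
  have e0 : (w * ρ) ^ 3 = w * (ρ * w * ρ⁻¹) * (ρ * (ρ * w * ρ⁻¹) * ρ⁻¹) := by
    calc _ = w * (ρ * w * ρ⁻¹) * (ρ * (ρ * w * ρ⁻¹) * ρ⁻¹) * ρ ^ 3 := by
          rw [pow_three, pow_three]; group
      _ = _ := by rw [h3, mul_one]
  have e1 := h.eh.pow_eq_one hX Nat.prime_three (by norm_num) wm.1 h3
    (by rintro rfl; exact h.ts_ne (by simpa using h1)) (e0 ▸ mul_mem (mul_mem wm.1 m2) m3)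
  rw [e0] at e1
  have c2 : t * (ρ * w * ρ⁻¹) * t⁻¹ = (ρ * w * ρ⁻¹)⁻¹ := by
    calc _ = ρ * (t * s) * ρ⁻¹ * (ρ * w * ρ⁻¹) * (ρ * (t * s) * ρ⁻¹)⁻¹ := by rw [h4]
      _ = ρ * (t * (s * w * s⁻¹) * t⁻¹) * ρ⁻¹ := by group
      _ = ρ * (t * w * t⁻¹)⁻¹ * ρ⁻¹ := by rw [c1]; group
      _ = _ := by rw [c0]; group
  have c3 : t * (ρ * (ρ * w * ρ⁻¹) * ρ⁻¹) * t⁻¹ = (ρ * (ρ * w * ρ⁻¹) * ρ⁻¹)⁻¹ := by
    calc _ = ρ * (ρ * s * ρ⁻¹) * ρ⁻¹ * (ρ * (ρ * w * ρ⁻¹) * ρ⁻¹) *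
          (ρ * (ρ * s * ρ⁻¹) * ρ⁻¹)⁻¹ := by rw [h2, h4]
      _ = ρ * (ρ * (s * w * s⁻¹) * ρ⁻¹) * ρ⁻¹ := by group
      _ = _ := by rw [c1]; simp only [mul_inv_rev, inv_inv, mul_assoc]
  generalize ρ * (ρ * w * ρ⁻¹) * ρ⁻¹ = c at *
  generalize ρ * w * ρ⁻¹ = b at *
  have e2 : w * b⁻¹ * c⁻¹ = 1 := by
    rw [← c2, ← c3, ← c0]
    calc _ = t * (w * b * c) * t⁻¹ := by group
      _ = _ := by rw [e1]; group
  have e3 : b * b = c⁻¹ * c⁻¹ := by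
    calc _ = b * (w⁻¹ * (w * b * c)) * c⁻¹ := by group
      _ = b * (w⁻¹ * (w * b⁻¹ * c⁻¹)) * c⁻¹ := by rw [e1, e2]
      _ = _ := by group
  obtain ⟨k, hk⟩ := h.eh.odd
  have e4 : b = c⁻¹ := by
    have b1 := h.eh.pow_r hX b m2
    have b2 := h.eh.pow_r hX _ (inv_mem m3)
    have : b ^ (r + 1) = c⁻¹ ^ (r + 1) := by
      rw [show r + 1 = 2 * (k + 1) by omega, pow_mul, pow_mul, pow_two, pow_two, e3]
    rwa [pow_succ, pow_succ, b1, b2, one_mul, one_mul] at this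
  have e5 : w = 1 := by rw [e4] at e1; simpa using e1
  rw [hw] at e5
  calc y * s = (y * (s * y⁻¹ * s⁻¹)) * s * y := by group
    _ = _ := by rw [e5, one_mul]

/-- an `r`-group normalised by `A₄` is centralised by `V` -/
theorem a4 {X : Subgroup G} (hX : IsPGroup r X) (hV : V ≤ 𝒩 X) {g : G} (hg : g ∈ 𝒩 X)
    (hn : g ∈ 𝒩 V) (hc : g ∉ 𝒞 V) : X ≤ 𝒞 V := by
  obtain ⟨p, hp, -, σ, m1, m2, m3⟩ := h.eh.exists_prime h.syl hn hc
  obtain ⟨ρ, hρ, h1, h2⟩ := h.rho_of (zpowers_le.2 hn m1) m2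
  have ρX : ρ ∈ 𝒩 X := by
    rcases hρ with rfl | rfl
    exacts [zpowers_le.2 hg m1, inv_mem (zpowers_le.2 hg m1)]
  have ρp : ρ ^ p = 1 := by
    rcases hρ with rfl | rfl
    exacts [m3, by rw [inv_pow, m3, inv_one]]
  have ρV := h.mem_norm_of h1 h2
  have h4 : ρ * (t * s) * ρ⁻¹ = t := by
    calc _ = (ρ * t * ρ⁻¹) * (ρ * s * ρ⁻¹) := by group
      _ = _ := by rw [h1, h2, ← mul_assoc, ← h.comm, mul_assoc, h.ss, mul_one]
  have h3 : ρ ^ 3 = 1 := by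
    by_cases e : p = 3
    · exact e ▸ ρp
    have : ρ ∈ 𝒞₁ t := mem_of_pow_coprime ((Nat.coprime_primes hp Nat.prime_three).2 e)
      (ρp ▸ one_mem _) (conj_eq_iff.1 (by
        calc _ = ρ * (ρ * (ρ * t * ρ⁻¹) * ρ⁻¹) * ρ⁻¹ := by rw [pow_three]; group
          _ = _ := by rw [h1, h2, h4]))
    exact absurd ((conj_eq_iff.2 this).symm.trans h1) h.ts_ne
  refine le_bot_of_cent h.sq h.card.ge (h.eh.odd_pg hX) hV fun v hv v1 => ?_
  obtain ⟨x, hx, rfl⟩ := h.trans_of h1 h2 hv v1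
  rw [← cj_centralizer_singleton, ← cj_eq_of_mem_normalizer (zpowers_le.2 ρX hx), ← cj_inf]
  exact cj_le_of_mem_normalizer (CfsgH2.le_normalizer_centralizer (zpowers_le.2 ρV) hx)
    (h.a4_aux hX h1 h2 h3 hV ρX)

theorem not_cent : ¬ 𝒞₁ t ≤ 𝒩 V := fun hh =>
  h.not_le (by simpa using h.NT (h.simp.norm_ne_top_of_solvable
    (fun e => h.t_ne (mem_bot.1 (e ▸ h.t_mem))) (solv_two h.two)) hh)

theorem U_eq : Oc (𝒞 V) = ⊥ := by
  by_contra h0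
  haveI := Fact.mk h.eh.prime
  set U := Oc (𝒞 V) with hU
  have UV : U ≤ 𝒞 V := oc_le
  have Ut : U ≤ 𝒞₁ t := UV.trans (h.cV_le h.t_mem)
  have nU : 𝒩 V ≤ 𝒩 U := (CfsgH2.le_normalizer_centralizer le_rfl).trans norm_le_norm_oc
  have pU : IsPGroup r U := h.eh.pg_of_inv (odd_oc _) h.t_ne h.tt Ut
  obtain ⟨⟨u, hu⟩, u1⟩ := ne_bot_iff_exists_ne_one.1 h0
  have sC : Group.IsSolvable (𝒞 U) := CfsgH2.isSolvable_of_le
    (centralizer_le (by simpa using hu)) (h.eh.solv_c1 (x := u) (fun e => u1 (Subtype.ext e))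
      (by rw [mul_comm, pow_mul, h.eh.pow_r pU u hu, one_pow]))
  have VC : V ≤ 𝒞 U := le_centralizer_symm UV
  have nO : 𝒩 V ≤ 𝒩 (Oc (𝒞 U)) := (CfsgH2.le_normalizer_centralizer nU).trans norm_le_norm_oc
  obtain ⟨g, hg, hc⟩ := SetLike.not_le_iff_exists.1 h.not_le
  have a1 := h.a4 (h.pg (odd_oc _) (le_normalizer.trans nO)) (le_normalizer.trans nO) (nO hg) hg hc
  have a2 : 𝒞 U ≤ 𝒩 V := (solv_gen sC (h.syl_of VC) h.cV).trans
    (sup_le (a1.trans cent_le_norm) inf_le_right)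
  have a3 : 𝒩 U ≤ 𝒩 V := by
    rw [← (h.syl_of VC).frattini cent_le_norm (CfsgH2.le_normalizer_centralizer le_rfl)]
    exact sup_le a2 inf_le_right
  have a4 : Oc (𝒞₁ t) ≤ U := CfsgH1.le_of_inf_normalizer_le
    (h.eh.pg_of_inv (odd_oc _) h.t_ne h.tt oc_le) (h.le_R Ut (odd_oc _))
    (GW.odd_le_oc (h.pnil h.cV inf_le_left) (fun x hx => h.fix_t (a3 hx.2) (oc_le hx.1))
      (odd_of_le inf_le_left (odd_oc _)))
  refine h.not_cent ?_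
  rw [← h.oc_sup (h.V_le h.t_mem) h.pnil_H]
  exact sup_le (a4.trans (UV.trans cent_le_norm)) le_normalizer

theorem bot_of_cent {D : Subgroup G} (hD : D ≤ 𝒞 V) (ho : Odd #D) : D = ⊥ :=
  eq_bot_iff.2 (h.U_eq ▸ GW.odd_le_oc (h.pnil h.cV inf_le_left) hD ho)

theorem pnil_norm {X : Subgroup G} (hX : IsPGroup r X) (h0 : X ≠ ⊥) (hV : V ≤ 𝒩 X) :
    PNil 2 (𝒩 X) := by
  refine h.pnil hV fun g hg => ?_
  by_contra hc
  exact h0 (h.bot_of_cent (h.a4 hX hV hg.1 hg.2 hc) (h.eh.odd_pg hX))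

omit h in
/-- `V`-invariant `r`-subgroups -/
def Inv (r : ℕ) (V X : Subgroup G) : Prop := IsPGroup r X ∧ V ≤ 𝒩 X

theorem inv_oc {Y : Subgroup G} (hY : V ≤ Y) : Inv r V (Oc Y) :=
  ⟨h.pg (odd_oc _) (hY.trans le_norm_oc), hY.trans le_norm_oc⟩

theorem uniq (D : Subgroup G) : D ≠ ⊥ → ∀ P Q, Maximal (Inv r V) P → Maximal (Inv r V) Q →
    P ⊓ Q = D → P = Q := by
  haveI := Fact.mk h.eh.prime
  induction D using WellFoundedGT.induction with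
  | ind D ih =>
  intro h0 P Q hP hQ e
  by_cases e1 : P ≤ Q
  · exact le_antisymm e1 (hP.le_of_ge hQ.prop e1)
  by_cases e2 : Q ≤ P
  · exact le_antisymm (hQ.le_of_ge hP.prop e2) e2
  have nD : V ≤ 𝒩 D := e ▸ norm_inf hP.prop.2 hQ.prop.2
  have pD : IsPGroup r D := hP.prop.1.to_le (e ▸ inf_le_left)
  obtain ⟨T, hT, mT⟩ := Finite.exists_le_maximal (h.inv_oc nD)
  have key : ∀ P, Maximal (Inv r V) P → D < P → P = T := fun P hP hlt => by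
    have a1 := CfsgH1.lt_inf_normalizer hP.prop.1 hlt
    have a2 : D < P ⊓ T := a1.trans_le (le_inf inf_le_left ((GW.odd_le_oc (h.pnil_norm pD h0 nD)
      inf_le_right (odd_of_le inf_le_left (h.eh.odd_pg hP.prop.1))).trans hT))
    exact ih _ a2 (ne_bot_of_gt a2) P T hP mT rfl
  rw [key P hP (e ▸ inf_lt_left.2 e1), key Q hQ (e ▸ inf_lt_right.2 e2)]

theorem R_ne : Oc (𝒞₁ t) ≠ ⊥ := fun e => h.not_cent (by
  rw [← h.oc_sup (h.V_le h.t_mem) h.pnil_H, e, bot_sup_eq]; exact le_normalizer)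

theorem le_H {X : Subgroup G} (hX : Inv r V X) (hR : Oc (𝒞₁ t) ≤ X) : X ≤ 𝒞₁ t := by
  obtain ⟨P, hP, mP⟩ := Finite.exists_le_maximal hX
  refine hP.trans (le_bot_of_cent h.sq h.card.ge (h.eh.odd_pg mP.prop.1) mP.prop.2
    fun v hv v1 => ?_)
  by_cases e : v = t
  · exact e ▸ inf_le_right
  obtain ⟨g, hg, rfl⟩ := h.trans hv v1
  have hcj : ∀ {x : G} {Y : Subgroup G}, x ∈ 𝒩 V → Inv r V Y → Inv r V (cj x Y) := fun hx hY =>
    ⟨isPGroup_cj _ hY.1, by rw [← cj_normalizer, ← cj_eq_of_mem_normalizer hx]; exact cj_mono _ hY.2⟩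
  have mQ : Maximal (Inv r V) (cj g P) := ⟨hcj hg mP.prop, fun Y hY hle => by
    rw [← cj_cj_inv g Y]
    exact cj_mono g (mP.le_of_ge (hcj (inv_mem hg) hY) (cj_le_iff_le_cj_inv.1 hle))⟩
  by_cases h0 : P ⊓ cj g P = ⊥
  · refine (le_inf inf_le_left ?_).trans (h0.le.trans bot_le)
    refine ((h.at hv h.t_mem v1 h.t_ne e).le_R inf_le_right
      (odd_of_le inf_le_left (h.eh.odd_pg mP.prop.1))).trans ?_
    rw [← cj_centralizer_singleton, ← cj_oc]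
    exact cj_mono g (hR.trans hP)
  · have := h.uniq _ h0 P _ mP mQ rfl
    exact absurd (eq_bot_iff.2 ((hR.trans hP).trans (h.bot_of_cent (h.a4 mP.prop.1 mP.prop.2
      (mem_normalizer_iff_cj.2 this.symm) hg fun hc => e (conj_eq_iff.2 (h.cV_le h.t_mem hc)))
      (h.eh.odd_pg mP.prop.1)).le)) h.R_ne

theorem R_inv : ∀ y ∈ Oc (𝒞₁ t), s * y * s⁻¹ = y⁻¹ :=
  inv_of_fpf (odd_oc _) h.ss (le_norm_oc (h.V_le h.t_mem h.s_mem)) (h.bot_of_cent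
    (fun _ hx => h.mem_cent.2 ⟨oc_le hx.1, hx.2⟩) (odd_of_le inf_le_left (odd_oc _)))

theorem cent_le {y : G} (hy : y ∈ Oc (𝒞₁ t)) (y1 : y ≠ 1) : 𝒞₁ y ≤ 𝒞₁ t := by
  have pR := h.eh.pg_of_inv (odd_oc _) h.t_ne h.tt (oc_le (X := 𝒞₁ t))
  have nV : V ≤ 𝒩 (zpowers y) := h.le_iff.2
    ⟨W1.c1_le_norm_zpowers y (mem_c1.2 (mem_c1.1 (oc_le hy)).symm),
      mem_norm_of_inv fun z hz => h.R_inv z (zpowers_le.2 hy hz)⟩
  have pn := h.pnil_norm (pR.to_le (zpowers_le.2 hy)) (by simpa using y1) nV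
  refine (W1.c1_le_norm_zpowers y).trans ?_
  rw [← h.oc_sup nV pn]
  exact sup_le (h.le_H (h.inv_oc nV) (GW.odd_le_oc pn ((le_c1 (comm_of_inv h.R_inv) hy).trans
    (W1.c1_le_norm_zpowers y)) (odd_oc _))) (h.V_le h.t_mem)

theorem to' : TO ⊤ (Oc (𝒞₁ t) ⊔ zpowers t) t s := by
  set R := Oc (𝒞₁ t) with hR
  have oR : Odd #R := odd_oc _
  have pR := h.eh.pg_of_inv oR h.t_ne h.tt (oc_le (X := 𝒞₁ t))
  have nt : t ∈ 𝒩 R := le_norm_oc (mem_c1.2 rfl)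
  have tn : t ∉ R := fun hh => h.t_ne (eq_one_of_odd_of_sq (odd_orderOf_of_mem oR hh) h.tt)
  set K0 := R ⊔ zpowers t with hK0
  have lH : K0 ≤ 𝒞₁ t := sup_le oc_le (zpowers_le.2 (mem_c1.2 rfl))
  have inv : ∀ y ∈ K0, s * y * s⁻¹ = y⁻¹ := fun y hy => by
    rcases (mem_sup_zpowers nt h.tt).1 hy with m | m
    · exact h.R_inv y m
    · have c1 := h.R_inv _ m
      have c2 := mem_c1.1 (lH hy)
      have c3 : s * t * s⁻¹ = t := by rw [← h.comm]; group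
      calc s * y * s⁻¹ = s * (y * t) * s⁻¹ * (s * t * s⁻¹)⁻¹ := by group
        _ = (t * y)⁻¹ * t⁻¹ := by rw [c1, c3, c2]
        _ = y⁻¹ * (t * t)⁻¹ := by group
        _ = _ := by rw [h.tt]; group
  have cK : K0 ≤ 𝒞 K0 := comm_of_inv inv
  have ns : s ∈ 𝒩 K0 := mem_norm_of_inv inv
  have eH : 𝒞₁ t = K0 ⊔ zpowers s := by
    rw [← h.oc_sup (h.V_le h.t_mem) h.pnil_H, h.V_eq, closure_pair, hK0, sup_assoc]
  have uK : ∀ z ∈ K0, z ≠ 1 → z * z = 1 → z = t := fun z hz z1 zz => by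
    rcases (mem_sup_zpowers nt h.tt).1 hz with m | m
    · exact absurd (eq_one_of_odd_of_sq (odd_orderOf_of_mem oR m) zz) z1
    · have := eq_one_of_odd_of_sq (odd_orderOf_of_mem oR m) (by
        rw [mul_assoc, ← mul_assoc t, ← mem_c1.1 (lH hz), mul_assoc, h.tt, mul_one, zz])
      rw [eq_inv_of_mul_eq_one_left this, inv_eq_self h.tt]
  have c : #K0 = 2 * #R := card_sup_zpowers nt h.tt tn
  have c1 : #R ≠ 1 := fun e => h.R_ne (card_eq_one.1 e)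
  obtain ⟨k, hk⟩ := id oR
  refine ⟨⟨h.simp, le_top, mem_sup_right (mem_zpowers t), mem_top _, fun hs => ?_, h.t_ne, h.tt,
    h.ss, le_cent_iff.1 cK, inv, fun g _ hg => ?_, fun y hy hy1 g _ hg => ?_,
    fun v _ h1 hv => ?_, by omega⟩, by omega, by omega⟩
  · exact h.ts_ne (uK s hs h.s_ne h.ss).symm
  · rw [← mem_sup_zpowers ns h.ss, ← eH]; exact mem_c1.2 hg
  · refine mem_c1.1 (conj_eq_iff.1 (uK _ ?_ (conj_ne_one h.t_ne) (conj_inv h.tt)))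
    rcases (mem_sup_zpowers nt h.tt).1 hy with m | m
    · have m' : g * y * g⁻¹ ∈ R := mem_of_odd_of_sup nt h.tt hg (by
        rw [orderOf_conj']; exact odd_orderOf_of_mem oR m)
      have c2 : g * t * g⁻¹ ∈ 𝒞₁ (g * y * g⁻¹) := by
        rw [← cj_centralizer_singleton]
        exact conj_mem_cj g (mem_c1.2 (mem_c1.1 (lH hy)).symm)
      have c3 := h.cent_le m' (conj_ne_one hy1) c2
      rw [eH, mem_sup_zpowers ns h.ss] at c3
      refine c3.resolve_right fun c4 => conj_ne_one (g := g) hy1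
        (eq_one_of_odd_of_sq (odd_orderOf_of_mem oR m') ?_)
      have c5 := le_cent_iff.1 cK _ c4 _ hg
      have c6 := inv _ hg
      have c7 := mem_c1.1 c2
      generalize g * y * g⁻¹ = y' at *
      generalize g * t * g⁻¹ = z at *
      have c8 : s * y' = y' * s := by
        apply mul_left_cancel (a := z)
        rw [← mul_assoc, c5, ← mul_assoc, ← mul_assoc, c7]
      rw [c8, mul_inv_cancel_right] at c6
      exact mul_eq_one_iff_eq_inv.2 c6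
    · have c2 := h.eh.pow_r pR _ m
      obtain ⟨j, hj⟩ := h.eh.odd
      rw [(show Commute y t from mem_c1.1 (lH hy)).mul_pow, hj, pow_succ t, pow_mul, pow_two,
        h.tt, one_pow, one_mul] at c2
      rw [← inv_eq_self h.tt, ← eq_inv_of_mul_eq_one_left c2, ← conj_pow]
      exact pow_mem hg _
  · obtain ⟨g, hg⟩ := h.conj h1 hv
    exact ⟨g, mem_top _, hg⟩

end R2

theorem simple_top (h : EH G r) (hs : Simp (⊤ : Subgroup G)) :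
    (∃ S H, T2 (⊤ : Subgroup G) S H) ∨ ∃ K t s, TO (⊤ : Subgroup G) K t s := by
  obtain ⟨S, hS⟩ := CfsgH2.exists_isSylowOf (p := 2) (⊤ : Subgroup G)
  by_cases nt : ∃ H, T2 ⊤ S H
  · exact Or.inl ⟨S, nt⟩
  right
  have hq := h.sq hS.2.1
  have h0 : S ≠ ⊥ := (sylow_ne_bot_iff hS).2 hs.even
  obtain ⟨t, ht, t1, tt⟩ := exists_inv hS.2.1 h0
  obtain ⟨n, hn, v, hv, hne⟩ := CfsgCA.exists_pair hS hs.not_solvable
  obtain ⟨s, hs', s1, st⟩ : ∃ s ∈ S, s ≠ 1 ∧ t ≠ s := by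
    by_contra hh
    push Not at hh
    have v1 : v ≠ 1 := by rintro rfl; simp at hne
    have := (hh _ (conj_mem_of_mem_norm hn.2 hv) (conj_ne_one v1)).symm.trans (hh v hv v1)
    exact hne (mul_inv_eq_iff_eq_mul.1 this)
  have ts := le_cent_iff.1 (comm_of_sq hq) t ht s hs'
  have hle : closure {t, s} ≤ S := by
    rw [closure_le]; rintro x (rfl | rfl); exacts [ht, hs']
  obtain ⟨m, hm⟩ := hS.2.1.exists_card_eq
  have h4 := card_four t1 s1 st tt (hq s hs') ts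
  by_cases e : 3 ≤ m
  · obtain ⟨E, hE, hE'⟩ := (show EA 2 m S from ⟨elem_of_sq hq, hm⟩).exists_le e
    exact absurd (rank3 h hs hS hE' hE) nt
  have e4 : S = closure {t, s} := (eq_of_le_of_card_ge hle (by
    rw [h4, hm]; exact (Nat.pow_le_pow_right two_pos (by omega : m ≤ 2)))).symm
  exact ⟨_, t, s, R2.to' ⟨h, hs, t1, s1, st, tt, hq s hs', ts, e4, hS, nt⟩⟩

theorem simple_case (h : EH G r) {X : Subgroup G} (hs : Simp X) :
    (∃ S H, T2 X S H) ∨ ∃ K t s, TO X K t s := by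
  have e : (⊤ : Subgroup X) ≃* X := Subgroup.topEquiv
  have hs' : Simp (⊤ : Subgroup X) := by
    haveI := hs.simple
    obtain ⟨a, ha, b, hb, hne⟩ := hs.nc
    exact ⟨e.isSimpleGroup, ⟨a, ha⟩, mem_top _, ⟨b, hb⟩, mem_top _,
      fun hh => hne (congrArg Subtype.val hh)⟩
  exact (simple_top (h.sub X) hs').imp (fun hh => ex_T2_tr hh e) fun hh => ex_TO_tr hh e

end CfsgEO
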