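import Cfsg.Agent.EO.EB2
import Cfsg.Agent.AG.BSW

/-! WP EB, third part: reduction to simple groups. -/

set_option autoImplicit false
set_option linter.style.haveILetI false

namespace CfsgEO

open Subgroup CfsgFT CfsgL0 CfsgAG CfsgAG.W1 CfsgAG.GW Matrix
open scoped commutatorElement MatrixGroups

universe u

variable {G : Type u} [Group G] [Finite G] {r : ℕ} {L S H K : Subgroup G} {t s : G}

theorem EH.kf (h : EH G r) (hL : Simp L) : KF L :=
  (simple_case h hL).imp_right Or.inl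

theorem EH.invol_mem (h : EH G r) (hL : Simp L) {v : G} (hv : v ∈ 𝒩 L) (vv : v * v = 1) : v ∈ L := by
  obtain ⟨P, hP, hvP⟩ := CfsgH2.exists_isSylowOf_ge (two_zpowers vv)
    (le_sup_right : zpowers v ≤ L ⊔ zpowers v)
  have hc := h.comm hP.2.1
  have := inner_of_cent hL (hP.inf_of_normal le_sup_left (sup_le le_normalizer (zpowers_le.2 hv)))
    (inf_le_left.trans (hc.trans (cent_anti inf_le_left))) hv (two_zpowers vv)
    (cent_anti inf_le_left (hc (hvP (mem_zpowers v))))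
  rwa [h.cent_eq_bot hL.not_solvable, sup_bot_eq] at this

theorem card_dvd_of_cyclic {Γ : Type*} [Group Γ] [Finite Γ] (h : IsCyclic Γ) {n : ℕ}
    (hn : ∀ g : Γ, g ^ n = 1) : Nat.card Γ ∣ n := by
  obtain ⟨g, hg⟩ := IsCyclic.exists_ofOrder_eq_natCard (α := Γ)
  rw [← hg]; exact orderOf_dvd_of_pow_eq_one (hn g)

theorem EH.card_oc (h : EH G r) (ho : TO L K t s) : #(Oc K) = r := by
  obtain ⟨e, q, p, Q, A, w, l⟩ := specBSW G L K t s ho.toBH
  have h1 : #K ∣ 2 * r := card_dvd_of_cyclic l.cyc_K fun g => Subtype.ext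
    (h.pow_of_inv ho.t_ne ho.tt (ho.comm g g.2 t ho.t_mem))
  have h2 := ho.card_oc
  have h3 := ho.six
  rw [← h2, Nat.mul_dvd_mul_iff_left two_pos, Nat.dvd_prime h.prime] at h1
  omega

theorem EH.mem_TO (h : EH G r) (ho : TO L K t s) {x : G} (hx : x ∈ 𝒩 L) (xr : x ^ r = 1)
    (hc : x ∈ 𝒞₁ t) : x ∈ L := by
  haveI := Fact.mk h.prime
  have nC : x ∈ 𝒩 (L ⊓ 𝒞₁ t : Subgroup G) :=
    norm_inf (zpowers_le.2 hx) (zpowers_le.2 (le_normalizer hc)) (mem_zpowers x)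
  have nR : x ∈ 𝒩 (Oc K) := ho.oc_eq ▸ norm_le_norm_oc nC
  have px : IsPGroup r (zpowers x) := fun g => ⟨1, Subtype.ext (by
    obtain ⟨g, n, rfl⟩ := g
    show (x ^ n) ^ r ^ 1 = 1
    rw [pow_one, ← zpow_natCast, ← _root_.zpow_mul, mul_comm, _root_.zpow_mul, zpow_natCast, xr,
      _root_.one_zpow])⟩
  have pR : IsPGroup r (Oc K) := IsPGroup.of_card (n := 1) (by rw [pow_one, h.card_oc ho])
  have c1 : Oc K ≤ 𝒞₁ x := (le_centralizer_of_prime_card
    (px.to_sup_of_normal_right' pR (zpowers_le.2 nR)) (h.card_oc ho) le_sup_right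
    (sup_le (zpowers_le.2 nR) le_normalizer)).trans
    (centralizer_le (by simpa using mem_sup_left (mem_zpowers x)))
  have c2 : K ≤ 𝒞₁ x := by
    rw [ho.K_eq']; exact sup_le c1 (zpowers_le.2 (mem_c1.2 (mem_c1.1 hc).symm))
  have m1 : x * s * x⁻¹ ∈ K ⊔ zpowers s := by
    rw [← ho.cent_eq]
    exact conj_mem_of_mem_norm nC ⟨ho.s_mem, mem_c1.2 ho.ts.symm⟩
  rw [mem_sup_zpowers ho.s_norm ho.ss] at m1
  have m2 : x * s * x⁻¹ * s ∈ K := m1.resolve_left fun hh => ho.s_not (by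
    have := mem_c1.1 (c2 hh)
    rw [inv_mul_cancel_right, mul_right_inj] at this
    exact this ▸ hh)
  obtain ⟨k, hk⟩ : ∃ k, k = x * s * x⁻¹ * s := ⟨_, rfl⟩
  rw [← hk] at m2
  have kx : Commute k x := mem_c1.1 (c2 m2)
  have e1 : ∀ n : ℕ, x ^ n * s = k ^ n * s * x ^ n := fun n => by
    induction n with
    | zero => simp
    | succ n ih =>
      calc x ^ (n + 1) * s = x * (x ^ n * s) := by rw [pow_succ']; group
        _ = x * k ^ n * s * x ^ n := by rw [ih]; group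
        _ = k ^ n * (x * s * x⁻¹ * s * s⁻¹) * x ^ (n + 1) := by
          rw [← (kx.pow_left n).eq, pow_succ']; group
        _ = _ := by rw [← hk, inv_eq_self ho.ss, pow_succ k]; group
  have kr : k ^ r = 1 := by simpa [xr] using (e1 r).symm
  obtain ⟨j, hj⟩ := h.odd
  have kj : Commute (k ^ j) x := kx.pow_left j
  have e2 : k ^ j * x * s = s * (k ^ j * x) := by
    have a1 := ho.inv _ (pow_mem m2 j)
    have a2 := e1 1
    rw [pow_one, pow_one] at a2
    have a3 : k ^ j * k = (k ^ j)⁻¹ := by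
      rw [eq_inv_iff_mul_eq_one, ← pow_succ, ← pow_add, ← kr, hj]; congr 1; omega
    calc _ = k ^ j * k * s * x := by rw [mul_assoc, a2]; group
      _ = _ := by rw [a3, ← a1]; group
  have yr : (k ^ j * x) ^ r = 1 := by
    rw [kj.mul_pow, xr, mul_one, ← pow_mul, mul_comm, pow_mul, kr, one_pow]
  have kL : k ^ j ∈ L := ho.K_le (pow_mem m2 j)
  have := KF.cent_of_odd specSE (Or.inr (Or.inl ⟨K, t, s, ho⟩)) ho.syl (D := zpowers (k ^ j * x))
    (by rw [Nat.card_zpowers]; exact odd_of_pow h.odd yr)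
    (zpowers_le.2 (mul_mem (le_normalizer kL) hx)) (ho.mem_V.2 (by simp)) ho.t_ne
    (le_centralizer_symm (by
      rw [ho.cent_eq, CfsgFT.centralizer_zpowers]
      refine sup_le (fun a ha => mem_c1.2 ?_) (zpowers_le.2 (mem_c1.2 e2.symm))
      exact (Commute.mul_right (ho.comm a ha _ (pow_mem m2 j)) (mem_c1.1 (c2 ha))).eq))
  rw [h.cent_eq_bot ho.simp.not_solvable, zpowers_le, mem_bot] at this
  rw [eq_inv_of_mul_eq_one_right this]
  exact inv_mem kL

theorem reg_ex (h : T2 L S H) {S₁ S₂ : Subgroup G} (h1 : IsSylowOf 2 S₁ L) (h2 : IsSylowOf 2 S₂ L)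
    (n1 : S₁ ≠ S) (n2 : S₂ ≠ S) : ∃ v ∈ S, cj v S₁ = S₂ := by
  obtain ⟨g, hg, e1⟩ := h.syl.exists_cj_eq h1
  obtain ⟨x, hx, e2⟩ := h.syl.exists_cj_eq h2
  change cj g S = S₁ at e1
  change cj x S = S₂ at e2
  obtain ⟨v, hv, n, hn, e⟩ := h.bruhat hg (fun hh => n1 (e1 ▸ cj_eq_of_mem_normalizer hh)) hx
    fun hh => n2 (e2 ▸ cj_eq_of_mem_normalizer hh)
  exact ⟨v, hv, by rw [← e1, ← e2, e, ← cj_cj (v * g), cj_eq_of_mem_normalizer hn.2, cj_cj]⟩

theorem reg_uniq (h : T2 L S H) {S₁ : Subgroup G} (h1 : IsSylowOf 2 S₁ L) (n1 : S₁ ≠ S) {v : G}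
    (hv : v ∈ S) (e : v ∈ 𝒩 S₁) : v = 1 := by
  by_contra v1
  obtain ⟨H', h'⟩ := h.of_syl h1
  exact n1 ((h'.cc.cent v (mem_syl_of_sq h1 (h.cc.le hv) e (h.sq v hv ▸ one_mem _)) v1).symm.trans
    (h.cc.cent v hv v1))

theorem t2_four (h : T2 L S H) {z : G} (hz : z ∈ L) (z1 : z ≠ 1) (z3 : z ^ 3 = 1)
    (h6 : ∀ g : G, g * z = z * g → g ^ 6 = 1) : #S = 4 := by
  obtain ⟨F, _, _, hF, ⟨e⟩⟩ := h.iso
  obtain ⟨n, hn⟩ := h.two.exists_card_eq
  have h4 := h.four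
  have h2 : (2 : F) = 0 := by
    have := FiniteField.cast_card_eq_zero F
    rw [hF, hn, Nat.cast_pow] at this
    exact pow_eq_zero_iff'.1 this |>.1
  have hc : center SL(2, F) = ⊥ := eq_bot_iff.2 fun x hx => by
    rcases CfsgH4.SL2.mem_center.1 hx with rfl | rfl
    · exact one_mem _
    · refine mem_bot.2 (Subtype.ext ?_)
      ext i j
      have : ∀ a : F, -a = a := fun a => by linear_combination (-a) * h2
      simp [this]
  let f : SL(2, F) ≃* L := (MulEquiv.ofBijective (QuotientGroup.mk' (center SL(2, F)))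
    ⟨by rw [← MonoidHom.ker_eq_bot_iff, QuotientGroup.ker_mk', hc],
      QuotientGroup.mk'_surjective _⟩).trans e.symm
  obtain ⟨x, hx⟩ := f.surjective ⟨z, hz⟩
  have hs : CfsgH4.SL2.SS x := CfsgH4.SL2.ss_of_pow (n := 3)
    (by rw [hc, mem_bot]; rintro rfl; exact z1 (by simpa using congrArg Subtype.val hx.symm))
    (by
      rw [show ((3 : ℕ) : F) = 2 + 1 by norm_num, h2, zero_add]; exact one_ne_zero)
    (by
      rw [hc, mem_bot, ← map_eq_one_iff f f.injective, map_pow, hx]; exact Subtype.ext z3)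
  have hd := card_dvd_of_cyclic hs.cent.1 (n := 6) fun g => Subtype.ext (by
    show (g : SL(2, F)) ^ 6 = 1
    rw [← map_eq_one_iff f f.injective, map_pow]
    refine Subtype.ext (h6 _ ?_)
    have := congrArg (fun a => ((f a : L) : G)) (mem_c1.1 g.2)
    simpa [hx] using this)
  have he := h.even
  have hle := Nat.le_of_dvd (by norm_num) hd
  rcases hs.cent.2 with e1 | e1 <;> rw [e1, hF] at hd hle
  · have : #S = 4 ∨ #S = 6 := by obtain ⟨k, hk⟩ := he; omega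
    rcases this with e2 | e2
    · exact e2
    · rw [e2] at hd; norm_num at hd
  · obtain ⟨k, hk⟩ := he; omega

omit [Finite G] in
theorem mul_pow_mem {x v : G} (hx : x ∈ 𝒩 S) (hv : v ∈ S) (n : ℕ) : (v * x) ^ n * (x ^ n)⁻¹ ∈ S := by
  induction n with
  | zero => simp
  | succ n ih =>
    rw [show (v * x) ^ (n + 1) * (x ^ (n + 1))⁻¹ = v * (x * ((v * x) ^ n * (x ^ n)⁻¹) * x⁻¹) by
      rw [pow_succ', pow_succ']; group]
    exact mul_mem hv (conj_mem_of_mem_norm hx ih)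

theorem EH.mem_T2 (h : EH G r) (h2 : T2 L S H) (ht : t ∈ S) (t1 : t ≠ 1) {x : G} (hx : x ∈ 𝒩 L)
    (xr : x ^ r = 1) (hc : x ∈ 𝒞₁ t) : x ∈ L := by
  have tt := h2.sq t ht
  have nS : x ∈ 𝒩 S := h2.cc.cent t ht t1 ▸
    norm_inf (zpowers_le.2 hx) (zpowers_le.2 (le_normalizer hc)) (mem_zpowers x)
  obtain ⟨g, hg, hg'⟩ := SetLike.not_le_iff_exists.1 h2.not_le_norm
  have s1 := syl_cj h2.syl hg
  have n1 : cj g S ≠ S := fun e => hg' (mem_normalizer_iff_cj.2 e)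
  generalize cj g S = S₁ at s1 n1
  have ne : ∀ {a : G}, a ∈ 𝒩 S → cj a S₁ ≠ S := fun ha e => n1 (by
    rw [← cj_inv_cj _ S₁, e, cj_eq_of_mem_normalizer (inv_mem ha)])
  obtain ⟨v, hv, e⟩ := reg_ex h2 (s1.cj_of_mem_normalizer hx) s1 (ne nS) n1
  change cj v (cj x S₁) = S₁ at e
  rw [cj_cj, ← mem_normalizer_iff_cj] at e
  have yr : (v * x) ^ r = 1 := reg_uniq h2 s1 n1
    (by simpa [xr] using mul_pow_mem nS hv r) (pow_mem e r)
  have yL : v * x ∈ 𝒩 L := mul_mem (le_normalizer (h2.cc.le hv)) hx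
  have yS : v * x ∈ 𝒩 S := mul_mem (le_normalizer hv) nS
  have yt : v * x ∈ 𝒞₁ t := mul_mem (le_c1 h2.comm ht hv) hc
  suffices v * x = 1 by
    rw [eq_inv_of_mul_eq_one_right this]; exact inv_mem (h2.cc.le hv)
  generalize v * x = y at *
  have yo := odd_of_pow h.odd yr
  by_contra y1
  have nc : y ∉ 𝒞 S := fun hh => by
    have := h2.cent_of_odd (D := zpowers y) (by rwa [Nat.card_zpowers]) (zpowers_le.2 yL)
      (zpowers_le.2 hh)
    rw [h.cent_eq_bot h2.simp.not_solvable, zpowers_le, mem_bot] at this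
    exact y1 this
  obtain ⟨H₁, h1⟩ := h2.of_syl s1
  obtain ⟨u, hu, eu⟩ := reg_ex h1 h2.syl (syl_cj s1 (h2.cc.le ht)) n1.symm
    fun hh => t1 (reg_uniq h2 s1 n1 ht (mem_normalizer_iff_cj.2 hh))
  have uu := h1.sq u hu
  have yu : u⁻¹ * (y * u * y⁻¹) = 1 := reg_uniq h1 h2.syl n1.symm
    (mul_mem (inv_mem hu) (conj_mem_of_mem_norm e hu)) (mem_normalizer_iff_cj.2 (by
      rw [← cj_cj, ← cj_cj, ← cj_cj, cj_eq_of_mem_normalizer (inv_mem yS), eu, cj_cj y,
        mem_c1.1 yt, ← cj_cj, cj_eq_of_mem_normalizer e, ← eu, cj_inv_cj]))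
  have zy : t * u * y = y * (t * u) := by
    calc _ = t * u * (u⁻¹ * (y * u * y⁻¹)) * y := by rw [yu, mul_one]
      _ = t * y * u := by group
      _ = _ := by rw [← mem_c1.1 yt, mul_assoc]
  have zL : t * u ∈ L := mul_mem (h2.cc.le ht) (h1.cc.le hu)
  have a1 : cj (t * u) S = S₁ := by rw [← cj_cj, eu, cj_cj, tt]; exact CfsgH2.cj_one _
  have a2 : cj (t * u) S₁ = cj u S := by rw [← cj_cj, cj_eq_of_mem hu, eu]
  have a3 : (t * u) ^ 3 ∈ 𝒩 S := mem_normalizer_iff_cj.2 (by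
    rw [pow_three, ← cj_cj (t * u), ← cj_cj (t * u), a1, a2, cj_cj, mul_assoc, uu, mul_one, cj_eq_of_mem ht])
  have a4 : t * u ∉ 𝒩 S := fun hh => n1 (a1 ▸ cj_eq_of_mem_normalizer hh)
  have a5 := h.pow_of_r y1 yr zy
  generalize t * u = z at *
  obtain rfl : r = 3 := by
    by_contra r3
    exact a4 (mem_of_pow_coprime (Nat.Coprime.mul_right (by norm_num)
      ((Nat.coprime_primes Nat.prime_three h.prime).2 (Ne.symm r3))) a3 (a5 ▸ one_mem _))
  have z3 : z ^ 3 = 1 := by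
    by_contra hn
    have := h.sq (h2.cent_two (pow_mem zL 3) hn (by rw [← pow_add]; exact a5)) z
      ⟨zL, mem_c1.2 (Commute.self_pow z 3).eq⟩
    exact a4 (mem_of_pow_coprime (by norm_num) a3 (show z ^ 2 ∈ _ by
      rw [pow_two, this]; exact one_mem _))
  have z1 : z ≠ 1 := fun hh => a4 (hh ▸ one_mem _)
  have h4 := t2_four h2 zL z1 z3 fun g hg => h.pow_of_r z1 z3 hg
  refine nc (mem_cent_iff.2 fun w hw => ?_)
  by_cases w1 : w = 1
  · simp [w1]
  by_cases wt : t = w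
  · exact wt ▸ mem_c1.1 yt
  have hm := conj_mem_of_mem_norm yS hw
  have tw := le_cent_iff.1 h2.comm t ht w hw
  have yt' := conj_eq_iff.2 yt
  rw [← closure_eq_of_four h4 h2.sq ht hw t1 w1 wt, mem_four tt (h2.sq w hw) tw] at hm
  rcases hm with e1 | e1 | e1 | e1
  · exact absurd e1 (conj_ne_one w1)
  · exact absurd (conj_inj (e1.trans yt'.symm)).symm wt
  · exact mem_c1.1 (conj_eq_iff.1 e1)
  · refine mem_c1.1 (mem_of_sq_mem yo (conj_eq_iff.1 ?_))
    calc _ = y * (y * w * y⁻¹) * y⁻¹ := by group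
      _ = y * (t * w) * y⁻¹ := by rw [e1]
      _ = (y * t * y⁻¹) * (y * w * y⁻¹) := by group
      _ = _ := by rw [yt', e1, ← mul_assoc, tt, one_mul]

/-- there are no outer automorphisms -/
theorem EH.norm_le (h : EH G r) (hL : Simp L) : 𝒩 L ≤ L := by
  have key : ∃ t ∈ L, t ≠ 1 ∧ t * t = 1 ∧ ∀ x ∈ 𝒩 L, x ^ r = 1 → x ∈ 𝒞₁ t → x ∈ L := by
    rcases simple_case h hL with ⟨S, H, h2⟩ | ⟨K, t, s, ho⟩
    · obtain ⟨t, ht, t1, tt⟩ := exists_inv h2.two fun e => by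
        have := h2.four
        rw [e, card_bot] at this
        omega
      exact ⟨t, h2.cc.le ht, t1, tt, fun x hx xr hc => h.mem_T2 h2 ht t1 hx xr hc⟩
    · exact ⟨t, ho.t_X, ho.t_ne, ho.tt, fun x hx xr hc => h.mem_TO ho hx xr hc⟩
  obtain ⟨t, ht, t1, tt, hk⟩ := key
  intro g hg
  obtain ⟨l, hl, e⟩ := (h.kf hL).conj (conj_mem_of_mem_norm hg ht) (conj_ne_one t1) (conj_inv tt)
    ht t1 tt
  have c1 : l * g ∈ 𝒞₁ t := conj_eq_iff.1 (Eq.trans (by group) e)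
  have c2 : l * g ∈ 𝒩 L := mul_mem (le_normalizer hl) hg
  have c3 := h.pow_of_inv t1 tt (mem_c1.1 c1)
  refine (L.mul_mem_cancel_left hl).1 (mem_of_pow_coprime (Nat.coprime_two_left.2 h.odd)
    (hk _ (pow_mem c2 2) (by rw [← pow_mul, c3]) (pow_mem c1 2))
    (h.invol_mem hL (pow_mem c2 r) (by rw [← pow_add, ← two_mul, c3])))

theorem EH.simp_of (h : EH G r) {Y : Subgroup G} (hY : ¬ Group.IsSolvable Y) (h0 : Oc Y = ⊥) :
    Simp Y := by
  obtain ⟨S, hS⟩ := CfsgH2.exists_isSylowOf (p := 2) Y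
  obtain ⟨L, hL⟩ : ∃ L, Cfsg.IsComponentOf L Y := by
    by_contra hn
    have e1 : gfOf Y = pCoreOf 2 Y := by
      rw [gfOf_eq, fit_eq_of_oc h0, eq_bot_iff.2 (layerOf_le_iff.2 fun K hK => absurd ⟨K, hK⟩ hn),
        bot_sup_eq]
    have e2 := pCoreOf_le_sylow hS
    have e3 : S ≤ pCoreOf 2 Y := (le_inf hS.1 (e1 ▸ (h.comm hS.2.1).trans (cent_anti e2))).trans
      (inf_centralizer_gfOf_le.trans (fit_eq_of_oc h0).le)
    exact hY (solvable_of_normal_syl hS (le_antisymm e3 e2 ▸ le_normalizer_pCoreOf))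
  have hq := compOf_qs hL
  have ns : ¬ Group.IsSolvable L := fun hs => qs_not_le_centralizer hq (by
    rw [eq_bot_of_perfect_of_solvable (qs_perfect hq) hs]; exact bot_le)
  have hc := h.cent_eq_bot ns
  have hs : Simp L := simp_of_normal (qs_not_le_centralizer hq) fun N h1 h2 =>
    (qs_normal hq h1 h2).imp_left fun e => eq_bot_iff.2 (hc ▸ e)
  have : Y ≤ L := le_trans (fun g hg => by
    have hK' := compOf_cj hL g
    rw [cj_eq_of_mem hg] at hK'
    refine mem_normalizer_iff_cj.2 ((compOf_eq_or hL hK').resolve_right fun e => ?_).symm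
    rw [← le_cent_iff_comm, hc, le_bot_iff, cj_eq_bot_iff] at e
    exact hs.ne_bot e) (h.norm_le hs)
  exact le_antisymm hL.1 this ▸ hs

end CfsgEO
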