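/-
S4371, WP LOC: 2-local subgroups of `CIT` groups.
-/
import Cfsg.Agent.EO.Defs
import Cfsg.Agent.H4.BaerSuzuki
import Cfsg.Agent.H4.Dihedral
import Cfsg.Agent.H3.Thompson

set_option autoImplicit false

namespace CfsgEO

open Subgroup CfsgFT CfsgHH CfsgL0 CfsgCA
open CfsgBS (inv_eq_of_sq)

universe u

variable {G : Type*} [Group G] [Finite G]

omit [Finite G] in
theorem CIT.or (h : CIT G) (g : G) : Odd (orderOf g) ∨ g ^ 4 = 1 :=
  (Nat.even_or_odd _).symm.imp_right (h g)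

omit [Finite G] in
theorem eq_one_of_odd {y : G} (ho : Odd (orderOf y)) {k : ℕ} (h : y ^ 2 ^ k = 1) : y = 1 :=
  orderOf_eq_one_iff.1 (Nat.eq_one_of_dvd_coprimes
    ((Nat.coprime_two_left.2 ho).pow_left k).symm dvd_rfl (orderOf_dvd_of_pow_eq_one h))

omit [Finite G] in
theorem CIT.pow4 (h : CIT G) {P : Subgroup G} (hP : IsPGroup 2 P) {x : G} (hx : x ∈ P) :
    x ^ 4 = 1 := (h.or x).elim (fun ho => by
  obtain ⟨k, hk⟩ := hP ⟨x, hx⟩
  rw [eq_one_of_odd ho (congrArg Subtype.val hk :), one_pow]) id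

omit [Finite G] in
theorem CIT.eq_one (h : CIT G) {x y : G} (hx : x ^ 4 = 1) (ho : Odd (orderOf y)) (y1 : y ≠ 1)
    (e : x * y = y * x) : x = 1 := by
  have c : Commute x y := e
  rcases h.or (x * y) with f | f
  · have := (f.mul ho).pow (n := 1)
    refine eq_one_of_odd (k := 2) (Odd.of_dvd_nat (f.mul ho) (orderOf_dvd_of_pow_eq_one ?_)) hx
    have e1 : (x * y) ^ (orderOf (x * y) * orderOf y) = 1 := by rw [pow_mul, pow_orderOf_eq_one, one_pow]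
    rwa [c.mul_pow, mul_comm (orderOf (x * y)), pow_mul y, pow_orderOf_eq_one, one_pow, mul_one,
      mul_comm] at e1
  · rw [c.mul_pow, hx, one_mul] at f
    exact (y1 (eq_one_of_odd (k := 2) ho f)).elim

omit [Finite G] in
theorem CIT.pg (h : CIT G) {H : Subgroup G} (e : ∀ g ∈ H, Odd (orderOf g) → g = 1) :
    IsPGroup 2 H := fun g => ⟨2, Subtype.ext ((h.or g).elim
      (fun ho => by rw [SubmonoidClass.coe_pow, e g g.2 ho]; simp) id)⟩

omit [Finite G] in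
theorem pow4_of_sq {v : G} (h : v * v = 1) : v ^ 4 = 1 := by
  rw [show v ^ 4 = v * v * (v * v) by simp [pow_succ, mul_assoc], h, one_mul]

theorem CIT.lang (h : CIT G) {E : Subgroup G} (hE : IsPGroup 2 E) {τ : G} (ho : Odd (orderOf τ))
    (t1 : τ ≠ 1) (hn : τ ∈ 𝒩 E) {c : G} (hc : c ∈ E) : ∃ e ∈ E, e * (τ * e⁻¹ * τ⁻¹) = c := by
  let φ : E → E := fun e => ⟨e * (τ * e⁻¹ * τ⁻¹), mul_mem e.2 (conj_mem hn (inv_mem e.2))⟩
  have : Function.Injective φ := fun a b e => Subtype.ext (by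
    have e1 : (a : G) * (τ * (a : G)⁻¹ * τ⁻¹) = b * (τ * (b : G)⁻¹ * τ⁻¹) := congrArg Subtype.val e
    refine (inv_mul_eq_one.1 (h.eq_one (h.pow4 hE (mul_mem (inv_mem b.2) a.2)) ho t1 ?_)).symm
    calc _ = (b : G)⁻¹ * (a * (τ * (a : G)⁻¹ * τ⁻¹)) * τ * a := by group
      _ = _ := by rw [e1]; group)
  obtain ⟨e, he⟩ := Finite.surjective_of_injective this ⟨c, hc⟩
  exact ⟨e, e.2, congrArg Subtype.val he⟩

theorem CIT.mem_of_fix (h : CIT G) {E P : Subgroup G} (hP : IsPGroup 2 P) (hE : E ≤ P) {τ : G}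
    (ho : Odd (orderOf τ)) (t1 : τ ≠ 1) (hn : τ ∈ 𝒩 E) {d : G} (hd : d ∈ P)
    (e : d⁻¹ * (τ * d * τ⁻¹) ∈ E) : d ∈ E := by
  obtain ⟨c, hc, f⟩ := h.lang (hP.to_le hE) ho t1 hn e
  have := h.eq_one (h.pow4 hP (mul_mem hd (hE hc))) ho t1 (by
    calc d * c * τ = d * (c * (τ * c⁻¹ * τ⁻¹)) * τ * c := by group
      _ = _ := by rw [f]; group)
  rw [eq_inv_of_mul_eq_one_left this]
  exact inv_mem hc

omit [Finite G] in
theorem cm_of_sq {V : Subgroup G} (hV : ∀ v ∈ V, v * v = 1) {a b : G} (ha : a ∈ V) (hb : b ∈ V) :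
    a * b = b * a := by
  rw [← inv_eq_of_sq (hV _ (mul_mem ha hb)), mul_inv_rev, inv_eq_of_sq (hV a ha),
    inv_eq_of_sq (hV b hb)]

omit [Finite G] in
theorem pg_of_sq {V : Subgroup G} (hV : ∀ v ∈ V, v * v = 1) : IsPGroup 2 V :=
  fun g => ⟨1, Subtype.ext (by simpa [sq] using hV g g.2)⟩

theorem free_abs {M : Type*} [Group M] [Finite M] (hM : ∀ v : M, v * v = 1) (a b : M →* M)
    (aa : ∀ v, a (a v) = v) (bb : ∀ v, b (b v) = v) (h0 : ∀ v, a (b v) = v → v = 1) {v : M}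
    (e : a v = v) : ∃ w, b w = w ∧ w * a w = v := by
  letI : CommGroup M := { ‹Group M› with
    mul_comm := fun x y => cm_of_sq (V := ⊤) (fun v _ => hM v) trivial trivial }
  have inj : Function.Injective (MonoidHom.id M * a.comp b) := (injective_iff_map_eq_one _).2
    fun w f => h0 w ((eq_inv_of_mul_eq_one_right f).trans (inv_eq_of_sq (hM w)))
  obtain ⟨w, hw⟩ := Finite.surjective_of_injective inj v
  have hw' : w * a (b w) = v := hw
  have : b w = w := inj (by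
    rw [hw, ← e, ← hw', map_mul, aa, mul_comm (a w)]
    exact congrArg (b w * a ·) (bb w))
  exact ⟨w, this, by rwa [this] at hw'⟩

theorem lemE_abs {M : Type*} [Group M] (hM : ∀ v : M, v * v = 1) (g : M →* M)
    (gs : Function.Surjective g) (h4 : ∀ v, g (g (g v * g (g v))) = g v * g (g v))
    (fr : ∀ u, g (g u) = u → ∃ w, w * g (g w) = u) (v : M) : g (g v) = v := by
  letI : CommGroup M := { ‹Group M› with
    mul_comm := fun x y => cm_of_sq (V := ⊤) (fun v _ => hM v) trivial trivial }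
  obtain ⟨v, rfl⟩ := gs v
  obtain ⟨w, hw⟩ := fr _ (h4 v)
  obtain ⟨w, rfl⟩ := gs w
  have h1 := h4 w
  have h2 := congrArg g hw
  simp only [map_mul] at h1 h2
  have h3 : g (g w) * g (g (g (g w))) = g w * g (g (g w)) := by
    rw [← mul_right_inj (g (g (g w))), mul_left_comm, h1, mul_left_comm (g (g (g w))), hM,
      mul_left_comm, hM]
  rwa [h3, hw, mul_comm, mul_right_inj, eq_comm] at h2

/-- conjugation action on a normalised subgroup -/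
def act {V : Subgroup G} {g : G} (hg : g ∈ 𝒩 V) : V →* V :=
  .mk' (fun v => ⟨g * v * g⁻¹, conj_mem hg v.2⟩) fun _ _ => Subtype.ext conj_mul.symm

theorem CIT.free (h : CIT G) {V : Subgroup G} (hV : ∀ v ∈ V, v * v = 1) {x x' : G} (hx : x ∈ 𝒩 V)
    (hx' : x' ∈ 𝒩 V) (xx : ∀ v ∈ V, x * x * v = v * (x * x))
    (xx' : ∀ v ∈ V, x' * x' * v = v * (x' * x')) (ho : Odd (orderOf (x * x'))) (t1 : x * x' ≠ 1)
    {v : G} (hv : v ∈ V) (e : x * v = v * x) : ∃ w ∈ V, x' * w = w * x' ∧ w * (x * w * x⁻¹) = v := by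
  have sq : ∀ {y : G} (hy : y ∈ 𝒩 V), (∀ v ∈ V, y * y * v = v * (y * y)) → ∀ v,
      act hy (act hy v) = v := fun {y} hy f v => Subtype.ext (by
    change y * (y * v * y⁻¹) * y⁻¹ = v
    rw [show y * (y * v * y⁻¹) * y⁻¹ = y * y * v * (y * y)⁻¹ by group, f v v.2, mul_inv_cancel_right])
  obtain ⟨w, h1, h2⟩ := free_abs (fun v : V => Subtype.ext (hV v v.2)) (act hx) (act hx') (sq hx xx)
    (sq hx' xx') (fun w f => Subtype.ext (h.eq_one (pow4_of_sq (hV w w.2)) ho t1 (by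
      have : x * (x' * w * x'⁻¹) * x⁻¹ = w := congrArg Subtype.val f
      exact (mul_inv_eq_iff_eq_mul.1 (.trans (by group) this)).symm)))
    (v := ⟨v, hv⟩) (Subtype.ext (mul_inv_eq_iff_eq_mul.2 e))
  exact ⟨w, w.2, mul_inv_eq_iff_eq_mul.1 (congrArg Subtype.val h1), congrArg Subtype.val h2⟩

/-- `Ω₁(Z(D))` -/
def oz (D : Subgroup G) : Subgroup G where
  carrier := {v | v ∈ D ∧ v * v = 1 ∧ ∀ d ∈ D, d * v = v * d}
  one_mem' := ⟨one_mem _, one_mul _, fun d _ => by simp⟩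
  mul_mem' := fun {a b} ha hb => ⟨mul_mem ha.1 hb.1, by
    rw [mul_assoc, ← mul_assoc b, ha.2.2 b hb.1, mul_assoc, hb.2.1, mul_one, ha.2.1],
    fun d hd => by rw [← mul_assoc, ha.2.2 d hd, mul_assoc, hb.2.2 d hd, mul_assoc]⟩
  inv_mem' := fun {a} ha => by rwa [inv_eq_of_sq ha.2.1]

omit [Finite G] in
theorem oz_sq {D : Subgroup G} : ∀ v ∈ oz D, v * v = 1 := fun _ h => h.2.1

theorem oz_ne {D : Subgroup G} (hD : IsPGroup 2 D) (h0 : D ≠ ⊥) : ∃ v ∈ oz D, v ≠ 1 :=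
  let ⟨t, ht, t1, tt⟩ := exists_ctr_invol hD h0; ⟨t, ⟨ht.1, tt, ht.2⟩, t1⟩

theorem norm_oz {D : Subgroup G} : 𝒩 D ≤ 𝒩 (oz D) := fun g hg =>
  mem_normalizer_of_conj_mem fun v hv => ⟨conj_mem hg hv.1, conj_sq g hv.2.1, fun d hd => by
    have := conj_comm g (hv.2.2 _ (conj_mem' hg hd))
    simpa [mul_assoc] using this⟩

theorem CIT.sq_mem (h : CIT G) {H : Subgroup G} (h0 : pCoreOf 2 H ≠ ⊥) {g : G} (hg : g ∈ H)
    (g4 : g ^ 4 = 1) : g * g ∈ pCoreOf 2 H := by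
  by_contra hz
  have zz : g * g * (g * g) = 1 := by rw [← g4]; simp [pow_succ, mul_assoc]
  obtain ⟨n, hn, ho, t1⟩ : ∃ n ∈ H, Odd (orderOf (g * g * (n * (g * g) * n⁻¹))) ∧
      g * g * (n * (g * g) * n⁻¹) ≠ 1 := by
    by_contra! c
    refine hz ⟨⟨g * g, mul_mem hg hg⟩, le_pCore (CfsgH4.baer_suzuki_elt _ fun n =>
      CfsgH4.dih_isPGroup (Subtype.ext zz) (Subtype.ext (conj_sq _ zz)) (k := 2) (Subtype.ext ?_))
        (subset_normalClosure rfl), rfl⟩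
    exact (h.or _).elim (fun f => by
      rw [SubmonoidClass.coe_pow]; exact (congrArg (· ^ 2 ^ 2) (c n n.2 f)).trans (one_pow _)) id
  have nV : H ≤ 𝒩 (oz (pCoreOf 2 H)) := le_normalizer_pCoreOf.trans norm_oz
  obtain ⟨v₀, hv₀, v1⟩ := oz_ne isPGroup_pCoreOf h0
  have pg : IsPGroup 2 (zpowers g ⊔ oz (pCoreOf 2 H) : Subgroup G) :=
    (show IsPGroup 2 (zpowers g) from .of_card_dvd_pow (n := 2) (by
      rw [Nat.card_zpowers]; exact orderOf_dvd_of_pow_eq_one g4)).to_sup_of_normal_right'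
        (pg_of_sq oz_sq) (zpowers_le.2 (nV hg))
  have hV := oz_sq (D := pCoreOf 2 H)
  generalize oz (pCoreOf 2 H) = V at *
  have hz := nV (mul_mem hg hg)
  have all := lemE_abs (fun v : V => Subtype.ext (hV v v.2)) (act (nV hg))
    (fun v => ⟨⟨_, conj_mem' (nV hg) v.2⟩, Subtype.ext (by change g * (g⁻¹ * v * g) * g⁻¹ = v; group)⟩)
    (fun v => by
      have e := h.pow4 pg (mul_mem (mem_sup_left (mem_zpowers g)) (mem_sup_right v.2))
      refine (eq_inv_of_mul_eq_one_right (Subtype.ext ?_)).trans (inv_eq_of_sq (Subtype.ext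
        (hV _ (Subtype.property _))))
      change g * v * g⁻¹ * (g * (g * v * g⁻¹) * g⁻¹) *
        (g * (g * (g * v * g⁻¹ * (g * (g * v * g⁻¹) * g⁻¹)) * g⁻¹) * g⁻¹) = 1
      rw [← mul_inv_eq_one.2 (e.trans g4.symm)]
      simp [pow_succ, mul_assoc])
    (fun u f => by
      have e : g * (g * u * g⁻¹) * g⁻¹ = u := congrArg Subtype.val f
      obtain ⟨w, hw, -, h2⟩ := h.free hV hz (nV (mul_mem (mul_mem hn (mul_mem hg hg)) (inv_mem hn)))
        (by simp [zz]) (by simp [conj_sq n zz]) ho t1 u.2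
        (mul_inv_eq_iff_eq_mul.1 (.trans (by simp [mul_assoc]) e))
      exact ⟨⟨w, hw⟩, Subtype.ext (h2.symm.trans (by change _ = w * (g * (g * w * g⁻¹) * g⁻¹); group)).symm⟩)
  replace all : ∀ v ∈ V, g * g * v = v * (g * g) := fun v hv => by
    have : g * (g * v * g⁻¹) * g⁻¹ = v := congrArg Subtype.val (all ⟨v, hv⟩)
    exact mul_inv_eq_iff_eq_mul.1 (.trans (by simp [mul_assoc]) this)
  refine v1 (h.eq_one (pow4_of_sq (hV _ hv₀)) ho t1 ?_)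
  have := conj_comm n (all _ (conj_mem' (nV hn) hv₀))
  rw [show n * (n⁻¹ * v₀ * n) * n⁻¹ = v₀ by group] at this
  rw [mul_assoc (g * g), this, ← mul_assoc, ← all _ hv₀, mul_assoc (g * g)]

/-- a 2-local subgroup with its 2-core and a Sylow 2-subgroup -/
structure Loc (H D T : Subgroup G) : Prop where
  cit : CIT G
  ne : D ≠ ⊥
  core : pCoreOf 2 H = D
  syl : IsSylowOf 2 T H

namespace Loc

variable {H D T T' : Subgroup G} (h : Loc H D T)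
include h

omit [Finite G] in
theorem norm : H ≤ 𝒩 D := h.core ▸ le_normalizer_pCoreOf

theorem pg : IsPGroup 2 D := h.core ▸ isPGroup_pCoreOf

theorem le : D ≤ T := le_sup_left.trans (h.syl.eq_of_le (h.pg.to_sup_of_normal_left' h.syl.2.1
  (h.syl.1.trans h.norm)) le_sup_right (sup_le (h.core ▸ pCoreOf_le) h.syl.1)).le

theorem nV : H ≤ 𝒩 (oz D) := h.norm.trans norm_oz

theorem sq {g : G} (hg : g ∈ H) (g4 : g ^ 4 = 1) : g * g ∈ D :=
  h.core ▸ h.cit.sq_mem (h.core ▸ h.ne) hg g4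

theorem sqT {g : G} (hg : g ∈ T) : g * g ∈ D := h.sq (h.syl.1 hg) (h.cit.pow4 h.syl.2.1 hg)

omit [Finite G] in
theorem cj {g : G} (hg : g ∈ H) : Loc H D (cj g T) :=
  ⟨h.cit, h.ne, h.core, h.syl.cj_of_mem_normalizer (le_normalizer hg)⟩

theorem comm_of_sq {x g : G} (hx : x ∈ H) (hg : g ∈ H) (h1 : x * x ∈ D) (h2 : g * g ∈ D)
    (h3 : x * g * (x * g) ∈ D) : x⁻¹ * (g * x * g⁻¹) ∈ D := by
  rw [show x⁻¹ * (g * x * g⁻¹) = (x * x)⁻¹ * (x * g * (x * g)) * (g * g)⁻¹ by group]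
  exact mul_mem (mul_mem (inv_mem h1) h3) (inv_mem h2)

theorem mem_of {x g : G} (hx : x ∈ T) (x0 : x ∉ D) (hg : g ∈ H) (e : x⁻¹ * (g * x * g⁻¹) ∈ D) :
    g ∈ T := by
  let C : Subgroup G :=
    { carrier := {g | g ∈ H ∧ x⁻¹ * (g * x * g⁻¹) ∈ D}
      one_mem' := ⟨one_mem _, by simp⟩
      mul_mem' := fun {a b} ha hb => ⟨mul_mem ha.1 hb.1, by
        rw [show x⁻¹ * (a * b * x * (a * b)⁻¹) =
          x⁻¹ * (a * x * a⁻¹) * (a * (x⁻¹ * (b * x * b⁻¹)) * a⁻¹) by group]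
        exact mul_mem ha.2 (conj_mem (h.norm ha.1) hb.2)⟩
      inv_mem' := fun {a} ha => ⟨inv_mem ha.1, by
        rw [show x⁻¹ * (a⁻¹ * x * a⁻¹⁻¹) = a⁻¹ * (x⁻¹ * (a * x * a⁻¹))⁻¹ * a by group]
        exact conj_mem' (h.norm ha.1) (inv_mem ha.2)⟩ }
  refine (h.syl.eq_of_le (Q := C) (h.cit.pg fun τ hτ ho => by_contra fun t1 => x0
    (h.cit.mem_of_fix h.syl.2.1 h.le ho t1 (h.norm hτ.1) hx hτ.2)) (fun t ht => ⟨h.syl.1 ht,
      h.comm_of_sq (h.syl.1 hx) (h.syl.1 ht) (h.sqT hx) (h.sqT ht) (h.sqT (mul_mem hx ht))⟩)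
        fun _ ha => ha.1).le ⟨hg, e⟩

theorem ti (h' : Loc H D T') {x : G} (hx : x ∈ T) (hx' : x ∈ T') (x0 : x ∉ D) : T = T' :=
  h'.syl.eq_of_le h.syl.2.1 (fun t ht => h.mem_of hx x0 (h'.syl.1 ht) (h.comm_of_sq (h.syl.1 hx)
    (h'.syl.1 ht) (h.sqT hx) (h'.sqT ht) (h'.sqT (mul_mem hx' ht)))) h.syl.1

theorem odd (h' : Loc H D T') (ne : T ≠ T') {x x' : G} (hx : x ∈ T) (x0 : x ∉ D) (hx' : x' ∈ T')
    (x0' : x' ∉ D) : Odd (orderOf (x * x')) ∧ x * x' ≠ 1 := by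
  have : (x * x') ^ 4 ≠ 1 := fun e => ne (h.ti h' (h.mem_of hx x0 (h'.syl.1 hx') (h.comm_of_sq
    (h.syl.1 hx) (h'.syl.1 hx') (h.sqT hx) (h'.sqT hx')
      (h.sq (mul_mem (h.syl.1 hx) (h'.syl.1 hx')) e))) hx' x0')
  exact ⟨(h.cit.or _).resolve_right this, fun e => this (by rw [e, one_pow])⟩

theorem disj (h' : Loc H D T') (ne : T ≠ T') {x x' : G} (hx : x ∈ T) (x0 : x ∉ D) (hx' : x' ∈ T')
    (x0' : x' ∉ D) {v : G} (v4 : v * v = 1) (e : x * v = v * x) (e' : x' * v = v * x') : v = 1 :=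
  let ⟨h1, h2⟩ := h.odd h' ne hx x0 hx' x0'
  h.cit.eq_one (pow4_of_sq v4) h1 h2 (by rw [← mul_assoc, ← e, mul_assoc, ← e', mul_assoc])

theorem free (h' : Loc H D T') (ne : T ≠ T') {x x' : G} (hx : x ∈ T) (x0 : x ∉ D) (hx' : x' ∈ T')
    (x0' : x' ∉ D) {v : G} (hv : v ∈ oz D) (e : x * v = v * x) :
    ∃ w ∈ oz D, x' * w = w * x' ∧ w * (x * w * x⁻¹) = v :=
  let ⟨h1, h2⟩ := h.odd h' ne hx x0 hx' x0'
  h.cit.free oz_sq (h.nV (h.syl.1 hx)) (h.nV (h'.syl.1 hx')) (fun _ hv => hv.2.2 _ (h.sqT hx))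
    (fun _ hv => hv.2.2 _ (h'.sqT hx')) h1 h2 hv e

theorem le_of (h' : Loc H D T') (ne : T ≠ T') {x x' : G} (hx : x ∈ T) (x0 : x ∉ D) (hx' : x' ∈ T')
    (x0' : x' ∉ D) {E : Subgroup G} (hE : E ≤ D) (e : ∀ d ∈ D, d⁻¹ * (x * d * x⁻¹) ∈ E)
    (e' : ∀ d ∈ D, d⁻¹ * (x' * d * x'⁻¹) ∈ E) : D ≤ E := fun d hd => by
  obtain ⟨h1, h2⟩ := h.odd h' ne hx x0 hx' x0'
  have n : ∀ y, (∀ d ∈ D, d⁻¹ * (y * d * y⁻¹) ∈ E) → y ∈ 𝒩 E := fun y f =>
    mem_normalizer_of_conj_mem fun a ha => by simpa using mul_mem ha (f a (hE ha))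
  refine h.cit.mem_of_fix h.pg hE h1 h2 (mul_mem (n _ e) (n _ e')) hd ?_
  rw [show d⁻¹ * (x * x' * d * (x * x')⁻¹) =
    d⁻¹ * (x * d * x⁻¹) * (x * (d⁻¹ * (x' * d * x'⁻¹)) * x⁻¹) by group]
  exact mul_mem (e d hd) (conj_mem (n _ e) (e' d hd))

end Loc

theorem specE : SpecE.{u} := fun _ _ _ h h0 g hg => by
  rw [← pCoreOf_top] at h0 ⊢
  exact h.sq_mem h0 trivial (h g hg)

end CfsgEO
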