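/-
S4371, WP SZ: elements of order `q - 1`, `q - r + 1`, `q + r + 1` in `Sz(q)`.
-/
import Cfsg.Agent.EO.Defs
import Cfsg.Agent.BS.C2

set_option autoImplicit false

namespace CfsgEO

open CfsgBS CfsgH2.Suz Cfsg.Lie Matrix Polynomial

universe u v

/-- the product of the Weyl element with an involution of the Sylow 2-subgroup -/
def szA {R : Type*} [CommRing R] (b c : R) : Matrix (Fin 4) (Fin 4) R :=
  !![0, 0, 0, 1; 0, 0, 1, 0; 0, 1, 0, b; 1, 0, b, c]

theorem szA_ch {R : Type*} [CommRing R] (b c : R) :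
    szA b c ^ 4 - c • szA b c ^ 3 - (2 + b ^ 2) • szA b c ^ 2 + c • szA b c + 1 = 0 := by
  have h2 : szA b c ^ 2 = !![1, 0, b, c; 0, 1, 0, b; b, 0, 1 + b ^ 2, b * c;
      c, b, b * c, 1 + b ^ 2 + c ^ 2] := by
    rw [pow_two]
    ext i j
    fin_cases i <;> fin_cases j <;> simp [szA, mul_apply, Fin.sum_univ_four] <;> ring
  rw [show szA b c ^ 4 = szA b c ^ 2 * szA b c ^ 2 by rw [← pow_add], pow_succ _ 2, h2]
  ext i j
  fin_cases i <;> fin_cases j <;> simp [szA] <;> ring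

theorem szA_order {E : Type*} [Field E] [CharP E 2] {b c l m : E} {N : ℕ}
    (hl : IsPrimitiveRoot l N) (hN : N ≠ 0) (hm : m ^ N = 1)
    (hinj : Function.Injective ![l, m, l⁻¹, m⁻¹]) (hc : c = l + m + l⁻¹ + m⁻¹)
    (hb : b ^ 2 = l * m + l * m⁻¹ + l⁻¹ * m + l⁻¹ * m⁻¹) : orderOf (szA b c) = N := by
  have h2 : (2 : E) = 0 := CharTwo.two_eq_zero
  have l0 : l ≠ 0 := hl.ne_zero hN
  have m0 : m ≠ 0 := by rintro rfl; simp [hN] at hm
  have el := mul_inv_cancel₀ l0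
  have em := mul_inv_cancel₀ m0
  have hp : ∏ i, (X - C (![l, m, l⁻¹, m⁻¹] i)) =
      X ^ 4 - C c * X ^ 3 - C (2 + b ^ 2) * X ^ 2 + C c * X + 1 := by
    have el' := congrArg C el
    have em' := congrArg C em
    have h2' := congrArg C h2
    rw [Fin.prod_univ_four, hb, hc]
    simp only [map_add, map_mul, map_one, map_zero, map_ofNat, cons_val_zero, cons_val_one,
      cons_val] at *
    generalize C l = a, C m = d, C l⁻¹ = a', C m⁻¹ = d' at *
    linear_combination (X ^ 2 - X * (d + d') + d * d') * el' + (X ^ 2 - X * (a + a') + 1) * em' +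
      (X ^ 2 * (2 + a * d + a * d' + a' * d + a' * d') - X * (a + d + a' + d')) * h2'
  refine Nat.dvd_antisymm (orderOf_dvd_of_pow_eq_one ?_) (hl.dvd_of_pow_eq_one _ ?_)
  · obtain ⟨g, hg⟩ : ∏ i, (X - C (![l, m, l⁻¹, m⁻¹] i)) ∣ X ^ N - 1 :=
      Finset.prod_dvd_of_coprime (fun i _ j _ h => pairwise_coprime_X_sub_C hinj h) fun i _ =>
        dvd_iff_isRoot.2 (by fin_cases i <;> simp [hl.pow_eq_one, hm])
    have := congrArg (aeval (szA b c)) hg
    rw [map_mul, hp] at this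
    simp only [map_add, map_sub, map_mul, map_pow, map_one, aeval_X, aeval_C,
      ← Algebra.smul_def] at this
    rw [← map_pow, ← map_add, ← Algebra.smul_def, szA_ch, zero_mul] at this
    exact sub_eq_zero.1 this
  · have h0 := congrArg (eval l) hp
    simp only [Fin.prod_univ_four, eval_mul, eval_sub, eval_add, eval_pow, eval_X, eval_C, eval_one,
      cons_val_zero, sub_self, zero_mul] at h0
    have hv : szA b c *ᵥ ![l ^ 2 - 1, b * l, b * l ^ 2, l * (l ^ 2 - 1)] =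
        l • ![l ^ 2 - 1, b * l, b * l ^ 2, l * (l ^ 2 - 1)] := by
      ext i
      fin_cases i <;> simp [szA, mulVec, dotProduct, Fin.sum_univ_four]
      · ring
      · ring
      · linear_combination h0
    have hk : ∀ k : ℕ, szA b c ^ k *ᵥ ![l ^ 2 - 1, b * l, b * l ^ 2, l * (l ^ 2 - 1)] =
        l ^ k • ![l ^ 2 - 1, b * l, b * l ^ 2, l * (l ^ 2 - 1)] := fun k => by
      induction k with
      | zero => simp
      | succ k ih => rw [pow_succ, ← mulVec_mulVec, hv, mulVec_smul, ih, smul_smul, ← pow_succ']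
    have h1 := congrFun (hk (orderOf (szA b c))) 0
    rw [pow_orderOf_eq_one, one_mulVec] at h1
    have h3 : l ^ 2 - 1 ≠ 0 := fun e => absurd (hinj (a₁ := 0) (a₂ := 2) (by
      simp only [cons_val_zero, cons_val]
      exact eq_inv_of_mul_eq_one_left (by linear_combination e))) (by decide)
    exact (mul_right_cancel₀ h3 (by simpa using h1)).symm.trans rfl

theorem exists_sz_order {F : Type} [Field F] [Fintype F] [Algebra (ZMod 2) F] [CharP F 2]
    (τ : F →+* F) {n N : ℕ} (hF : Fintype.card F = 2 ^ (2 * n + 1))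
    (hτ : ∀ x, τ x = x ^ 2 ^ (n + 1)) (hN : 2 < N) (hd : N ∣ (2 ^ (2 * n + 1)) ^ 2 + 1)
    (hr : N ∣ 2 ^ (2 * n + 1) + 2 ^ (n + 1) + 1 ∨ N + 2 ^ (n + 1) = 2 ^ (2 * n + 1) + 1) :
    ∃ g : SzSub τ, orderOf g = N := by
  set q := 2 ^ (2 * n + 1) with hq
  set r := 2 ^ (n + 1) with hr'
  have hτ2 : ∀ x, τ (τ x) = x ^ 2 := fun x => by
    rw [hτ, hτ, ← pow_mul, show r * r = q * 2 by rw [hq, hr']; ring, pow_mul, ← hF,
      FiniteField.pow_card]
  let E := AlgebraicClosure F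
  have hodd : ¬ 2 ∣ N := fun h => by
    have := h.trans hd
    rw [hq, pow_succ 2, mul_pow] at this
    omega
  have : NeZero (N : F) := ⟨fun h => hodd ((CharP.cast_eq_zero_iff F 2 N).1 h)⟩
  obtain ⟨l, hl⟩ := HasEnoughRootsOfUnity.exists_primitiveRoot E N
  have l0 : l ≠ 0 := hl.ne_zero (by omega)
  have hqq : (l ^ q) ^ q = l⁻¹ := eq_inv_of_mul_eq_one_left (by
    rw [← pow_mul, ← pow_two, ← pow_succ]; exact (hl.pow_eq_one_iff_dvd _).2 hd)
  have fr : ∀ (k : ℕ) (x y z w : E), (x + y + z + w) ^ 2 ^ k =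
      x ^ 2 ^ k + y ^ 2 ^ k + z ^ 2 ^ k + w ^ 2 ^ k := fun k x y z w => by
    rw [add_pow_char_pow, add_pow_char_pow, add_pow_char_pow]
  obtain ⟨c, hc⟩ : l + l ^ q + l⁻¹ + (l ^ q)⁻¹ ∈ (algebraMap F E).range :=
    (splits_iff_card_roots.2 (by
      rw [FiniteField.roots_X_pow_card_sub_X, FiniteField.X_pow_card_sub_X_natDegree_eq _
        Fintype.one_lt_card]; rfl)).mem_range_of_isRoot
      (FiniteField.X_pow_card_sub_X_ne_zero F Fintype.one_lt_card) (by
        simp only [IsRoot, Polynomial.map_sub, Polynomial.map_pow, map_X, eval_sub, eval_pow, eval_X]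
        rw [hF, hq, fr, inv_pow, inv_pow, ← hq, hqq, inv_inv]
        ring)
  obtain ⟨b, rfl⟩ := Finite.surjective_of_injective τ.injective c
  have h1 : l ≠ l⁻¹ := fun e => by
    have := Nat.le_of_dvd two_pos ((hl.pow_eq_one_iff_dvd 2).1 (by
      rw [pow_two]; nth_rw 1 [e]; exact inv_mul_cancel₀ l0))
    omega
  have h2 : l ≠ l ^ q := fun e => h1 (by rw [← hqq, ← e, ← e])
  have h3 : l ≠ (l ^ q)⁻¹ := fun e => h1 (by
    have e' : l ^ q = l⁻¹ := by rw [← inv_inv (l ^ q), ← e]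
    rw [← hqq, e', inv_pow, e', inv_inv])
  have h4 : l ^ q ≠ (l ^ q)⁻¹ := fun e => h1 (by
    have := congrArg (· ^ q) e
    simp only [inv_pow, hqq, inv_inv] at this
    exact this.symm)
  have ho := szA_order (b := algebraMap F E b) hl (by omega) (m := l ^ q)
    (by rw [← pow_mul, mul_comm, pow_mul, hl.pow_eq_one, one_pow])
    (fun i j h => by
      fin_cases i <;> fin_cases j <;>
        first
        | rfl
        | exact absurd h h1 | exact absurd h h2 | exact absurd h h3 | exact absurd h h4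
        | exact absurd h.symm h1 | exact absurd h.symm h2 | exact absurd h.symm h3
        | exact absurd h.symm h4
        | exact absurd (inv_injective h) h2 | exact absurd (inv_injective h).symm h2
        | exact absurd (inv_eq_iff_eq_inv.1 h) h3 | exact absurd (inv_eq_iff_eq_inv.1 h.symm) h3)
    hc (by
      rw [← map_pow, ← hτ2, hτ, map_pow, hc, hr', fr, ← hr', inv_pow, inv_pow]
      have e : l ^ r = l * l ^ q ∨ l ^ r = (l * l ^ q)⁻¹ := by
        rcases hr with h | h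
        · refine Or.inr (eq_inv_of_mul_eq_one_right ?_)
          rw [← (hl.pow_eq_one_iff_dvd _).2 h]; ring
        · exact Or.inl (by rw [← pow_succ', ← h, pow_add, hl.pow_eq_one, one_mul])
      rw [← pow_mul l q r, mul_comm q r, pow_mul]
      rcases e with e | e <;> rw [e] <;> simp only [inv_pow, mul_pow, hqq, mul_inv, inv_inv] <;> ring)
  refine ⟨C2.w τ * C2.φ τ hτ2 ⟨0, b⟩, ?_⟩
  rw [← ho, ← Subgroup.orderOf_coe, ← orderOf_units,
    ← orderOf_injective ((algebraMap F E).mapMatrix (m := Fin 4)).toMonoidHom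
      (Matrix.map_injective (algebraMap F E).injective)]
  congr 1
  ext i j
  fin_cases i <;> fin_cases j <;> simp [szA, um, JJ4]

theorem specSZ : SpecSZ.{u, v} := fun G _ _ Ω _ _ X h4 h2 h hL _ => by
  obtain ⟨s, r, hd⟩ := X.exists_dist
  obtain ⟨F, _, _, _, hF, ⟨M⟩⟩ := X.exists_FM h4 hd
  obtain ⟨m, hm, hq, hG⟩ := specCB0 G Ω X h4 h2 h
  let : Algebra (ZMod 2) F := ZMod.algebra F 2
  obtain ⟨θ, ψ, χ, -, h1, h3, h5, h6, h7, -, h8, h9, h10⟩ := M.typeA h4 hF h2 h.noncomm h.card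
  have c : R1.Cd M r θ ψ χ :=
    ⟨h4, hd, (hd.orderOf_eq_five_iff h4).1 (h.ord s r hd), h1, h3, h5, h6, h7, h8, h9, h10⟩
  obtain ⟨θ, ψ, χ, c, h0⟩ : ∃ θ ψ χ, R1.Cd M r θ ψ χ ∧ χ r = 0 := c.β_cases.elim
    (fun e => ⟨_, _, _, c, e⟩) fun e => ⟨_, _, _, c.swap, by simp [e, c.ψr, add_self']⟩
  have hn : Module.finrank (ZMod 2) F = 2 * m + 1 := by
    have := Module.card_eq_pow_finrank (K := ZMod 2) (V := F)
    rw [hF, hq, ZMod.card] at this
    exact (Nat.pow_right_injective le_rfl this).symm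
  have k : ∀ (n : ℕ) x, ((θ ^ 2) ^ n) x = x ^ 2 ^ n := fun n => by
    induction n with
    | zero => simp
    | succ n ih => intro x; rw [pow_succ', AlgEquiv.mul_apply, ih, pow_two, AlgEquiv.mul_apply,
        c.sq_eq h0, ← pow_mul, ← pow_succ]
  have hτ : ∀ x, (θ : F →+* F) x = x ^ 2 ^ (m + 1) := fun x => by
    rw [← k, ← pow_mul, show 2 * (m + 1) = 2 * m + 1 + 1 from rfl, pow_succ, ← hn, ← card_aut,
      pow_card_eq_one', one_mul]
    rfl
  obtain ⟨e⟩ := c.iso h0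
  have tr : ∀ N, (∃ g : SzSub (θ : F →+* F), orderOf g = N) → ∃ g : G, orderOf g = N :=
    fun N ⟨g, hg⟩ => ⟨e.symm g, by rw [Subgroup.orderOf_coe, MulEquiv.orderOf_eq, hg]⟩
  obtain ⟨a, ha⟩ := IsCyclic.exists_ofOrder_eq_natCard (α := Fˣ)
  obtain ⟨y, hy⟩ : ∃ y, 2 ^ m = y + 2 := ⟨2 ^ m - 2, by
    have := Nat.pow_le_pow_right two_pos hm; omega⟩
  have e1 : 2 ^ (2 * m + 1) = 2 * (y + 2) ^ 2 := by rw [← hy]; ring
  have e2 : 2 ^ (m + 1) = 2 * (y + 2) := by rw [← hy]; ring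
  have e3 : 2 ^ (2 * m + 1) - 2 ^ (m + 1) + 1 = 2 * y ^ 2 + 6 * y + 5 := by
    rw [e1, e2, show 2 * (y + 2) ^ 2 = 2 * y ^ 2 + 6 * y + 4 + 2 * (y + 2) by ring,
      Nat.add_sub_cancel]
  obtain ⟨b, hb⟩ := tr _ (exists_sz_order _ (hF.trans hq) hτ
    (N := 2 ^ (2 * m + 1) - 2 ^ (m + 1) + 1) (by omega)
    ⟨2 ^ (2 * m + 1) + 2 ^ (m + 1) + 1, by rw [e3, e1, e2]; ring⟩ (Or.inr (by rw [e3, e1, e2]; ring)))
  obtain ⟨d, hd'⟩ := tr _ (exists_sz_order _ (hF.trans hq) hτ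
    (N := 2 ^ (2 * m + 1) + 2 ^ (m + 1) + 1) (by omega)
    ⟨2 * y ^ 2 + 6 * y + 5, by rw [e1, e2]; ring⟩ (Or.inl dvd_rfl))
  refine ⟨m, hm, by rw [← hq, ← hG, hL, Subgroup.card_top], M.κ a, b, d, ?_, hb, hd'⟩
  rw [orderOf_injective _ M.κ_inj, ha, Nat.card_units, Nat.card_eq_fintype_card, hF, hq]

end CfsgEO
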