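/-
S4371, WP FIN: assembly.
-/
import Cfsg.Agent.EO.L1
import Cfsg.Agent.EO.SZ
import Cfsg.Agent.AG.BSW
import Cfsg.Agent.AG.B1
import Cfsg.Agent.H7.RI6

set_option autoImplicit false

namespace CfsgEO

open Subgroup CfsgFT CfsgL0 CfsgAG CfsgBS Matrix Polynomial
open scoped commutatorElement MatrixGroups

universe u

theorem E3.len {G : Type*} [Group G] [Finite G] (h : E3 G) {n : ℕ} {g : G} (hn : n ∣ orderOf g) :
    n.primeFactorsList.length ≤ 2 := by
  by_contra hl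
  have h0 : orderOf g ≠ 0 := (orderOf_pos g).ne'
  have hp := Nat.prod_primeFactorsList (ne_zero_of_dvd_ne_zero h0 hn)
  have hq := fun p => Nat.prime_of_mem_primeFactorsList (n := n) (p := p)
  obtain ⟨a, b, c, l, e⟩ : ∃ a b c l, n.primeFactorsList = a :: b :: c :: l := by
    rcases e : n.primeFactorsList with _ | ⟨a, _ | ⟨b, _ | ⟨c, l⟩⟩⟩ <;> simp_all
  rw [e] at hp hq
  have ha := hq a (by simp)
  have hb := (hq b (by simp)).two_le
  have hc := (hq c (by simp)).two_le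
  have h3 : a * b * c ∣ orderOf g := (Dvd.intro l.prod (by rw [← hp]; simp [mul_assoc])).trans hn
  have h2 := (dvd_mul_right _ _).trans h3
  have h1 := (dvd_mul_right _ _).trans h2
  have := h a ha (g ^ (orderOf g / a)) (g ^ (orderOf g / (a * b))) (g ^ (orderOf g / (a * b * c)))
  rw [orderOf_pow_orderOf_div h0 h1, orderOf_pow_orderOf_div h0 h2,
    orderOf_pow_orderOf_div h0 h3] at this
  have e1 : a < a * b := by nlinarith [ha.pos]
  have e2 : a * b < a * b * c := by nlinarith [ha.pos]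
  exact this e1.ne e2.ne (e1.trans e2).ne ⟨dvd_rfl, dvd_mul_right _ _, (dvd_mul_right _ _).mul_right _⟩

theorem exists_sl2_order {F : Type} [Field F] [Fintype F] [CharP F 2] (h4 : 4 ≤ Fintype.card F) :
    ∃ g : SL(2, F), orderOf g = Fintype.card F + 1 := by
  set q := Fintype.card F with hq
  let E := AlgebraicClosure F
  obtain ⟨n, -, hn⟩ := FiniteField.card F 2
  have : NeZero ((q + 1 : ℕ) : F) := ⟨by simp [hq]⟩
  obtain ⟨l, hl⟩ := HasEnoughRootsOfUnity.exists_primitiveRoot E (q + 1)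
  have l0 : l ≠ 0 := hl.ne_zero (by omega)
  have hlq : l ^ q = l⁻¹ := eq_inv_of_mul_eq_one_left (by rw [← pow_succ, hl.pow_eq_one])
  obtain ⟨c, hc⟩ : l + l⁻¹ ∈ (algebraMap F E).range :=
    (splits_iff_card_roots.2 (by
      rw [FiniteField.roots_X_pow_card_sub_X, FiniteField.X_pow_card_sub_X_natDegree_eq _
        Fintype.one_lt_card]; rfl)).mem_range_of_isRoot
      (FiniteField.X_pow_card_sub_X_ne_zero F Fintype.one_lt_card) (by
        simp only [IsRoot, Polynomial.map_sub, Polynomial.map_pow, map_X, eval_sub, eval_pow, eval_X]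
        rw [hn, add_pow_char_pow, ← hn, inv_pow, hlq, inv_inv]
        ring)
  have h1 : l - l⁻¹ ≠ 0 := fun e => by
    have := Nat.le_of_dvd two_pos ((hl.pow_eq_one_iff_dvd 2).1 (by
      rw [pow_two]; nth_rw 1 [sub_eq_zero.1 e]; exact inv_mul_cancel₀ l0))
    omega
  let A : Matrix (Fin 2) (Fin 2) E := !![0, -1; 1, l + l⁻¹]
  let P : Matrix (Fin 2) (Fin 2) E := !![1, 1; -l, -l⁻¹]
  have hP : ∀ k : ℕ, A ^ k * P = P * !![l ^ k, 0; 0, l⁻¹ ^ k] := fun k => by
    induction k with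
    | zero => simp [← Matrix.one_fin_two]
    | succ k ih =>
      rw [pow_succ', Matrix.mul_assoc, ih, pow_succ, pow_succ]
      have el := mul_inv_cancel₀ l0
      generalize l⁻¹ ^ k = y
      ext i j
      fin_cases i <;> fin_cases j <;> simp [A, P, mul_apply, Fin.sum_univ_two]
      · ring
      · ring
      · linear_combination (-l ^ k) * el
      · linear_combination (-y) * el
  have hu : IsUnit P := (isUnit_iff_isUnit_det _).2 (by
    rw [det_fin_two_of]; exact Ne.isUnit (by convert h1 using 1; ring))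
  have ho : orderOf A = q + 1 := by
    refine Nat.dvd_antisymm (orderOf_dvd_of_pow_eq_one (hu.mul_right_cancel ?_))
      (hl.dvd_of_pow_eq_one _ ?_)
    · rw [hP, inv_pow, hl.pow_eq_one, inv_one, ← Matrix.one_fin_two, Matrix.mul_one, Matrix.one_mul]
    · have := congrFun (congrFun (hP (orderOf A)) 0) 0
      rw [pow_orderOf_eq_one] at this
      simpa [P, mul_apply] using this.symm
  let g : SL(2, F) := ⟨!![0, -1; 1, c], by simp [det_fin_two_of]⟩
  refine ⟨g, ?_⟩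
  rw [← ho, ← orderOf_injective (((algebraMap F E).mapMatrix (m := Fin 2)).toMonoidHom.comp
    ⟨⟨fun g : SL(2, F) => g.1, rfl⟩, fun _ _ => rfl⟩)
    ((Matrix.map_injective (algebraMap F E).injective).comp Subtype.val_injective)]
  congr 1
  show (!![0, -1; 1, c] : Matrix (Fin 2) (Fin 2) F).map (algebraMap F E) = A
  ext i j
  fin_cases i <;> fin_cases j <;> simp [A, hc]

variable {G : Type u} [Group G] [Finite G]

omit [Finite G] in
theorem CIT.cent (h : CIT G) {t : G} (t1 : t ≠ 1) (tt : t * t = 1) : IsPGroup 2 (𝒞₁ t) :=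
  h.pg fun _ hg ho => by_contra fun g1 => t1 (h.eq_one (pow4_of_sq tt) ho g1 (mem_c1.1 hg).symm)

theorem CIT.four (h : CIT G) (hG : ¬ Group.IsSolvable G) : HasFour G := by
  by_contra h4
  obtain ⟨u, -, u1, uu⟩ := exists_invol_of_even (X := (⊤ : Subgroup G)) (by
    rw [card_top, ← Nat.not_odd_iff_even]; exact mt odd_solvable hG)
  have hn : ∀ A : Subgroup G, A ≤ 𝒩 (Oc (⊤ : Subgroup G)) := fun A =>
    le_top.trans le_normalizer_pPrimeCoreOf
  have := CfsgH2.le_sup_centralizer_of_commutator_le (A := zpowers u) (H := ⊤) (hn _)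
    (coprime_two_of_odd (two_zpowers uu) (odd_oc _)) (Or.inr (solvable_oc _)) le_top (by
      rw [commutator_comm, commutator_le]
      intro x hx g _
      rcases (mem_zpowers_inv uu).1 hx with rfl | rfl
      · simp
      · exact comm_mem_O_of_not_four (M := ⊤) trivial uu (fun ⟨x, _, y, _, h⟩ => h4 ⟨x, y, h⟩)
          trivial)
  rw [top_inf_eq, CfsgH2.centralizer_zpowers] at this
  exact hG (CfsgCA.solv_top (CfsgH2.isSolvable_of_le this
    (solvable_sup (hn _) (solvable_oc _) (solv_two (h.cent u1 uu)))))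

theorem CIT.odd_normal (h : CIT G) (h4 : HasFour G) {N : Subgroup G} (hN : N.Normal)
    (ho : Odd #N) : N = ⊥ := by
  obtain ⟨x, y, x1, y1, xy, xx, yy, c⟩ := h4
  exact eq_bot_iff.2 (le_bot_of_cent (sq_four xx yy c) (card_four x1 y1 xy xx yy c).ge ho
    (fun g _ => CfsgCA.nrm_all hN g) fun v hv v1 =>
      (inf_comm N _).le.trans (two_inf_odd (h.cent v1 (sq_four xx yy c v hv)) ho).le)

omit [Finite G] in
theorem CIT.quot (h : CIT G) (N : Subgroup G) [N.Normal] : CIT (G ⧸ N) := fun x hx => by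
  obtain ⟨g, rfl⟩ := QuotientGroup.mk'_surjective N x
  rw [← map_pow, h g (hx.trans_dvd (orderOf_map_dvd _ _)), map_one]

theorem CIT.equiv (h : CIT G) {x : G ⧸ Cfsg.pCore 2 G} (h4 : x ^ 4 = 1) (h2 : x * x ≠ 1) :
    Nonempty (G ≃* G ⧸ Cfsg.pCore 2 G) := by
  refine ⟨((QuotientGroup.quotientMulEquivOfEq (by_contra fun h0 => h2 ?_)).trans
    QuotientGroup.quotientBot).symm⟩
  obtain ⟨g, rfl⟩ := QuotientGroup.mk'_surjective _ x
  rw [← map_mul]
  refine (QuotientGroup.eq_one_iff _).2 (specE G h h0 g (Even.trans_dvd ?_ (orderOf_map_dvd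
    (QuotientGroup.mk' (Cfsg.pCore 2 G)) g)))
  by_contra ho
  exact h2 (by rw [eq_one_of_odd (k := 2) (Nat.not_even_iff_odd.1 ho) h4, mul_one])

omit [Finite G] in
theorem Pat.exists_pair {V W : Subgroup G} {q : ℕ} (h : Pat V W q) :
    ∃ v ∈ V, ∃ w ∈ W, v * w * (v * w) ≠ 1 := by
  have h1 : q < q ^ 2 := by nlinarith [h.two]
  obtain ⟨v, hv, hv'⟩ := SetLike.not_le_iff_exists.1 (show ¬ V ≤ W from fun e => by
    have := h.cardZ; rw [inf_eq_left.2 e, h.cardV] at this; omega)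
  obtain ⟨w, hw, hw'⟩ := SetLike.not_le_iff_exists.1 (show ¬ W ≤ V from fun e => by
    have := h.cardZ; rw [inf_eq_right.2 e, h.cardW] at this; omega)
  refine ⟨v, hv, w, hw, fun e => (h.nc v hv w hw ?_).elim hv' hw'⟩
  rw [eq_inv_of_mul_eq_one_left e, _root_.mul_inv_rev, inv_eq_self (h.sqV v hv),
    inv_eq_self (h.sqW w hw)]

theorem Pat.bh (hc : CIT G) (h4 : HasFour G) {V W : Subgroup G} (h : Pat V W 2) :
    ∃ K t s, #K = 4 ∧ BH (⊤ : Subgroup G) K t s := by
  obtain ⟨v, hv, w, hw, h1⟩ := h.exists_pair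
  have vv := h.sqV v hv
  have ww := h.sqW w hw
  have hvw : v * w ∈ V ⊔ W := mul_mem_sup hv hw
  have h2 := hc.pow4 h.syl.2.1 hvw
  have ho : orderOf (v * w) = 4 := orderOf_eq_prime_pow (p := 2) (n := 1)
    (by rwa [pow_one, pow_two]) h2
  set t := v * w * (v * w) with ht
  have tt : t * t = 1 := by rw [← h2, ht]; simp [pow_succ, mul_assoc]
  have htZ : t ∈ V ⊓ W := mem_inf.2 ⟨by
      have := mul_mem hv (conj_mem_of_mem_norm (h.WV hw) hv)
      rwa [inv_eq_self ww, ← mul_assoc, ← mul_assoc, mul_assoc _ v w] at this, by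
      have := mul_mem (conj_mem_of_mem_norm (h.VW hv) hw) hw
      rwa [inv_eq_self vv, mul_assoc] at this⟩
  have hZ : ∀ z ∈ V ⊓ W, z ≠ 1 → z = t := fun z hz z1 =>
    ((mem_zpowers_inv tt).1 ((eq_of_le_of_card_ge (zpowers_le.2 htZ) (by
      rw [h.cardZ, Nat.card_zpowers, orderOf_eq_two' h1 tt])).ge hz)).resolve_left z1
  have hC : 𝒞₁ t = V ⊔ W := h.syl.eq_of_le (hc.cent h1 tt) (sup_le
    (fun a ha => mem_c1.2 (cm_of_sq h.sqV ha htZ.1)) fun a ha => mem_c1.2 (cm_of_sq h.sqW ha htZ.2))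
    le_top
  have hi : ∀ y ∈ zpowers (v * w), v * y * v⁻¹ = y⁻¹ := by
    rintro _ ⟨k, rfl⟩
    show v * (v * w) ^ k * v⁻¹ = _
    rw [← conj_zpow, ← _root_.inv_zpow, _root_.mul_inv_rev, inv_eq_self vv, inv_eq_self ww,
      ← mul_assoc, vv, one_mul]
  have hvK : v ∉ zpowers (v * w) := fun e => h1 (by
    have := hi _ (mem_zpowers _)
    rw [le_cent_iff.1 (zpowers_comm _) v e _ (mem_zpowers _), mul_inv_cancel_right] at this
    exact mul_eq_one_iff_eq_inv.2 this)
  have hK : #(zpowers (v * w)) = 4 := by rw [Nat.card_zpowers, ho]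
  have hS : zpowers (v * w) ⊔ zpowers v = V ⊔ W := eq_of_le_of_card_ge
    (sup_le (zpowers_le.2 hvw) (zpowers_le.2 (mem_sup_left hv))) (by
      have := CfsgH2.card_sup_mul_card_inf h.VW
      rw [h.cardV, h.cardW, h.cardZ] at this
      rw [card_sup_zpowers (mem_norm_of_inv hi) vv hvK, hK]
      omega)
  have htK : t ∈ zpowers (v * w) := mul_mem (mem_zpowers _) (mem_zpowers _)
  have hinv : ∀ y ∈ zpowers (v * w), y ≠ 1 → y = t ∨ y * y = t := by
    classical
    intro y hy y1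
    obtain ⟨k, hk, rfl⟩ := Finset.mem_image.1 ((mem_zpowers_iff_mem_range_orderOf).1 hy)
    rw [ho, Finset.mem_range] at hk
    interval_cases k
    · simp at y1
    · exact Or.inr (by rw [pow_one])
    · exact Or.inl (pow_two _)
    · exact Or.inr (by rw [← pow_add, show 3 + 3 = 4 + 2 from rfl, pow_add, h2, one_mul, pow_two])
  have hconj : ∀ u : G, u ≠ 1 → u * u = 1 → ∃ g, g * t * g⁻¹ = u := fun u u1 uu => by
    obtain ⟨g, -, hg⟩ := exists_conj_mem_syl h.syl (mem_top u) uu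
    obtain ⟨a, ha, b, hb, e⟩ := (CfsgH1.mem_sup_of_le_normalizer h.VW).1 hg
    have e2 : a * b * (a * b) = 1 := e ▸ conj_inv uu
    obtain ⟨k, hk⟩ : ∃ k, k * (a * b) * k⁻¹ ∈ V ⊓ W := by
      rcases h.nc a ha b hb (by
        rw [eq_inv_of_mul_eq_one_left e2, _root_.mul_inv_rev, inv_eq_self (h.sqV a ha),
          inv_eq_self (h.sqW b hb)]) with f | f
      · obtain ⟨k, hk, f'⟩ := h.partW _ (mul_mem f hb)
        exact ⟨k, mem_inf.2 ⟨f', conj_mem_of_mem_norm hk (mul_mem f hb)⟩⟩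
      · obtain ⟨k, hk, f'⟩ := h.partV _ (mul_mem ha f)
        exact ⟨k, mem_inf.2 ⟨conj_mem_of_mem_norm hk (mul_mem ha f), f'⟩⟩
    exact ⟨(k * g)⁻¹, by rw [← hZ _ hk (conj_ne_one (e ▸ conj_ne_one u1)), e]; group⟩
  refine ⟨_, t, v, hK, simp_of_normal (fun e => hvK ?_) fun N _ hN => ?_, le_top, htK, trivial, hvK,
    h1, tt, vv, le_cent_iff.1 (zpowers_comm _), hi,
    fun g _ e => (mem_sup_zpowers (mem_norm_of_inv hi) vv).1 (hS.ge (hC.le (mem_c1.2 e))),
    fun y hy y1 g _ e => ?_, fun u _ u1 uu => ?_, hK.ge⟩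
  · exact absurd (by rw [ht, mul_assoc, ← mul_assoc w, le_cent_iff.1 e w trivial v trivial,
      mul_assoc, ww, mul_one, vv]) h1
  · have hn : N.Normal := normalizer_eq_top_iff.1 (top_le_iff.1 hN)
    refine or_iff_not_imp_left.2 fun h0 => ?_
    obtain ⟨u, hu, u1, uu⟩ := exists_invol_of_even (X := N)
      (Nat.not_odd_iff_even.1 (mt (hc.odd_normal h4 hn) h0))
    have hall : ∀ a : G, a * a = 1 → a ∈ N := fun a aa => by
      by_cases a1 : a = 1
      · rw [a1]; exact one_mem _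
      obtain ⟨g, rfl⟩ := hconj u u1 uu
      obtain ⟨k, rfl⟩ := hconj a a1 aa
      exact hn.conj_mem _ (by simpa [mul_assoc] using hn.conj_mem _ hu g⁻¹) k
    have hSN : V ⊔ W ≤ N := sup_le (fun a ha => hall a (h.sqV a ha)) fun a ha => hall a (h.sqW a ha)
    refine top_le_iff.1 (((h.syl.mono hSN le_top).frattini le_top hN).ge.trans
      (sup_le le_rfl (le_trans (fun g hg => hC.le (mem_c1.2 ?_)) hSN)))
    exact mul_inv_eq_iff_eq_mul.1 (hZ _ (mem_inf.2 ⟨conj_mem_of_mem_norm (h.normV hg.2) htZ.1,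
      conj_mem_of_mem_norm (h.normW hg.2) htZ.2⟩) (conj_ne_one h1))
  · have e2 : g * t * g⁻¹ ∈ zpowers (v * w) := by
      rcases hinv y hy y1 with f | f
      · exact f ▸ e
      · have := mul_mem e e
        rwa [conj_mul, f] at this
    exact mul_inv_eq_iff_eq_mul.1 ((hinv _ e2 (conj_ne_one h1)).resolve_right fun f =>
      h1 (f.symm.trans (conj_inv tt)))
  · obtain ⟨g, e⟩ := hconj u u1 uu
    exact ⟨g, trivial, e⟩

omit [Finite G] in
theorem exists_gen {A : Subgroup G} (h : IsCyclic A) : ∃ g : G, orderOf g = #A := by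
  obtain ⟨g, hg⟩ := h.exists_ofOrder_eq_natCard
  exact ⟨g, by rw [orderOf_coe, hg]⟩

theorem s4371_of (hL : SpecLoc.{u}) (h34 : SpecL34.{u}) (hEB : SpecEB.{u})
    (hG : ¬ Group.IsSolvable G) (h3 : E3 G) :
    (∃ (F : Type) (_ : Field F) (_ : Fintype F), CharP F 2 ∧ 4 ≤ Fintype.card F ∧
        (Fintype.card F + 1).primeFactorsList.length ≤ 2 ∧ (Fintype.card F - 1).primeFactorsList.length ≤ 2 ∧
        Nonempty (G ⧸ Cfsg.pCore 2 G ≃* Matrix.ProjectiveSpecialLinearGroup (Fin 2) F)) ∨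
    (∃ (F : Type) (_ : Field F) (_ : Fintype F), 5 < Fintype.card F ∧ (Fintype.card F % 8 = 3 ∨ Fintype.card F % 8 = 5) ∧
        ((Fintype.card F + 1) / 2).primeFactorsList.length ≤ 2 ∧ ((Fintype.card F - 1) / 2).primeFactorsList.length ≤ 2 ∧
        Nonempty (G ≃* Matrix.ProjectiveSpecialLinearGroup (Fin 2) F)) ∨
    (∃ (F : Type) (_ : Field F) (_ : Fintype F), (Fintype.card F = 7 ∨ Fintype.card F = 9) ∧
        Nonempty (G ≃* Matrix.ProjectiveSpecialLinearGroup (Fin 2) F)) ∨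
    (∃ (F : Type) (_ : Field F) (_ : Fintype F), Fintype.card F = 4 ∧ Nonempty (G ≃* Matrix.ProjectiveSpecialLinearGroup (Fin 3) F)) ∨
    (∃ n : ℕ, 1 ≤ n ∧ IsSimpleGroup G ∧ Nat.card G = (2 ^ (2 * n + 1)) ^ 2 * ((2 ^ (2 * n + 1)) ^ 2 + 1) * (2 ^ (2 * n + 1) - 1) ∧
        (2 ^ (2 * n + 1) - 1).primeFactorsList.length ≤ 2 ∧ (2 ^ (2 * n + 1) - 2 ^ (n + 1) + 1).primeFactorsList.length ≤ 2 ∧
        (2 ^ (2 * n + 1) + 2 ^ (n + 1) + 1).primeFactorsList.length ≤ 2) := by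
  by_cases hc : CIT G
  swap
  · simp only [CIT, not_forall] at hc
    obtain ⟨g, ⟨r, hr⟩, h4⟩ := hc
    have h0 : r ≠ 0 := by have := orderOf_pos g; omega
    rw [← two_mul] at hr
    have hl := h3.len (dvd_refl (orderOf g))
    rw [hr, (Nat.perm_primeFactorsList_mul two_ne_zero h0).length_eq, List.length_append,
      Nat.primeFactorsList_two] at hl
    have h1 : r ≠ 1 ∧ r ≠ 2 := ⟨fun e => h4 (orderOf_dvd_iff_pow_eq_one.1 (by rw [hr, e]; norm_num)),
      fun e => h4 (orderOf_dvd_iff_pow_eq_one.1 (by rw [hr, e]; norm_num))⟩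
    have hp : r.Prime := by
      have e := Nat.prod_primeFactorsList h0
      have hq := fun p => Nat.prime_of_mem_primeFactorsList (n := r) (p := p)
      rcases e' : r.primeFactorsList with _ | ⟨a, _ | ⟨b, l⟩⟩ <;> rw [e'] at e hl hq
      · exact absurd e.symm h1.1
      · rw [← e]; simpa using hq a (by simp)
      · simp only [List.length_cons] at hl; omega
    obtain ⟨K, t, s, hT⟩ := hEB G h3 hG g r hp h1.2 hr
    obtain ⟨e, q, p, Q, A, w, hS⟩ := specBSW G _ K t s hT.toBH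
    obtain ⟨F, i1, i2, hF, ⟨f⟩⟩ := hS.iso
    obtain ⟨a, ha⟩ := exists_gen hS.cyc_K
    obtain ⟨b, hb⟩ := exists_gen hS.cyc_A
    have h5 := h3.len ha.symm.dvd
    have h6 := h3.len hb.symm.dvd
    have h7 := hS.q_eq
    have h8 := hS.card_A
    have h9 := hT.six
    have h10 := hT.mod
    refine Or.inr (Or.inl ⟨F, i1, i2, ?_, ?_, ?_, ?_, ⟨topEquiv.symm.trans f⟩⟩) <;> rw [hF] <;>
      rcases hS.sign with rfl | rfl
    any_goals omega
    · rwa [show (q + 1) / 2 = #A by omega]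
    · rwa [show (q + 1) / 2 = #K by omega]
    · rwa [show (q - 1) / 2 = #K by omega]
    · rwa [show (q - 1) / 2 = #A by omega]
  have hc' := hc.quot (Cfsg.pCore 2 G)
  have hG' : ¬ Group.IsSolvable (G ⧸ Cfsg.pCore 2 G) := fun h => hG (by
    have := solv_two (isPGroup_pCore G 2)
    exact Group.isSolvable_of_ker_le_range (Cfsg.pCore 2 G).subtype
      (QuotientGroup.mk' (Cfsg.pCore 2 G)) (by simp))
  have h4 := hc'.four hG'
  have len : ∀ x : G ⧸ Cfsg.pCore 2 G, (orderOf x).primeFactorsList.length ≤ 2 := fun x => by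
    obtain ⟨g, rfl⟩ := QuotientGroup.mk'_surjective _ x
    exact h3.len (orderOf_map_dvd _ g)
  rcases hL _ hc' (pCore_quotient G 2) (Nat.not_odd_iff_even.1 (mt odd_solvable hG')) with
    ⟨M, hM⟩ | ⟨V, W, h⟩
  · obtain ⟨_, X, -, two, hX⟩ := CfsgCA.exists_r1 h4 hM (hc'.odd_normal h4 inferInstance (by
      obtain ⟨g, hg⟩ := not_forall.1 (mt (eq_top_iff' M).2 hM.1)
      exact odd_of_le (le_inf M.normalCore_le
        ((CfsgH1.cj_normal g M.normalCore).ge.trans (CfsgH1.cj_mono g M.normalCore_le)))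
        (hM.2.2 g hg)))
    have hV : ∀ v ∈ X.V, v = 1 := fun v hv => by_contra fun v1 => X.t_ne_one (hc'.eq_one
      (pow4_of_sq X.tt) (X.odd_orderOf_of_mem_D (X.V_le_D hv)) v1 (X.mem_V.1 hv).2)
    have hH : X.H ≤ X.L := by
      rw [← X.Q_sup_D, ← X.K_sup_V]
      exact sup_le X.Q_le_L (sup_le X.K_le_L fun v hv => hV v hv ▸ one_mem _)
    have hT : X.L = ⊤ := (eq_top_iff' _).2 fun g => by
      by_cases e : g ∈ X.H
      · exact hH e
      · obtain ⟨x, hx, y, hy, rfl⟩ := X.exists_canon e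
        exact mul_mem (mul_mem (hH hx) X.t_mem_L) (X.Q_le_L hy)
    rcases hX with h | h | h
    · obtain ⟨F, i1, i2, _, hF, ⟨f⟩⟩ := CfsgH7.RI.nfA X h4 h
      obtain ⟨f'⟩ := CfsgH7.RI.sl2_equiv F
      have e := ((MulEquiv.subgroupCongr hT).trans topEquiv).symm.trans f
      have h5 := hF ▸ X.four_le_q h4
      obtain ⟨a, ha⟩ := exists_sl2_order h5
      obtain ⟨b, -, -, hb⟩ := X.exists_gen_K h4
      refine Or.inl ⟨F, i1, i2, inferInstance, h5, ?_, ?_, ⟨e.trans f'⟩⟩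
      · rw [← ha, ← e.symm.orderOf_eq]; exact len _
      · rw [hF, ← hb, Nat.add_sub_cancel]; exact len _
    · obtain ⟨x, hx, xx⟩ : ∃ x ∈ X.Q, x * x ≠ 1 := by
        by_contra e
        push Not at e
        obtain ⟨x, hx, y, hy, e'⟩ := h.noncomm
        exact e' (cm_of_sq e hx hy)
      obtain ⟨e⟩ := hc.equiv (hc'.pow4 two hx) xx
      obtain ⟨n, hn, h5, a, b, c, ha, hb, hc⟩ := specSZ _ _ X h4 two h hT hc'
      have : Nontrivial (G ⧸ Cfsg.pCore 2 G) := ⟨_, _, X.t_ne_one⟩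
      have : IsSimpleGroup (G ⧸ Cfsg.pCore 2 G) := ⟨fun N hN => (Nat.even_or_odd #N).symm.imp
        (hc'.odd_normal h4 hN) fun he => top_le_iff.1 (hT.ge.trans
          (sup_le (X.Q_le_of_even h4 he) (zpowers_le.2 (X.invol_mem_of_even he X.tt))))⟩
      exact Or.inr (Or.inr (Or.inr (Or.inr ⟨n, hn, e.isSimpleGroup, by
        rw [← h5, Nat.card_congr e.toEquiv], ha ▸ len a, hb ▸ len b, hc ▸ len c⟩)))
    · obtain ⟨_, ζ, _, _, _, -, -, h5, h6, -⟩ := h.special
      exact absurd (hV ζ (X.W_le_V h5) ▸ one_mem _) h6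
  · obtain ⟨e⟩ : Nonempty (G ≃* G ⧸ Cfsg.pCore 2 G) := by
      rcases h with h | h <;> obtain ⟨v, hv, w, hw, h1⟩ := h.exists_pair <;>
        exact hc.equiv (hc'.pow4 h.syl.2.1 (mul_mem_sup hv hw)) h1
    rcases h with h | h
    · obtain ⟨K, t, s, hK, hB⟩ := h.bh hc' h4
      obtain ⟨ε, q, p, Q, A, w, hS⟩ := specBSW _ _ K t s hB
      obtain ⟨F, i1, i2, hF, ⟨f⟩⟩ := hS.iso
      have h7 := hS.q_eq
      refine Or.inr (Or.inr (Or.inl ⟨F, i1, i2, ?_, ⟨e.trans (topEquiv.symm.trans f)⟩⟩))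
      rcases hS.sign with rfl | rfl <;> omega
    · obtain ⟨F, i1, i2, hF, ⟨f⟩⟩ := h34 _ hc' V W h
      exact Or.inr (Or.inr (Or.inr (Or.inl ⟨F, i1, i2, hF, ⟨e.trans f⟩⟩)))

end CfsgEO
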