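/-
S4371, WP LOC: counting, failure of factorisation.
-/
import Cfsg.Agent.EO.L1

set_option autoImplicit false

namespace CfsgEO

open Subgroup CfsgFT CfsgHH CfsgL0 CfsgCA CfsgH3
open CfsgBS (inv_eq_of_sq)
open scoped commutatorElement

variable {G : Type*} [Group G] [Finite G]

theorem card_le_mul {B : Type*} [Finite B] {T D : Subgroup G} (f : T → B)
    (hf : ∀ s t, f s = f t → (s : G)⁻¹ * t ∈ D) : #T ≤ Nat.card B * #D := by
  rw [← Nat.card_prod]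
  exact Nat.card_le_card_of_injective (fun t => (f t, ⟨_, hf _ t (Function.invFun_eq ⟨t, rfl⟩)⟩))
    fun s t e => Subtype.ext (by
      have h1 : f s = f t := congrArg Prod.fst e
      have h2 := congrArg (fun p : B × D => (p.2 : G)) e
      simpa [h1] using h2)

theorem surj_comm {T D Z : Subgroup G} {c : G} (h1 : ∀ t ∈ T, c * (t * c * t⁻¹) ∈ Z)
    (h2 : ∀ t ∈ T, t * c = c * t → t ∈ D) (h3 : #Z * #D ≤ #T) {z : G} (hz : z ∈ Z) :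
    ∃ t ∈ T, c * (t * c * t⁻¹) = z := by
  by_contra! e
  have := card_le_mul (D := D) (B := {y : Z // y ≠ ⟨z, hz⟩})
    (fun t : T => ⟨⟨_, h1 t t.2⟩, fun f => e t t.2 (congrArg Subtype.val f)⟩) fun s t f =>
      h2 _ (mul_mem (inv_mem s.2) t.2) (by
        have : (s : G) * c * (s : G)⁻¹ = t * c * (t : G)⁻¹ :=
          mul_left_cancel (congrArg (fun y : {y : Z // y ≠ ⟨z, hz⟩} => (y.1 : G)) f)
        calc _ = (s : G)⁻¹ * (t * c * (t : G)⁻¹) * t := by group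
          _ = _ := by rw [← this]; group)
  have h4 := Finite.card_subtype_lt (p := fun y : Z => y ≠ ⟨z, hz⟩) (x := ⟨z, hz⟩) (by simp)
  exact absurd (h3.trans this) (Nat.mul_lt_mul_of_pos_right h4 Nat.card_pos).not_ge

omit [Finite G] in
theorem nrm_eq {V : Subgroup G} (hV : ∀ v ∈ V, v * v = 1) {x a w : G} (hx : x ∈ 𝒩 V) (ha : a ∈ V)
    (hw : w ∈ V) (e : w * (x * w * x⁻¹) = a * (x * a * x⁻¹)) : x * (a * w) = a * w * x := by
  rw [← mul_inv_eq_iff_eq_mul, show x * (a * w) * x⁻¹ = a⁻¹ * (a * (x * a * x⁻¹)) * (x * w * x⁻¹) by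
    group, ← e, mul_assoc, mul_assoc w, hV _ (conj_mem hx hw), mul_one, inv_eq_of_sq (hV a ha)]

namespace Loc

variable {H D T T' : Subgroup G} (h : Loc H D T)
include h

theorem mem_of_norm {u : G} (hu : u ∈ H) (u4 : u ^ 4 = 1) (hn : u ∈ 𝒩 T) : u ∈ T :=
  (h.syl.eq_of_le ((show IsPGroup 2 (zpowers u) from .of_card_dvd_pow (n := 2) (by
    rw [Nat.card_zpowers]; exact orderOf_dvd_of_pow_eq_one u4)).to_sup_of_normal_right'
      h.syl.2.1 (zpowers_le.2 hn)) le_sup_right (sup_le (zpowers_le.2 hu) h.syl.1)).le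
        (mem_sup_left (mem_zpowers u))

theorem nrm_fix {x a : G} (hx : x ∈ T) (ha : a ∈ oz D) :
    a * (x * a * x⁻¹) ∈ oz D ⊓ 𝒞₁ x := by
  have h1 := conj_mem (h.nV (h.syl.1 hx)) ha
  refine ⟨mul_mem ha h1, mem_c1.2 ?_⟩
  rw [← mul_inv_eq_iff_eq_mul, show x * (a * (x * a * x⁻¹)) * x⁻¹ =
    x * a * x⁻¹ * (x * x * a * (x * x)⁻¹) by simp [mul_assoc], ha.2.2 _ (h.sqT hx),
    mul_inv_cancel_right, cm_of_sq oz_sq h1 ha]

theorem exists_fix {x : G} (hx : x ∈ T) : ∃ a ∈ oz D, a ≠ 1 ∧ x * a = a * x := by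
  obtain ⟨v, hv, v1⟩ := oz_ne h.pg h.ne
  by_cases e : x * v = v * x
  · exact ⟨v, hv, v1, e⟩
  exact ⟨_, (h.nrm_fix hx hv).1, fun f => e (mul_inv_eq_iff_eq_mul.1
    ((eq_inv_of_mul_eq_one_right f).trans (inv_eq_of_sq hv.2.1))), mem_c1.1 (h.nrm_fix hx hv).2⟩

variable (h' : Loc H D T') (ne : T ≠ T')
include h' ne

theorem exists_out : ∃ x ∈ T', x ∉ D := by
  by_contra! e
  exact ne (h'.syl.eq_of_le h.syl.2.1 (fun x hx => h.le (e x hx)) h.syl.1)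

theorem mem_D {x : G} (hx : x ∈ T) (e : ∀ v ∈ oz D, x * v = v * x) : x ∈ D := by_contra fun x0 => by
  obtain ⟨x', hx', x0'⟩ := h.exists_out h' ne
  obtain ⟨a, ha, a1, f⟩ := h'.exists_fix hx'
  exact a1 (h.disj h' ne hx x0 hx' x0' ha.2.1 (e a ha) f)

theorem oz_le : oz T ≤ oz D := fun v hv =>
  ⟨h.mem_D h' ne hv.1 fun w hw => (hv.2.2 w (h.le hw.1)).symm, hv.2.1, fun d hd => hv.2.2 d (h.le hd)⟩

theorem card_sq {x : G} (hx : x ∈ T) (x0 : x ∉ D) :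
    #(oz D ⊓ 𝒞₁ x) * #(oz D ⊓ 𝒞₁ x) = #(oz D) := by
  obtain ⟨x', hx', x0'⟩ := h.exists_out h' ne
  have n := h.nV (h.syl.1 hx)
  let φ : oz D →* G := .mk' (fun v => v * (x * v * x⁻¹)) fun a b => by
    rw [Subgroup.coe_mul, ← conj_mul, mul_assoc, ← mul_assoc (b : G),
      cm_of_sq oz_sq b.2 (conj_mem n a.2)]
    simp only [mul_assoc]
  have h1 : φ.range = oz D ⊓ 𝒞₁ x := le_antisymm (by rintro _ ⟨a, rfl⟩; exact h.nrm_fix hx a.2)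
    fun v hv => let ⟨w, hw, _, e⟩ := h.free h' ne hx x0 hx' x0' hv.1 (mem_c1.1 hv.2); ⟨⟨w, hw⟩, e⟩
  have h2 : φ.ker = (oz D ⊓ 𝒞₁ x).subgroupOf _ := Subgroup.ext fun v => ⟨fun e => ⟨v.2, mem_c1.2
    (mul_inv_eq_iff_eq_mul.1 ((eq_inv_of_mul_eq_one_right e).trans (inv_eq_of_sq v.2.2.1)))⟩,
      fun e => show (v : G) * (x * v * x⁻¹) = 1 by
        rw [show x * v = v * x from mem_c1.1 e.2, mul_inv_cancel_right, v.2.2.1]⟩
  rw [← φ.ker.card_mul_index, index_ker, h1, h2,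
    Nat.card_congr (subgroupOfEquivOfLe inf_le_left).toEquiv]

theorem card_le {x : G} (hx : x ∈ T) (x0 : x ∉ D) : #T ≤ #(oz D ⊓ 𝒞₁ x) * #D := by
  obtain ⟨x', hx', x0'⟩ := h.exists_out h' ne
  obtain ⟨a, ha, a1, f⟩ := h'.exists_fix hx'
  have n := h.nV (h.syl.1 hx)
  have o : ∀ t ∈ T, t * x' * t⁻¹ ∉ D := fun t ht e =>
    x0' (by simpa [mul_assoc] using conj_mem' (h.norm (h.syl.1 ht)) e)
  choose w hw e1 e2 using fun t : T => h.free (h'.cj (h.syl.1 t.2)) (fun e => ne (by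
    rw [← cj_inv_cj (t : G) T', ← e, cj_eq_of_mem (inv_mem t.2)])) hx x0 (conj_mem_cj _ hx')
      (o t t.2) (h.nrm_fix hx ha).1 (mem_c1.1 (h.nrm_fix hx ha).2)
  refine card_le_mul (fun t => (⟨a * w t, mul_mem ha (hw t),
    mem_c1.2 (nrm_eq oz_sq n ha (hw t) (e2 t))⟩ : (oz D ⊓ 𝒞₁ x : Subgroup G))) fun s t e => ?_
  have e3 : w s = w t := mul_left_cancel (congrArg Subtype.val e)
  have e4 : CfsgH1.cj (s : G) T' = CfsgH1.cj (t : G) T' := by_contra fun g => a1 (by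
    have := (h'.cj (h.syl.1 s.2)).disj (h'.cj (h.syl.1 t.2)) g (conj_mem_cj _ hx') (o s s.2)
      (conj_mem_cj _ hx') (o t t.2) (hw s).2.1 (e1 s) (e3 ▸ e1 t)
    have e5 := e2 s
    rw [this, one_mul, mul_one, mul_inv_cancel] at e5
    exact h.disj h' ne hx x0 hx' x0' ha.2.1 (mul_inv_eq_iff_eq_mul.1
      ((eq_inv_of_mul_eq_one_right e5.symm).trans (inv_eq_of_sq ha.2.1))) f)
  have m := mul_mem (inv_mem s.2) t.2
  exact by_contra fun g => ne (h.ti h' m (h'.mem_of_norm (h.syl.1 m) (h.cit.pow4 h.syl.2.1 m)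
    (mem_normalizer_iff_cj.2 (by rw [← cj_cj, ← e4, cj_inv_cj]))) g)

end Loc

/-- `Ω₁ Z(D)` is a natural module -/
structure Nt (H D T : Subgroup G) : Prop extends Loc H D T where
  fix : ∀ x ∈ T, x ∉ D → oz D ⊓ 𝒞₁ x ≤ oz T
  card : #(oz T) * #D ≤ #T

theorem Loc.nt {H D T T' : Subgroup G} (h : Loc H D T) (h' : Loc H D T') (ne : T ≠ T')
    (hJ : ¬ JJ 2 T ≤ D) : Nt H D T := by
  obtain ⟨A, hA, hD⟩ : ∃ A, MaxA 2 T A ∧ ¬ A ≤ D := by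
    by_contra! e
    exact hJ (JJ_le_iff.2 e)
  obtain ⟨x, hx, x0⟩ := SetLike.not_le_iff_exists.1 hD
  have c : oz D ≤ 𝒞 (A ⊓ D) := fun v hv d hd => hv.2.2 d hd.2
  have VD : oz D ≤ D := fun v hv => hv.1
  have h1 := hA.2 _ ((hA.1.of_le inf_le_left).sup ⟨VD.trans h.le, isMulCommutative_iff_le.2
    fun a ha b hb => cm_of_sq oz_sq hb ha, fun a ha => by rw [pow_two, ha.2.1]⟩ c)
  have h2 := CfsgH2.card_sup_mul_card_inf (c.trans (centralizer_le_normalizer _))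
  have h3 := CfsgH2.card_sup_mul_card_inf ((hA.le.trans h.syl.1).trans h.norm)
  have h4 := card_le_of_le (sup_le hA.le h.le)
  have h5 := h.card_le h' ne (hA.le hx) x0
  have h6 := h.card_sq h' ne (hA.le hx) x0
  have h7 := card_le_of_le (show oz D ⊓ (A ⊓ D) ≤ oz D ⊓ 𝒞₁ x from fun v hv =>
    ⟨hv.1, mem_c1.2 (comm_of_isMulCommutative hA.comm hx hv.2.1)⟩)
  rw [sup_comm] at h1
  have p1 : 0 < #(A ⊓ D) := Nat.card_pos
  have p2 : 0 < #(oz D ⊓ 𝒞₁ x) := Nat.card_pos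
  have p3 : 0 < #D := Nat.card_pos
  set n := #(oz D ⊓ 𝒞₁ x)
  set m := #(oz D ⊓ (A ⊓ D))
  have k1 : n * n * #D ≤ m * #(A ⊔ D) := Nat.le_of_mul_le_mul_right (by
    calc n * n * #D * #(A ⊓ D) = #(oz D ⊔ A ⊓ D) * m * #D := by rw [h6, h2]; ring
      _ ≤ #A * m * #D := by gcongr
      _ = _ := by rw [mul_assoc m, h3]; ring) p1
  have k2 : n * #D ≤ #(A ⊔ D) := Nat.le_of_mul_le_mul_left (by
    rw [← mul_assoc]; exact k1.trans (by gcongr)) p2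
  have k3 : n ≤ m := Nat.le_of_mul_le_mul_right (c := n * #D) (by
    rw [← mul_assoc]; exact k1.trans (by gcongr; omega)) (by positivity)
  have k4 : A ⊔ D = T := eq_of_le_of_card_ge (sup_le hA.le h.le) (h5.trans k2)
  have k5 : oz D ⊓ (A ⊓ D) ≤ oz T := fun v hv => ⟨h.le hv.1.1, hv.1.2.1, fun t ht => (mem_c1.1
    ((k4.ge.trans (sup_le (fun a ha => mem_c1.2 (comm_of_isMulCommutative hA.comm hv.2.1 ha))
      fun d hd => mem_c1.2 (hv.1.2.2 d hd).symm) : T ≤ 𝒞₁ v) ht)).symm⟩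
  have k6 : ∀ y ∈ T, oz T ≤ oz D ⊓ 𝒞₁ y := fun y hy v hv =>
    ⟨h.oz_le h' ne hv, mem_c1.2 (hv.2.2 y hy)⟩
  refine ⟨h, fun y hy y0 => (eq_of_le_of_card_ge (k6 y hy) ?_).ge, ?_⟩
  · rw [Nat.mul_self_inj.1 ((h.card_sq h' ne hy y0).trans h6.symm)]
    exact k3.trans (card_le_of_le k5)
  · exact (Nat.mul_le_mul_right _ (card_le_of_le (k6 x (hA.le hx)))).trans (k2.trans h4)

namespace Nt

variable {H D T T' : Subgroup G} (h : Nt H D T) (h' : Loc H D T') (ne : T ≠ T')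
include h h' ne

omit h' ne in
theorem nrm_mem {c t : G} (hc : c ∈ oz D) (ht : t ∈ T) : c * (t * c * t⁻¹) ∈ oz T := by
  by_cases e : t ∈ D
  · rw [hc.2.2 t e, mul_inv_cancel_right, hc.2.1]; exact one_mem _
  · exact h.fix t ht e (h.nrm_fix ht hc)

omit h' ne in
theorem surj {c z : G} (hc : c ∈ oz D) (c0 : c ∉ oz T) (hz : z ∈ oz T) :
    ∃ t ∈ T, c * (t * c * t⁻¹) = z :=
  surj_comm (fun _ ht => h.nrm_mem hc ht)
    (fun t ht e => by_contra fun f => c0 (h.fix t ht f ⟨hc, mem_c1.2 e⟩)) h.card hz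

theorem three {x' : G} (hx' : x' ∈ T') (x0' : x' ∉ D) :
    ∃ x ∈ T, x ∉ D ∧ ∀ u ∈ D, (u * (x' * x)) ^ 3 = 1 := by
  obtain ⟨a, ha, a1⟩ := oz_ne h.syl.2.1 fun e => h.ne (eq_bot_iff.2 (e ▸ h.le))
  obtain ⟨y, hy, y0⟩ := h'.exists_out h.toLoc ne.symm
  have aD := h.oz_le h' ne ha
  have hc := h'.nrm_fix hx' aD
  have c1 : a * (x' * a * x'⁻¹) ≠ 1 := fun e => a1 (h.disj h' ne hy y0 hx' x0' ha.2.1 (ha.2.2 y hy)
    (mul_inv_eq_iff_eq_mul.1 ((eq_inv_of_mul_eq_one_right e).trans (inv_eq_of_sq ha.2.1))))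
  have e1 : x' * a * x'⁻¹ = a * (a * (x' * a * x'⁻¹)) := by rw [← mul_assoc, ha.2.1, one_mul]
  generalize a * (x' * a * x'⁻¹) = c at hc c1 e1
  obtain ⟨x, hx, e2⟩ := h.surj hc.1 (fun f => c1 (h.disj h' ne hy y0 hx' x0' f.2.1 (f.2.2 y hy)
    (mem_c1.1 hc.2))) ha
  have x0 : x ∉ D := fun f => a1 (by rw [← e2, hc.1.2.2 x f, mul_inv_cancel_right, hc.1.2.1])
  have o : ∀ u ∈ D, Odd (orderOf (u * (x' * x))) := fun u hu => by
    rw [← mul_assoc]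
    exact (h'.odd h.toLoc ne.symm (mul_mem (h'.le hu) hx') (fun f => x0'
      ((mul_mem_cancel_left hu).1 f)) hx x0).1
  have o3 : ∀ y : G, Odd (orderOf y) → Odd (orderOf (y ^ 3)) := fun y f =>
    f.of_dvd_nat (orderOf_pow_dvd 3)
  have r1 : x' * x * a * (x' * x)⁻¹ = a * c := by
    rw [← e1, mul_assoc x', ha.2.2 x hx]; group
  have r2 : x' * x * c * (x' * x)⁻¹ = a := by
    rw [show x' * x * c * (x' * x)⁻¹ = x' * (c⁻¹ * (c * (x * c * x⁻¹))) * x'⁻¹ by group, e2,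
      inv_eq_of_sq hc.1.2.1, ← conj_mul, e1, mem_c1.1 hc.2, mul_inv_cancel_right,
      cm_of_sq oz_sq aD hc.1, ← mul_assoc, hc.1.2.1, one_mul]
  have r3 : (x' * x) ^ 3 = 1 := by_contra fun f => a1 (h.cit.eq_one (pow4_of_sq ha.2.1)
    (o3 _ (by simpa using o 1 (one_mem _))) f (by
      rw [eq_comm, ← mul_inv_eq_iff_eq_mul, show (x' * x) ^ 3 * a * ((x' * x) ^ 3)⁻¹ = x' * x *
        (x' * x * (x' * x * a * (x' * x)⁻¹) * (x' * x)⁻¹) * (x' * x)⁻¹ by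
          simp [pow_succ, mul_assoc], r1, show x' * x * (a * c) * (x' * x)⁻¹ =
          x' * x * a * (x' * x)⁻¹ * (x' * x * c * (x' * x)⁻¹) by group, r1, r2,
        cm_of_sq oz_sq aD hc.1, mul_assoc c, ha.2.1, mul_one, r2]))
  refine ⟨x, hx, x0, fun u hu => eq_one_of_odd (k := 2) (o3 _ (o u hu)) (h.cit.pow4 h.pg ?_)⟩
  have n := h.norm (mul_mem (h'.syl.1 hx') (h.syl.1 hx))
  generalize x' * x = ρ at n r3
  rw [show (u * ρ) ^ 3 = u * (ρ * (u * (ρ * u * ρ⁻¹)) * ρ⁻¹) * ρ ^ 3 by simp [pow_succ, mul_assoc],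
    r3, mul_one]
  exact mul_mem hu (conj_mem n (mul_mem hu (conj_mem n hu)))

theorem cent {u : G} (hu : u ∈ D) (uu : u * u = 1) (e : ∀ t ∈ T, ⁅u, t⁆ ∈ oz T) : u ∈ oz D := by
  obtain ⟨x', hx', x0'⟩ := h.exists_out h' ne
  obtain ⟨x, hx, x0, r⟩ := h.three h' ne hx' x0'
  have hρ := mul_mem (h'.syl.1 hx') (h.syl.1 hx)
  have n0 : x' * x ∉ 𝒩 T := fun f => ne (h.ti h' (h.mem_of_norm (h'.syl.1 hx')
    (h.cit.pow4 h'.syl.2.1 hx') ((mul_mem_cancel_right (le_normalizer hx)).1 f)) hx' x0')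
  generalize x' * x = ρ at r hρ n0
  have n := h.norm hρ
  have o : ∀ g ∈ H, g * x * g⁻¹ ∉ D := fun g hg f =>
    x0 (by simpa [mul_assoc] using conj_mem' (h.norm hg) f)
  have e1 : ∀ t ∈ T, t * u * t⁻¹ = u * ⁅u, t⁆ := fun t _ => by
    rw [commutatorElement_def, inv_eq_of_sq uu, mul_assoc u t, mul_assoc u, ← mul_assoc u, uu]; group
  have k : ∀ s ∈ T, ∀ t ∈ T, s * t * u * (s * t)⁻¹ = u * (⁅u, s⁆ * ⁅u, t⁆) := fun s hs t ht => by
    rw [show s * t * u * (s * t)⁻¹ = s * (t * u * t⁻¹) * s⁻¹ by group, e1 t ht, ← conj_mul, e1 s hs,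
      (e t ht).2.2 s hs, mul_inv_cancel_right, mul_assoc]
  have e2 : ∀ d ∈ D, d⁻¹ * (x * d * x⁻¹) * u = u * (d⁻¹ * (x * d * x⁻¹)) := fun d hd => by
    have := k _ (inv_mem hx) d (h.le hd)
    rw [cm_of_sq oz_sq (e _ (inv_mem hx)) (e d (h.le hd)), ← k d (h.le hd) _ (inv_mem hx)] at this
    calc _ = (x⁻¹ * d)⁻¹ * (d * x⁻¹ * u * (d * x⁻¹)⁻¹) * (d * x⁻¹) := by group
      _ = _ := by rw [← this]; group
  have e3 : ∀ y ∈ D, y * (ρ⁻¹ * u * ρ) = ρ⁻¹ * u * ρ * y → u * y = y * u := fun y hy f => by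
    have r1 : ρ ^ 3 = 1 := by simpa using r 1 (one_mem _)
    have r2 : u * (ρ * u * ρ⁻¹) = (ρ⁻¹ * u * ρ)⁻¹ := eq_inv_of_mul_eq_one_left (by
      rw [← mul_inv_eq_one.2 ((r u hu).trans r1.symm), show ρ⁻¹ * u * ρ = ρ⁻¹ * ρ ^ 3 * u * ρ * (ρ ^ 3)⁻¹ by
        rw [r1]; simp]
      simp [pow_succ, mul_assoc])
    have y' := h.le (conj_mem' n hy)
    have k1 := e y (h.le hy)
    have k2 := e _ y'
    have r3 : ⁅u, y⁆ * (ρ * ⁅u, ρ⁻¹ * y * ρ⁆ * ρ⁻¹) = 1 := by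
      have a1 : y * (u * (ρ * u * ρ⁻¹)) * y⁻¹ = u * (ρ * u * ρ⁻¹) := by
        rw [r2, ← conj_inv, f, mul_inv_cancel_right]
      rw [← conj_mul, e1 y (h.le hy), show y * (ρ * u * ρ⁻¹) * y⁻¹ =
        ρ * (ρ⁻¹ * y * ρ * u * (ρ⁻¹ * y * ρ)⁻¹) * ρ⁻¹ by group, e1 _ y', ← conj_mul, mul_assoc u,
        ← mul_assoc ⁅u, y⁆, ← (h.oz_le h' ne k1).2.2 _ (conj_mem n hu), mul_assoc, mul_right_inj,
        mul_eq_left] at a1
      exact a1
    refine commutatorElement_eq_one_iff_mul_comm.1 (h.disj (h.cj hρ) (fun f => n0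
      (mem_normalizer_iff_cj.2 f.symm)) hx x0 (conj_mem_cj _ hx) (o _ hρ) k1.2.1 (k1.2.2 x hx) ?_)
    rw [eq_inv_of_mul_eq_one_left r3, inv_eq_of_sq (conj_sq ρ k2.2.1)]
    exact conj_comm ρ (k2.2.2 x hx)
  have m : ∀ g ∈ H, ∀ d ∈ D, d⁻¹ * (g * d * g⁻¹) ∈ D := fun g hg d hd =>
    mul_mem (inv_mem hd) (conj_mem (h.norm hg) hd)
  have hx'' := mul_mem (mul_mem (inv_mem hρ) (h.syl.1 hx)) (inv_mem (inv_mem hρ))
  refine ⟨hu, uu, fun d hd => (mem_c1.1 ((h.le_of (h.cj (inv_mem hρ)) (fun f => n0 (inv_mem_iff.1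
    (mem_normalizer_iff_cj.2 f.symm))) hx x0 (conj_mem_cj _ hx) (o _ (inv_mem hρ)) (E := D ⊓ 𝒞₁ u)
      inf_le_left (fun d hd => ⟨m _ (h.syl.1 hx) d hd, mem_c1.2 (e2 d hd).symm⟩)
        (fun d hd => ⟨m _ hx'' d hd, mem_c1.2 (e3 _ (m _ hx'' d hd) ?_)⟩) hd).2)).symm⟩
  have := conj_comm ρ⁻¹ (e2 _ (conj_mem n hd))
  simpa [mul_assoc] using this

end Nt

end CfsgEO
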