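/-
S4371, WP LOC: two radical subgroups over one Sylow subgroup.
-/
import Cfsg.Agent.EO.L2

set_option autoImplicit false

namespace CfsgEO

open Subgroup CfsgFT CfsgHH CfsgL0 CfsgCA CfsgH3
open CfsgBS (inv_eq_of_sq)
open CfsgH1 (cj)
open scoped commutatorElement

variable {G : Type*} [Group G] [Finite G]

/-- a radical 2-subgroup whose normaliser is not 2-closed -/
structure Rad (D T : Subgroup G) : Prop extends Loc (𝒩 D) D T where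
  two : ∃ T', Loc (𝒩 D) D T' ∧ T ≠ T'

theorem Loc.cj' {H D T : Subgroup G} (h : Loc H D T) (g : G) :
    Loc (CfsgH1.cj g H) (CfsgH1.cj g D) (CfsgH1.cj g T) :=
  ⟨h.cit, fun e => h.ne (cj_eq_bot_iff.1 e), by rw [← h.core, cj_pCoreOf], h.syl.cj g⟩

namespace Rad

variable {D T : Subgroup G} (h : Rad D T)
include h

theorem conj (g : G) : Rad (cj g D) (cj g T) :=
  let ⟨_, h', ne⟩ := h.two
  ⟨cj_normalizer g D ▸ h.cj' g, _, cj_normalizer g D ▸ h'.cj' g, fun e => ne (cj_inj.1 e)⟩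

omit [Finite G] in
theorem of_loc {T' : Subgroup G} (h' : Loc (𝒩 D) D T') : Rad D T' := ⟨h', by
  by_cases e : T' = T
  · exact e ▸ h.two
  · exact ⟨T, h.toLoc, e⟩⟩

theorem mx {J : Subgroup G} (hJ : IsPGroup 2 J) (h0 : J ≠ ⊥) (hn : 𝒩 D ≤ 𝒩 J) : 𝒩 J ≤ 𝒩 D := by
  obtain ⟨T', h', ne⟩ := h.two
  have c0 : pCoreOf 2 (𝒩 J) ≠ ⊥ := fun e =>
    h0 (eq_bot_iff.2 (e ▸ le_pCoreOf le_normalizer le_rfl hJ))
  obtain ⟨R, hR, TR⟩ := CfsgH2.exists_isSylowOf_ge h.syl.2.1 (h.syl.1.trans hn)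
  obtain ⟨R', hR', TR'⟩ := CfsgH2.exists_isSylowOf_ge h'.syl.2.1 (h'.syl.1.trans hn)
  have l : Loc (𝒩 J) _ R := ⟨h.cit, c0, rfl, hR⟩
  have l' : Loc (𝒩 J) _ R' := ⟨h.cit, c0, rfl, hR'⟩
  have h1 : D ≤ pCoreOf 2 (𝒩 J) := fun x hx => by_contra fun x0 => by
    have e := l.ti l' (TR (h.le hx)) (TR' (h'.le hx)) x0
    have p := hR.2.1.to_inf_left (K := 𝒩 D)
    exact ne ((h.syl.eq_of_le p (le_inf TR h.syl.1) inf_le_right).symm.trans
      (h'.syl.eq_of_le p (le_inf (e ▸ TR') h'.syl.1) inf_le_right))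
  rw [le_antisymm h1 (CfsgH1.le_of_inf_normalizer_le isPGroup_pCoreOf h1
    ((pCoreOf_inf_le hn).trans h.core.le))]
  exact le_normalizer_pCoreOf

theorem mem_of_comm {W : Subgroup G} (hW : oz D ≤ 𝒩 W) {v w : G} (hv : v ∈ oz D) (hw : w ∈ W)
    (hT : w ∈ T) (w0 : w ∉ D) (e : w * v = v * w) : v ∈ W := by
  obtain ⟨T', h', ne⟩ := h.two
  obtain ⟨x', hx', x0'⟩ := h.exists_out h' ne
  obtain ⟨u, hu, -, rfl⟩ := h.free h' ne hT w0 hx' x0' hv e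
  rw [show u * (w * u * w⁻¹) = u * w * u⁻¹ * w⁻¹ by rw [inv_eq_of_sq hu.2.1]; group]
  exact mul_mem (conj_mem (hW hu) hw) (inv_mem hw)

theorem mem_D {x : G} (hx : x ∈ T) (e : ∀ v ∈ oz D, x * v = v * x) : x ∈ D :=
  let ⟨_, h', ne⟩ := h.two; h.toLoc.mem_D h' ne hx e

theorem out : ∃ x ∈ T, x ∉ D := let ⟨_, h', ne⟩ := h.two; h'.exists_out h.toLoc ne.symm

theorem card_sq {x : G} (hx : x ∈ T) (x0 : x ∉ D) :
    #(oz D ⊓ 𝒞₁ x) * #(oz D ⊓ 𝒞₁ x) = #(oz D) :=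
  let ⟨_, h', ne⟩ := h.two; h.toLoc.card_sq h' ne hx x0

theorem oz_le : oz T ≤ oz D := let ⟨_, h', ne⟩ := h.two; h.toLoc.oz_le h' ne

theorem ozT : oz D ≤ T := fun _ hv => h.le hv.1

variable {E : Subgroup G} (k : Rad E T)
include k

theorem not_comm (ne : D ≠ E) (hJ : ¬ JJ 2 T ≤ D) : ¬ oz E ≤ 𝒞 (oz D) := fun c => by
  obtain ⟨T', h', hT⟩ := h.two
  have nt := h.nt h' hT hJ
  have h1 : ∀ x ∈ T, x ∉ D → oz E ⊓ 𝒞₁ x ≤ oz T := fun x hx x0 => by_contra fun e => by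
    obtain ⟨u, hu, u0, -, f⟩ := CfsgH2.exists_central_mod k.syl.2.1 (inf_le_left.trans k.ozT)
      (fun t ht => mem_normalizer_of_conj_mem fun u hu => ⟨conj_mem (k.nV (k.syl.1 ht)) hu.1, by
        have e := hu.1.2.2 _ (k.comm_of_sq (k.syl.1 ht) (k.syl.1 hx) (k.sqT ht)
          (k.sqT hx) (k.sqT (mul_mem ht hx)))
        refine mem_c1.2 (calc _ = t * (t⁻¹ * (x * t * x⁻¹) * (x * u)) * t⁻¹ := by group
          _ = _ := ?_)
        rw [mem_c1.1 hu.2, ← mul_assoc _ u, e]; group⟩) e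
    exact u0 (nt.fix x hx x0 ⟨nt.cent h' hT (h.mem_D (k.ozT hu.1) fun v hv => (c hu.1 v hv).symm)
      hu.1.2.1 f, hu.2⟩)
  have h2 : E ≤ D := fun x hx => by_contra fun x0 => by
    obtain ⟨y, hy, y0⟩ := k.out
    exact y0 (k.mem_D hy fun v hv => (h1 x (k.le hx) x0 ⟨hv, mem_c1.2 (hv.2.2 x hx)⟩).2.2 y hy)
  obtain ⟨e, he, e0⟩ := SetLike.not_le_iff_exists.1 fun f : D ≤ E => ne (le_antisymm f h2)
  obtain ⟨x, hx, x0⟩ := h.out
  have h3 : oz D ≤ oz E ⊓ 𝒞₁ e := fun v hv => ⟨⟨k.mem_D (h.ozT hv) fun w hw => c hw v hv, hv.2.1,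
    fun d hd => hv.2.2 d (h2 hd)⟩, mem_c1.2 (hv.2.2 e he)⟩
  have h4 := Nat.mul_self_inj.1 ((k.card_sq (h.le he) e0).trans
    (k.card_sq hx fun f => x0 (h2 f)).symm)
  have h5 : oz T = oz D := eq_of_le_of_card_ge h.oz_le
    ((card_le_of_le h3).trans (h4.le.trans (card_le_of_le (h1 x hx x0))))
  exact x0 (h.mem_D hx fun v hv => (h5.ge hv).2.2 x hx)

theorem exists_nc (ne : D ≠ E) : ∃ v ∈ oz D, ∃ w ∈ oz E, w * v ≠ v * w := by
  by_contra! c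
  by_cases h1 : JJ 2 T ≤ D
  · by_cases h2 : JJ 2 T ≤ E
    · have p := h.syl.2.1.to_le (JJ_le (n := 2) T)
      have j0 := JJ_ne_bot (n := 2) (p := 2) (.inr rfl) h.syl.2.1
        fun e => h.ne (eq_bot_iff.2 (e ▸ h.le))
      have n1 := normalizer_le_normalizer_JJ (n := 2) D
      have n2 := normalizer_le_normalizer_JJ (n := 2) E
      rw [JJ_eq_of_le h1 h.le] at n1
      rw [JJ_eq_of_le h2 k.le] at n2
      exact ne (by rw [← h.core, le_antisymm (n1.trans (k.mx p j0 n2)) (n2.trans (h.mx p j0 n1)),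
        k.core])
    · exact k.not_comm h ne.symm h2 fun v hv w hw => c v hv w hw
  · exact h.not_comm k ne h1 fun w hw v hv => (c v hv w hw).symm

theorem fix_eq {w : G} (hw : w ∈ oz E) (w0 : w ∉ D) : oz D ⊓ 𝒞₁ w = oz D ⊓ oz E :=
  le_antisymm (fun _ hv => ⟨hv.1, h.mem_of_comm (h.ozT.trans (k.syl.1.trans k.nV)) hv.1 hw
    (k.ozT hw) w0 (mem_c1.1 hv.2)⟩) fun _ hv => ⟨hv.1, mem_c1.2 (cm_of_sq oz_sq hw hv.2)⟩

theorem sup_eq {v w : G} (hv : v ∈ oz D) (hw : w ∈ oz E) (e : w * v ≠ v * w) : oz E ⊔ D = T := by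
  have w0 : w ∉ D := fun f => e (hv.2.2 w f)
  have v0 : v ∉ E := fun f => e (hw.2.2 v f).symm
  obtain ⟨T', h', ne⟩ := h.two
  have h1 := h.card_le h' ne (k.ozT hw) w0
  have h2 := k.card_sq (h.ozT hv) v0
  have h3 := CfsgH2.card_sup_mul_card_inf (k.ozT.trans h.syl.1)
  have h4 := card_le_of_le (show oz E ⊓ D ≤ oz E ⊓ 𝒞₁ v from fun u hu =>
    ⟨hu.1, mem_c1.2 (hv.2.2 u hu.2).symm⟩)
  rw [h.fix_eq k hw w0, inf_comm] at h1
  rw [k.fix_eq h hv v0] at h2 h4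
  refine eq_of_le_of_card_ge (sup_le k.ozT h.le) (h1.trans (Nat.le_of_mul_le_mul_right ?_
    (Nat.card_pos (α := (oz E ⊓ oz D : Subgroup G)))))
  calc _ = #(oz E ⊔ D) * #(oz E ⊓ D) := by rw [h3, ← h2]; ring
    _ ≤ _ := by gcongr

theorem oz_eq {v w : G} (hv : v ∈ oz D) (hw : w ∈ oz E) (e : w * v ≠ v * w) : oz D = D := by
  have w0 : w ∉ D := fun f => e (hv.2.2 w f)
  obtain ⟨T', h', ne⟩ := h.two
  obtain ⟨g, hg, rfl⟩ := h.syl.exists_cj_eq h'.syl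
  have n := h.syl.1.trans h.nV
  have h1 : ∀ d ∈ D, d⁻¹ * (w * d * w⁻¹) ∈ oz D := fun d hd => by
    obtain ⟨a, ha, b, hb, rfl⟩ := (CfsgH2.mem_sup_of_le_normalizer (k.le.trans n)).1
      ((k.sup_eq h hw hv e.symm).ge (h.le hd))
    rw [show (a * b)⁻¹ * (w * (a * b) * w⁻¹) = b⁻¹ * (a⁻¹ * (w * a * w⁻¹)) * (w * b * w⁻¹) by group,
      ← hw.2.2 b hb, mul_inv_cancel_right]
    exact conj_mem' (n (k.le hb)) (mul_mem (inv_mem ha) (conj_mem (n (k.ozT hw)) ha))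
  refine le_antisymm (fun _ f => f.1) (h.le_of h' ne (k.ozT hw) w0 (conj_mem_cj g (k.ozT hw))
    (fun f => w0 (by simpa [mul_assoc] using conj_mem' hg f)) (fun _ f => f.1) h1 fun d hd => ?_)
  simpa [mul_assoc] using conj_mem (h.nV hg) (h1 _ (conj_mem' hg hd))

end Rad

/-- two radical subgroups over the same Sylow subgroup -/
structure Tw (V W T : Subgroup G) : Prop where
  r : Rad V T
  r' : Rad W T
  ne : V ≠ W
  oz : oz V = V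
  oz' : CfsgEO.oz W = W
  sup : V ⊔ W = T
  card : #(V ⊓ W) * #(V ⊓ W) = #V
  card' : #(W ⊓ V) * #(W ⊓ V) = #W

theorem Rad.tw {V W T : Subgroup G} (h : Rad V T) (k : Rad W T) (ne : V ≠ W) : Tw V W T := by
  obtain ⟨v, hv, w, hw, e⟩ := h.exists_nc k ne
  have w0 : w ∉ V := fun f => e (hv.2.2 w f)
  have v0 : v ∉ W := fun f => e (hw.2.2 v f).symm
  have h1 := h.oz_eq k hv hw e
  have h2 := k.oz_eq h hw hv e.symm
  have h3 := k.sup_eq h hw hv e.symm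
  have h4 := h.card_sq (k.ozT hw) w0
  have h5 := k.card_sq (h.ozT hv) v0
  rw [h.fix_eq k hw w0, h1, h2] at h4
  rw [k.fix_eq h hv v0, h1, h2] at h5
  exact ⟨h, k, ne, h1, h2, h1 ▸ h3, h4, h5⟩

end CfsgEO
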