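/-
WP L34, part 1: the projective plane of order four.
-/
import Cfsg.Agent.EO.Defs
import Cfsg.Agent.AG.B1a
import Cfsg.Agent.H4.Dihedral

set_option autoImplicit false
set_option linter.unusedSectionVars false

namespace CfsgEO

open Subgroup CfsgFT CfsgAG
open scoped commutatorElement

variable {G : Type*} [Group G] [Finite G] {V W p p' l l' m x y : Subgroup G} {g u z : G}

theorem CIT.pow_four (c : CIT G) (hz : z * z = 1) (z1 : z ≠ 1) (e : g * z = z * g) : g ^ 4 = 1 := by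
  by_cases ho : Odd (orderOf g)
  · have o2 : orderOf z = 2 := orderOf_eq_prime (by rw [_root_.sq, hz]) z1
    have := c (g * z) (by
      rw [(show Commute g z from e).orderOf_mul_eq_mul_orderOf_of_coprime
        (by rw [o2]; exact ho.coprime_two_right), o2]
      exact even_iff_two_dvd.2 (Dvd.intro_left _ rfl))
    rwa [(show Commute g z from e).mul_pow, show z ^ 4 = z * z * (z * z) by
      simp only [pow_succ, pow_zero, one_mul, mul_assoc], hz, mul_one, mul_one] at this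
  · exact c g (Nat.not_odd_iff_even.1 ho)

theorem CIT.eq_one' (c : CIT G) (hz : z * z = 1) (z1 : z ≠ 1) (e : g * z = z * g)
    (ho : Odd (orderOf g)) : g = 1 :=
  orderOf_eq_one_iff.1 (Nat.Coprime.eq_one_of_dvd (ho.coprime_two_right.pow_right 2)
    (orderOf_dvd_of_pow_eq_one (c.pow_four hz z1 e)))

/-- conjugate subgroups -/
def Cj (V p : Subgroup G) : Prop := ∃ g, cj g V = p

theorem Cj.rfl : Cj V V := ⟨1, CfsgH1.cj_one V⟩
protected theorem Cj.cj (h : Cj V p) (g : G) : Cj V (cj g p) := by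
  obtain ⟨k, rfl⟩ := h; exact ⟨g * k, (cj_cj _ _ _).symm⟩

theorem inc_cj (h : p ⊓ l ≠ ⊥) (g : G) : cj g p ⊓ cj g l ≠ ⊥ := by
  rwa [← cj_inf, Ne, CfsgH1.cj_eq_bot_iff]

theorem inc_of (h1 : z ∈ p) (h2 : z ∈ l) (z1 : z ≠ 1) : p ⊓ l ≠ ⊥ := fun e =>
  z1 (mem_bot.1 (e.le ⟨h1, h2⟩))

theorem of_inc (h : p ⊓ l ≠ ⊥) : ∃ z ∈ p, z ∈ l ∧ z ≠ 1 := by
  obtain ⟨⟨z, h1, h2⟩, z1⟩ := ne_bot_iff_exists_ne_one.1 h
  exact ⟨z, h1, h2, fun e => z1 (Subtype.ext e)⟩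

theorem inc_symm (h : p ⊓ l ≠ ⊥) : l ⊓ p ≠ ⊥ := by rwa [inf_comm]

/-- the hypotheses -/
structure PL (V W : Subgroup G) : Prop where
  c : CIT G
  pat : Pat V W 4

namespace PL

variable (h : PL V W)
include h

theorem symm : PL W V :=
  ⟨h.c, ⟨h.pat.sqW, h.pat.sqV, h.pat.cardW, h.pat.cardV, inf_comm V W ▸ h.pat.cardZ, h.pat.two,
    h.pat.WV, h.pat.VW, sup_comm V W ▸ h.pat.syl,
    fun w hw v hv e => (h.pat.nc v hv w hw e.symm).symm, h.pat.partW, h.pat.partV,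
    sup_comm V W ▸ h.pat.normW, sup_comm V W ▸ h.pat.normV⟩⟩

protected theorem cj (g : G) : PL (cj g V) (cj g W) := by
  have f : ∀ {A B : Subgroup G}, A ≤ 𝒩 B → cj g A ≤ 𝒩 (cj g B) := fun e =>
    CfsgH1.cj_normalizer g _ ▸ cj_mono g e
  have f1 : ∀ {A : Subgroup G}, (∀ v ∈ A, v * v = 1) → ∀ v ∈ cj g A, v * v = 1 := fun e v hv => by
    have := e _ (mem_cj.1 hv)
    calc v * v = g * (g⁻¹ * v * g * (g⁻¹ * v * g)) * g⁻¹ := by group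
      _ = 1 := by rw [this]; group
  have f2 : ∀ {A B : Subgroup G}, (∀ v ∈ A, ∃ k ∈ 𝒩 A, k * v * k⁻¹ ∈ B) →
      ∀ v ∈ cj g A, ∃ k ∈ 𝒩 (cj g A), k * v * k⁻¹ ∈ cj g B := fun e v hv => by
    obtain ⟨k, hk, e⟩ := e _ (mem_cj.1 hv)
    exact ⟨g * k * g⁻¹, CfsgH1.cj_normalizer g _ ▸ conj_mem_cj g hk,
      mem_cj.2 (by simpa [mul_assoc] using e)⟩
  have f3 : ∀ {A : Subgroup G}, 𝒩 (V ⊔ W) ≤ 𝒩 A → 𝒩 (cj g V ⊔ cj g W) ≤ 𝒩 (cj g A) := fun e => by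
    rw [← cj_sup, ← CfsgH1.cj_normalizer, ← CfsgH1.cj_normalizer]; exact cj_mono g e
  refine ⟨h.c, f1 h.pat.sqV, f1 h.pat.sqW, by rw [card_cj, h.pat.cardV], by rw [card_cj, h.pat.cardW],
    by rw [← cj_inf, card_cj, h.pat.cardZ], h.pat.two, f h.pat.VW, f h.pat.WV, ?_,
    fun v hv w hw e => ?_, f2 h.pat.partV, f2 h.pat.partW, f3 h.pat.normV, f3 h.pat.normW⟩
  · rw [← cj_sup, ← CfsgH1.cj_top g]; exact h.pat.syl.cj g
  · refine (h.pat.nc _ (mem_cj.1 hv) _ (mem_cj.1 hw) ?_).imp mem_cj.2 mem_cj.2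
    calc _ = g⁻¹ * (v * w) * g := by group
      _ = _ := by rw [e]; group

theorem sq (hp : Cj V p) (hz : z ∈ p) : z * z = 1 := by
  obtain ⟨g, rfl⟩ := hp; exact (h.cj g).pat.sqV z hz

theorem card (hp : Cj V p) : #p = 16 := by obtain ⟨g, rfl⟩ := hp; exact (h.cj g).pat.cardV

theorem comm (hp : Cj V p) (hz : z ∈ p) (hu : u ∈ p) : z * u = u * z :=
  mem_cent_iff.1 (comm_of_sq (fun _ => h.sq hp) hz) u hu

theorem inv_cases (hu : u ∈ V ⊔ W) (uu : u * u = 1) : u ∈ V ∨ u ∈ W := by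
  obtain ⟨v, hv, w, hw, rfl⟩ := (CfsgH1.mem_sup_of_le_normalizer h.pat.VW).1 hu
  refine (h.pat.nc v hv w hw ?_).symm.imp (mul_mem hv) (mul_mem · hw)
  calc v * w = (v * w)⁻¹ := (inv_eq_of_mul_eq_one_right uu).symm
    _ = _ := by rw [mul_inv_rev, inv_eq_of_mul_eq_one_right (h.pat.sqV v hv),
      inv_eq_of_mul_eq_one_right (h.pat.sqW w hw)]

theorem cent_eq (h1 : z ∈ V) (h2 : z ∈ W) (z1 : z ≠ 1) : 𝒞₁ z = V ⊔ W :=
  h.pat.syl.eq_of_le (CfsgH1.isPGroup_iff_forall.2 fun _ hg =>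
    ⟨2, h.c.pow_four (h.pat.sqV z h1) z1 (mem_c1.1 hg)⟩)
    (sup_le (fun _ hv => mem_c1.2 (h.comm .rfl hv h1)) fun _ hv =>
      mem_c1.2 (h.symm.comm .rfl hv h2)) le_top

theorem conj_Z (uu : u * u = 1) : ∃ g, g * u * g⁻¹ ∈ V ∧ g * u * g⁻¹ ∈ W := by
  obtain ⟨k, -, hk⟩ := h.pat.syl.exists_cj_le (CfsgCA.pg_invol uu) le_top
  have e : ∀ n, n * (k * u * k⁻¹) * n⁻¹ = n * k * u * (n * k)⁻¹ := fun n => by group
  rcases h.inv_cases (hk (conj_mem_cj k (mem_zpowers u))) (by rw [conj_mul, uu]; simp) with a | a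
  · obtain ⟨n, hn, b⟩ := h.pat.partV _ a
    exact ⟨n * k, e n ▸ conj_mem_of_mem_norm hn a, e n ▸ b⟩
  · obtain ⟨n, hn, b⟩ := h.pat.partW _ a
    exact ⟨n * k, e n ▸ b, e n ▸ conj_mem_of_mem_norm hn a⟩

theorem not_le : ¬ V ≤ W := fun e => by
  have := h.pat.cardZ
  rw [inf_eq_left.2 e, h.pat.cardV] at this
  omega

theorem not_cj : ¬ Cj V W := by
  rintro ⟨g, e⟩
  have a : V ⊔ W ≤ 𝒩 W := sup_le h.pat.VW le_normalizer
  have b := h.cj g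
  rw [e] at b
  obtain ⟨n, hn, e2⟩ := (b.pat.syl.mono (sup_le le_normalizer b.pat.WV) le_top).exists_cj_eq
    (h.pat.syl.mono a le_top)
  have e3 : n * g ∈ 𝒩 V := h.pat.normV (mem_normalizer_iff_cj.2 (by
    rw [← cj_cj, cj_sup g, e]; exact e2))
  rw [mem_normalizer_iff_cj, ← cj_cj, e, mem_normalizer_iff_cj.1 hn] at e3
  exact h.not_le e3.ge

theorem eq_of_mem (hp : Cj V p) (h0 : z ∈ p) (h1 : z ∈ V) (h2 : z ∈ W) (z1 : z ≠ 1) : p = V := by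
  have a : ∀ v ∈ p, v ∈ V ∨ v ∈ W := fun v hv =>
    h.inv_cases (h.cent_eq h1 h2 z1 ▸ mem_c1.2 (h.comm hp hv h0)) (h.sq hp hv)
  by_cases e : p ≤ W
  · exact absurd (eq_of_le_of_card_ge e (by rw [h.card hp, h.pat.cardW]; norm_num) ▸ hp) h.not_cj
  · obtain ⟨v, hv, v1⟩ := SetLike.not_le_iff_exists.1 e
    refine eq_of_le_of_card_ge (fun w hw => (a w hw).elim id fun e1 => ?_)
      (by rw [h.card hp, h.pat.cardV]; norm_num)
    exact (mul_mem_cancel_left ((a v hv).resolve_right v1)).1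
      ((a _ (mul_mem hv hw)).resolve_right fun e2 => v1 ((mul_mem_cancel_right e1).1 e2))

theorem uniq (hp : Cj V p) (hp' : Cj V p') (h1 : z ∈ p) (h2 : z ∈ p') (z1 : z ≠ 1) : p = p' := by
  obtain ⟨g, a, b⟩ := h.conj_Z (h.sq hp h1)
  have c : g * z * g⁻¹ ≠ 1 := by simpa using z1
  exact CfsgH1.cj_inj.1 ((h.eq_of_mem (hp.cj g) (conj_mem_cj g h1) a b c).trans
    (h.eq_of_mem (hp'.cj g) (conj_mem_cj g h2) a b c).symm)

theorem ex (uu : u * u = 1) : ∃ p, Cj V p ∧ u ∈ p := by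
  obtain ⟨g, a, -⟩ := h.conj_Z uu
  exact ⟨_, ⟨g⁻¹, rfl⟩, mem_cj.2 (by rwa [inv_inv])⟩

theorem flag (hp : Cj V p) (hl : Cj W l) (i : p ⊓ l ≠ ⊥) : PL p l := by
  obtain ⟨z, h1, h2, z1⟩ := of_inc i
  obtain ⟨g, a, b⟩ := h.conj_Z (h.sq hp h1)
  rw [h.uniq hp ⟨g⁻¹, rfl⟩ h1 (mem_cj.2 (by rwa [inv_inv])) z1,
    h.symm.uniq hl ⟨g⁻¹, rfl⟩ h2 (mem_cj.2 (by rwa [inv_inv])) z1]
  exact h.cj _

theorem norm (hp : Cj V p) (hl : Cj W l) (i : p ⊓ l ≠ ⊥) (hu : u ∈ l) : cj u p = p :=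
  mem_normalizer_iff_cj.1 ((h.flag hp hl i).pat.WV hu)

theorem fix (hp : Cj V p) (hl : Cj W l) (hu : u ∈ l) (u1 : u ≠ 1) (n : cj u p = p) : p ⊓ l ≠ ⊥ := by
  by_cases e : u ∈ p
  · exact inc_of e hu u1
  have uu := h.symm.sq hl hu
  obtain ⟨v, v1, hv⟩ : ∃ v, v ≠ 1 ∧ v ∈ p := by
    obtain ⟨⟨v, hv⟩, v1⟩ := ne_bot_iff_exists_ne_one.1 (show p ≠ ⊥ by
      intro e; have := h.card hp; rw [e, card_bot] at this; omega)
    exact ⟨v, fun e => v1 (Subtype.ext e), hv⟩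
  have hv' : u * v * u⁻¹ ∈ p := n ▸ conj_mem_cj u hv
  have ui : u⁻¹ = u := inv_eq_of_mul_eq_one_right uu
  obtain ⟨z, hz, z1, c⟩ : ∃ z ∈ p, z ≠ 1 ∧ u * z = z * u := by
    by_cases e : u * v = v * u
    · exact ⟨v, hv, v1, e⟩
    · refine ⟨v * (u * v * u⁻¹), mul_mem hv hv', fun e' => e ?_, ?_⟩
      · have := inv_eq_of_mul_eq_one_right e'
        rw [inv_eq_of_mul_eq_one_right (h.sq hp hv)] at this
        exact mul_inv_eq_iff_eq_mul.1 this.symm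
      · calc _ = u * v * u⁻¹ * (u * u * v * u⁻¹) := by group
          _ = u * v * u⁻¹ * v * u := by rw [uu, ui, one_mul, mul_assoc (u * v * u)]
          _ = _ := by rw [h.comm hp hv hv']
  obtain ⟨m, hm, hz'⟩ := h.symm.ex (h.sq hp hz)
  have f := h.flag hp hm (inc_of hz hz' z1)
  rw [h.symm.uniq hl hm hu
    ((f.inv_cases (f.cent_eq hz hz' z1 ▸ mem_c1.2 c) uu).resolve_left e) u1]
  exact inc_of hz hz' z1

theorem two (hp : Cj V p) (hp' : Cj V p') (hl : Cj W l) (hl' : Cj W l') (i1 : p ⊓ l ≠ ⊥)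
    (i2 : p' ⊓ l ≠ ⊥) (i3 : p ⊓ l' ≠ ⊥) (i4 : p' ⊓ l' ≠ ⊥) (ne : p ≠ p') : l = l' := by
  obtain ⟨a, a1, a2, a0⟩ := of_inc i2
  obtain ⟨b, b1, b2, b0⟩ := of_inc i3
  have f := (h.flag hp hl i1).pat
  by_cases e : b * a = a * b
  · exact (f.nc b b1 a a2 e).elim (fun e => h.symm.uniq hl hl' e b2 b0)
      fun e => absurd (h.uniq hp hp' e a1 a0) ne
  · refine absurd (h.uniq hp hp' (z := b * a * b⁻¹ * a⁻¹) ?_ (mul_mem (conj_mem_of_mem_norm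
      ((h.flag hp' hl' i4).pat.WV b2) a1) (inv_mem a1)) fun e' => e ?_) ne
    · simpa [mul_assoc] using mul_mem b1 (conj_mem_of_mem_norm (f.WV a2) (inv_mem b1))
    · rw [mul_inv_eq_one, mul_inv_eq_iff_eq_mul] at e'; exact e'

end PL

end CfsgEO
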