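/-
WP L34, part 2: joins, transitivity of the elation groups, the order bound.
-/
import Cfsg.Agent.EO.L34a
import Cfsg.Agent.H4.Count

set_option autoImplicit false
set_option linter.unusedSectionVars false

namespace CfsgEO

open Subgroup CfsgFT CfsgAG
open scoped commutatorElement

variable {G : Type*} [Group G] [Finite G] {V W p p' l l' m x y : Subgroup G} {g u z t : G}

theorem exists_ne_ne {A : Subgroup G} (h : 2 < #A) (t : G) : ∃ z ∈ A, z ≠ 1 ∧ z ≠ t := by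
  classical
  by_contra e
  push Not at e
  have : (A : Set G) ⊆ {1, t} := fun z hz => (em (z = 1)).imp id (e z hz)
  have := (Set.ncard_le_ncard this).trans (Set.ncard_insert_le _ _)
  rw [Set.ncard_singleton, ← Nat.card_coe_set_eq] at this
  exact absurd h (not_lt.2 this)

namespace PL

variable (h : PL V W)
include h

theorem inc_of_comm (hp : Cj V p) (ht : t ∈ p) (t1 : t ≠ 1) (hm : Cj W m) (hz : z ∈ m) (z1 : z ≠ 1)
    (e : t * z = z * t) : p ⊓ m ≠ ⊥ := by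
  obtain ⟨q, hq, hz'⟩ := h.ex (h.symm.sq hm hz)
  have f := h.flag hq hm (inc_of hz' hz z1)
  rcases f.inv_cases (f.cent_eq hz' hz z1 ▸ mem_c1.2 e) (h.sq hp ht) with a | a
  · rw [h.uniq hp hq ht a t1]; exact inc_of hz' hz z1
  · exact inc_of ht a t1

theorem exists_mem (hp : Cj V p) (t : G) : ∃ z ∈ p, z ≠ 1 ∧ z ≠ t :=
  exists_ne_ne (by rw [h.card hp]; norm_num) t

theorem cj_eq (hp : Cj V p) (hp' : Cj V p') (ht : t ∈ p) (t1 : t ≠ 1) (e : g * t * g⁻¹ ∈ p') :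
    cj g p = p' :=
  h.uniq (hp.cj g) hp' (conj_mem_cj g ht) e (by simpa using t1)

theorem join (hp : Cj V p) (hp' : Cj V p') : ∃ l, Cj W l ∧ p ⊓ l ≠ ⊥ ∧ p' ⊓ l ≠ ⊥ := by
  by_contra nc
  have noinv : ∀ u, u * u = 1 → u ∈ 𝒩 p ⊓ 𝒩 p' → u = 1 := fun u uu hu => by
    by_contra u1
    obtain ⟨l, hl, a⟩ := h.symm.ex uu
    exact nc ⟨l, hl, h.fix hp hl a u1 (mem_normalizer_iff_cj.1 hu.1),
      h.fix hp' hl a u1 (mem_normalizer_iff_cj.1 hu.2)⟩
  have odd : ∀ y ∈ 𝒩 p ⊓ 𝒩 p', Odd (orderOf y) := fun y hy => by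
    by_contra e
    obtain ⟨n, a, b⟩ := CfsgCA.exists_invol_pow e
    exact a (noinv _ b (pow_mem hy n))
  obtain ⟨t, ht, t1, -⟩ := h.exists_mem hp 1
  have tt := h.sq hp ht
  have mid : ∀ t' ∈ p', t' ≠ 1 → ∃ s, s * s = 1 ∧ s * t * s⁻¹ = t' ∧ cj s p = p' ∧ cj s p' = p :=
    fun t' ht' t1' => by
    have tt' := h.sq hp' ht'
    obtain ⟨n, hn⟩ : Odd (orderOf (t * t')) := by
      by_contra e
      obtain ⟨n, a, b⟩ := CfsgCA.exists_invol_pow e
      obtain ⟨m, hm, c⟩ := h.symm.ex b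
      exact nc ⟨m, hm, h.inc_of_comm hp ht t1 hm c a
        (CfsgH4.dih_commute_left tt tt' (pow_mem (mem_zpowers _) n) b).symm,
        h.inc_of_comm hp' ht' t1' hm c a
        (CfsgH4.dih_commute_right tt tt' (pow_mem (mem_zpowers _) n) b).symm⟩
    have s2 := CfsgH4.dih_refl_sq tt tt' n
    have e : (t * t') ^ (n : ℤ) * t * t * ((t * t') ^ (n : ℤ) * t)⁻¹ = t' := by
      rw [show ∀ a : G, a * t * t * (a * t)⁻¹ = a * t * a⁻¹ from fun a => by group,
        CfsgH4.dih_conj_left tt tt', show (2 * n : ℤ) = (orderOf (t * t') : ℕ) + -1 by omega, zpow_add,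
        zpow_natCast, pow_orderOf_eq_one, one_mul, ← CfsgH4.dih_right_eq tt tt']
    have a := h.cj_eq hp hp' ht t1 (e ▸ ht')
    exact ⟨_, s2, e, a, by rw [← a, cj_cj, s2, CfsgH1.cj_one]⟩
  obtain ⟨t0, ht0, t01, -⟩ := h.exists_mem hp' 1
  obtain ⟨s, ss, -, s1, s2⟩ := mid t0 ht0 t01
  have tr : ∀ z ∈ p, z ≠ 1 → ∃ k ∈ 𝒩 p ⊓ 𝒩 p', k * t * k⁻¹ = z ∧ s * k * s = k⁻¹ := fun z hz z1 => by
    obtain ⟨r, rr, e, r1, r2⟩ := mid (s * z * s⁻¹) (s1 ▸ conj_mem_cj s hz) (by simpa using z1)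
    refine ⟨s * r, ⟨mem_normalizer_iff_cj.2 (by rw [← cj_cj, r1, s2]),
      mem_normalizer_iff_cj.2 (by rw [← cj_cj, r2, s1])⟩, ?_, ?_⟩
    · calc _ = s * (r * t * r⁻¹) * s⁻¹ := by group
        _ = s * s * z * (s * s)⁻¹ := by rw [e]; group
        _ = z := by rw [ss]; group
    · rw [← mul_assoc, ss, one_mul, mul_inv_rev, inv_eq_of_mul_eq_one_right rr,
        inv_eq_of_mul_eq_one_right ss]
  have inv : ∀ y ∈ 𝒩 p ⊓ 𝒩 p', s * y * s = y⁻¹ := fun y hy => by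
    obtain ⟨k, hk, e, e'⟩ := tr _ (conj_mem_of_mem_norm hy.1 ht) (by simpa using t1)
    have := h.c.eq_one' (g := k⁻¹ * y) tt t1 (by
      calc _ = k⁻¹ * (y * t * y⁻¹) * y := by group
        _ = _ := by rw [← e]; group) (odd _ (mul_mem (inv_mem hk) hy))
    rwa [← inv_mul_eq_one.1 this]
  have cm : ∀ a ∈ 𝒩 p ⊓ 𝒩 p', ∀ b ∈ 𝒩 p ⊓ 𝒩 p', a * b = b * a := fun a ha b hb => by
    have := inv _ (mul_mem ha hb)
    rw [show s * (a * b) * s = s * a * s * (s * s)⁻¹ * (s * b * s) by group, ss, inv a ha, inv b hb,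
      inv_one, mul_one, ← mul_inv_rev] at this
    exact (inv_injective this).symm
  obtain ⟨l, hl, htl⟩ := h.symm.ex tt
  have f := h.flag hp hl (inc_of ht htl t1)
  obtain ⟨z, hz, z1, zt⟩ := exists_ne_ne (A := p ⊓ l) (by rw [f.pat.cardZ]; norm_num) t
  obtain ⟨k, hk, e, -⟩ := tr z hz.1 z1
  have kl : ∀ l', Cj W l' → p ⊓ l' ≠ ⊥ → zpowers k ≤ 𝒩 l' := fun l' hl' i => by
    obtain ⟨z', a, b, c⟩ := of_inc i
    obtain ⟨j, hj, e', -⟩ := tr z' a c
    rw [zpowers_le, mem_normalizer_iff_cj, ← h.symm.cj_eq hl hl' htl t1 (e' ▸ b), cj_cj, cm k hk j hj,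
      ← cj_cj, h.symm.cj_eq hl hl htl t1 (e ▸ hz.2)]
  obtain ⟨w, hw, wp⟩ := SetLike.not_le_iff_exists.1 f.symm.not_le
  obtain ⟨v, hv, vl⟩ := SetLike.not_le_iff_exists.1 f.not_le
  have v1 : v ≠ 1 := fun e => vl (e ▸ one_mem _)
  obtain ⟨l', hl', hvl⟩ := h.symm.ex (h.sq hp hv)
  have i := inc_of ht htl t1
  have i' := inc_of hv hvl v1
  obtain ⟨n, hn, c, hc, rfl⟩ := CfsgH2.exists_eq_mul_centralizer (A := zpowers k) (N := p ⊓ l) (x := w)
    (CfsgH2.le_normalizer_inf (zpowers_le.2 hk.1) (kl l hl i))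
    (by rw [f.pat.cardZ, Nat.card_zpowers]; exact (odd k hk).coprime_two_right.pow_right 2)
    (Or.inl (CfsgH2.isSolvable_of_isMulCommutative inferInstance)) fun a ha => by
      have ul : ⁅w, a⁆ ∈ l := by
        simpa [commutatorElement_def, mul_assoc] using
          mul_mem hw (conj_mem_of_mem_norm (kl l hl i ha) (inv_mem hw))
      refine ⟨?_, ul⟩
      by_cases u1 : ⁅w, a⁆ = 1
      · exact u1 ▸ one_mem _
      obtain ⟨q, hq, uq⟩ := h.ex (h.symm.sq hl ul)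
      have := h.symm.fix hl' hq uq u1 (by
        rw [commutatorElement_def, ← cj_cj, ← cj_cj, ← cj_cj,
          mem_normalizer_iff_cj.1 (inv_mem (kl l' hl' i' ha)),
          mem_normalizer_iff_cj.1 (kl _ (hl'.cj _) (h.norm hp hl i (inv_mem hw) ▸ inc_cj i' _) ha),
          cj_cj_inv])
      by_contra e
      exact vl (h.two hp hq hl hl' i (inc_of uq ul u1) i' (inc_symm this) (fun e' => e (e' ▸ uq)) ▸ hvl)
  have cl := (l.mul_mem_cancel_left hn.2).1 hw
  have := h.c.eq_one' (h.symm.sq hl cl) (fun e => wp (by rw [e, mul_one]; exact hn.1))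
    (hc k (mem_zpowers k)) (odd k hk)
  exact zt (by rw [← e, this]; simp)

open Classical in
theorem five (hm : Cj W m) (s : Finset (Subgroup G)) (hs : ∀ q ∈ s, Cj V q ∧ q ⊓ m ≠ ⊥) :
    s.card ≤ 5 := by
  have f : ∀ A : Subgroup G, ((A : Set G).toFinite.toFinset.erase 1).card = #A - 1 := fun A => by
    rw [Finset.card_erase_of_mem (by simp), ← Set.ncard_eq_toFinset_card, ← Nat.card_coe_set_eq]
    rfl
  have a := Finset.card_biUnion (s := s)
    (t := fun q => ((q ⊓ m : Subgroup G) : Set G).toFinite.toFinset.erase 1) fun q hq q' hq' ne =>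
      Finset.disjoint_left.2 fun z h1 h2 => by
        simp only [Finset.mem_erase, Set.Finite.mem_toFinset] at h1 h2
        exact ne (h.uniq (hs q hq).1 (hs q' hq').1 h1.2.1 h2.2.1 h1.1)
  rw [Finset.sum_congr rfl fun q hq => (f _).trans (by
    rw [(h.flag (hs q hq).1 hm (hs q hq).2).pat.cardZ]), Finset.sum_const] at a
  have b : (s.biUnion fun q => ((q ⊓ m : Subgroup G) : Set G).toFinite.toFinset.erase 1) ⊆
      (m : Set G).toFinite.toFinset.erase 1 := fun z hz => by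
    simp only [Finset.mem_biUnion, Finset.mem_erase, Set.Finite.mem_toFinset] at hz ⊢
    obtain ⟨q, -, h1, h2⟩ := hz
    exact ⟨h1, h2.2⟩
  have := Finset.card_le_card b
  rw [a, f, h.symm.card hm, smul_eq_mul] at this
  omega

theorem semi (hx : Cj V x) (hl : Cj W l) (i : x ⊓ l = ⊥) {a b : G} (ha : a ∈ l) (hb : b ∈ l)
    (e : cj a x = cj b x) : a = b := by
  by_contra ne
  exact h.fix hx hl (mul_mem (inv_mem hb) ha) (fun e => ne (inv_mul_eq_one.1 e).symm)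
    (by rw [← cj_cj, e, cj_inv_cj]) i

theorem trans (hp : Cj V p) (hx : Cj V x) (hy : Cj V y) (hl : Cj W l) (hm : Cj W m)
    (i1 : p ⊓ l ≠ ⊥) (i2 : p ⊓ m ≠ ⊥) (i3 : x ⊓ m ≠ ⊥) (i4 : y ⊓ m ≠ ⊥) (o1 : x ⊓ l = ⊥)
    (o2 : y ⊓ l = ⊥) : ∃ t ∈ p ⊓ l, cj t x = y := by
  classical
  by_contra e
  push Not at e
  have := h.five hm (insert p (insert y (((p ⊓ l : Subgroup G) : Set G).toFinite.toFinset.image
    fun t => cj t x))) (by
      simp only [Finset.mem_insert, Finset.mem_image, Set.Finite.mem_toFinset]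
      rintro _ (rfl | rfl | ⟨t, ht, rfl⟩)
      exacts [⟨hp, i2⟩, ⟨hy, i4⟩,
        ⟨hx.cj t, h.symm.norm hm hp (inc_symm i2) ht.1 ▸ inc_cj i3 t⟩])
  rw [Finset.card_insert_of_notMem, Finset.card_insert_of_notMem, Finset.card_image_of_injOn,
    ← Set.ncard_eq_toFinset_card, ← Nat.card_coe_set_eq] at this
  · exact absurd ((h.flag hp hl i1).pat.cardZ ▸ this : 4 + 1 + 1 ≤ 5) (by norm_num)
  · exact fun a ha b hb => h.semi hx hl o1 (by simpa using ha : a ∈ p ⊓ l).2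
      (by simpa using hb : b ∈ p ⊓ l).2
  · simp only [Finset.mem_image, Set.Finite.mem_toFinset]
    rintro ⟨t, ht, e'⟩
    exact e t ht e'
  · simp only [Finset.mem_insert, Finset.mem_image, Set.Finite.mem_toFinset]
    rintro (rfl | ⟨t, ht, e'⟩)
    · exact i1 o2
    · rw [CfsgH1.cj_eq_iff_eq_cj_inv, CfsgH1.cj_eq_of_mem (inv_mem ht.1)] at e'
      exact i1 (e' ▸ o1)

theorem off (hl : Cj W l) : ∃ o, Cj V o ∧ o ⊓ l = ⊥ := by
  obtain ⟨z, hz, z1, -⟩ := h.symm.exists_mem hl 1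
  obtain ⟨p, hp, hz'⟩ := h.ex (h.symm.sq hl hz)
  have i := inc_of hz' hz z1
  obtain ⟨v, hv, vl⟩ := SetLike.not_le_iff_exists.1 (h.flag hp hl i).not_le
  obtain ⟨m, hm, hv'⟩ := h.symm.ex (h.sq hp hv)
  have i' := inc_of hv hv' fun e => vl (e ▸ one_mem _)
  obtain ⟨w, hw, wp⟩ := SetLike.not_le_iff_exists.1 (h.flag hp hm i').symm.not_le
  obtain ⟨o, ho, hw'⟩ := h.ex (h.symm.sq hm hw)
  refine ⟨o, ho, by_contra fun e => vl (h.two hp ho hl hm i e i'
    (inc_of hw' hw fun e => wp (e ▸ one_mem _)) (fun e => wp (e ▸ hw')) ▸ hv')⟩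

theorem faith (e : ∀ p, Cj V p → cj g p = p) : g = 1 := by
  have a : ∀ u, u * u = 1 → (∀ p, Cj V p → cj u p = p) → u = 1 := fun u uu e => by
    by_contra u1
    obtain ⟨l, hl, a⟩ := h.symm.ex uu
    obtain ⟨o, ho, b⟩ := h.off hl
    exact h.fix ho hl a u1 (e o ho) b
  obtain ⟨v, hv, v1, -⟩ := h.exists_mem .rfl 1
  have b := a (g * v * g⁻¹ * v⁻¹) (h.pat.sqV _ (mul_mem (e V .rfl ▸ conj_mem_cj g hv) (inv_mem hv)))
    fun p hp => by
      rw [← cj_cj, ← cj_cj, ← cj_cj, ← e _ (hp.cj v⁻¹), cj_inv_cj, cj_cj_inv, e p hp]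
  rw [mul_inv_eq_one, mul_inv_eq_iff_eq_mul] at b
  have c := h.c.pow_four (h.pat.sqV v hv) v1 b
  have d := a (g * g) (by rw [← c]; simp only [pow_succ, pow_zero, one_mul, mul_assoc])
    fun p hp => by rw [← cj_cj, e p hp, e p hp]
  exact a g d e

theorem exists_aff {o : Subgroup G} (ho : Cj V o) (oW : o ⊓ W = ⊥) (hx : Cj V x) (i : x ⊓ W = ⊥) :
    ∃ w ∈ W, cj w o = x := by
  obtain ⟨m, hm, i1, i2⟩ := h.join ho hx
  obtain ⟨p, hp, i3, i4⟩ := h.symm.join .rfl hm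
  obtain ⟨t, ht, e⟩ := h.trans hp ho hx .rfl hm (inc_symm i3) (inc_symm i4) i1 i2 oW i
  exact ⟨t, ht.2, e⟩

theorem card_le : Nat.card G ≤ 20160 := by
  classical
  have f : ∀ A : Subgroup G, ((A : Set G).toFinite.toFinset.erase 1).card = #A - 1 := fun A => by
    rw [Finset.card_erase_of_mem (by simp), ← Set.ncard_eq_toFinset_card, ← Nat.card_coe_set_eq]
    rfl
  obtain ⟨o, ho, oW⟩ := h.off .rfl
  obtain ⟨z, hz, z1, -⟩ := exists_ne_ne (A := V ⊓ W) (by rw [h.pat.cardZ]; norm_num) 1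
  set P := ({q | Cj V q} : Set (Subgroup G)).toFinite.toFinset
  have a : P.card ≤ 21 := by
    have a1 := h.five .rfl (P.filter fun q => q ⊓ W ≠ ⊥) (by simp [P])
    have a2 : P ⊆ (P.filter fun q => q ⊓ W ≠ ⊥) ∪ (W : Set G).toFinite.toFinset.image fun w => cj w o :=
      fun q hq => by
        by_cases e : q ⊓ W = ⊥
        · obtain ⟨w, hw, e⟩ := h.exists_aff ho oW (by simpa [P] using hq) e
          exact Finset.mem_union_right _ (Finset.mem_image.2 ⟨w, by simpa using hw, e⟩)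
        · exact Finset.mem_union_left _ (Finset.mem_filter.2 ⟨hq, e⟩)
    have a3 := (Finset.card_le_card a2).trans (Finset.card_union_le _ _)
    have a4 := Finset.card_image_le (s := (W : Set G).toFinite.toFinset) (f := fun w => cj w o)
    rw [← Set.ncard_eq_toFinset_card, ← Nat.card_coe_set_eq] at a4
    have : Nat.card (W : Set G) = 16 := h.pat.cardW
    omega
  have b : (𝒞₁ z).index ≤ 315 := by
    have b1 := Finset.card_biUnion_le_card_mul P (fun q => (q : Set G).toFinite.toFinset.erase 1) 15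
      fun q hq => by rw [f, h.card (by simpa [P] using hq)]
    rw [← CfsgH4.card_isConj_eq_index]
    refine ((Set.ncard_eq_toFinset_card {y | IsConj z y} (Set.toFinite _)).le.trans
      (Finset.card_le_card fun u hu => ?_)).trans (b1.trans (by omega))
    obtain ⟨g, rfl⟩ := isConj_iff.1 (show IsConj z u by
      simpa only [Set.Finite.mem_toFinset, Set.mem_ofPred_eq] using hu)
    simp only [Finset.mem_biUnion, Finset.mem_erase, Set.Finite.mem_toFinset]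
    exact ⟨cj g V, by simpa [P] using Cj.rfl.cj _, by simpa using z1, conj_mem_cj _ hz.1⟩
  have c := CfsgH2.card_sup_mul_card_inf h.pat.VW
  rw [h.pat.cardZ, h.pat.cardV, h.pat.cardW, ← h.cent_eq hz.1 hz.2 z1] at c
  have d := (𝒞₁ z).card_mul_index
  rw [show #(𝒞₁ z) = 64 by omega] at d
  omega

end PL

end CfsgEO
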