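/-
WP L34, part 3: coordinates.
-/
import Cfsg.Agent.EO.L34b
import Cfsg.Agent.H5.Mat

set_option autoImplicit false
set_option linter.unusedSectionVars false

namespace CfsgEO

open Subgroup CfsgFT CfsgAG CfsgH5 Matrix

variable {G : Type*} [Group G] [Finite G] {V W p p' l m x y o : Subgroup G} {a b c d : G}

/-- the parametrisation of a four-group by the field with four elements -/
def gam (a b : G) (x : F4) : G := a ^ (Fin.val x % 2) * b ^ (Fin.val x / 2)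

theorem gam_add (ha : a * a = 1) (hb : b * b = 1) (e : a * b = b * a) (x y : F4) :
    gam a b (x + y) = gam a b x * gam a b y := by
  have h1 : ∀ x y : F4, Fin.val (x + y) % 2 ≡ Fin.val x % 2 + Fin.val y % 2 [MOD 2] ∧
      Fin.val (x + y) / 2 ≡ Fin.val x / 2 + Fin.val y / 2 [MOD 2] := by decide
  rw [gam, pow_eq_pow_of_modEq (h1 x y).1 (by rw [_root_.sq, ha]),
    pow_eq_pow_of_modEq (h1 x y).2 (by rw [_root_.sq, hb]), pow_add, pow_add]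
  exact ((show Commute a b from e).pow_pow _ _).mul_mul_mul_comm _ _

theorem gam_eq_one (ha : a * a = 1) (a1 : a ≠ 1) (b1 : b ≠ 1) (e : b ≠ a) {x : F4}
    (h : gam a b x = 1) : x = 0 := by
  have h1 : ∀ x : F4, x = 0 ∨ Fin.val x = 1 ∨ Fin.val x = 2 ∨ Fin.val x = 3 := by decide
  rcases h1 x with h2 | h2 | h2 | h2
  · exact h2
  all_goals simp only [gam, h2] at h; norm_num at h
  · exact absurd h a1
  · exact absurd h b1
  · exact absurd (mul_left_cancel (h.trans ha.symm)) e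

theorem gam_mem (ha : a ∈ p) (hb : b ∈ p) (x : F4) : gam a b x ∈ p :=
  mul_mem (pow_mem ha _) (pow_mem hb _)

theorem gam_zero : gam a b 0 = 1 := by
  change a ^ 0 * b ^ 0 = 1
  simp

theorem gam_mul (e1 : a * c = c * a) (e2 : b * d = d * b) (e3 : b * c = c * b) (x : F4) :
    gam a b x * gam c d x = gam (a * c) (b * d) x := by
  rw [gam, gam, gam, (show Commute a c from e1).mul_pow, (show Commute b d from e2).mul_pow]
  exact ((show Commute b c from e3).pow_pow _ _).mul_mul_mul_comm _ _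

/-- coordinates on `W` -/
structure Spr (V W : Subgroup G) (ε : F4 × F4 → G) : Prop where
  add : ∀ u v, ε (u + v) = ε u * ε v
  mem : ∀ u, ε u ∈ W
  inj : ∀ u, ε u = 1 → u = 0
  surj : ∀ w ∈ W, ∃ u, ε u = w
  line : ∀ q, Cj V q → ∀ d ≠ 0, ε d ∈ q → ∀ u, ε u ∈ q ↔ u.1 * d.2 = u.2 * d.1

theorem PL.exists_spr (h : PL V W) : ∃ ε, Spr V W ε := by
  have sq := h.pat.sqW
  have cm : ∀ {a b : G}, a ∈ W → b ∈ W → a * b = b * a := h.symm.comm .rfl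
  obtain ⟨a1, ha1, a11, -⟩ := h.symm.exists_mem .rfl 1
  obtain ⟨p1, hp1, m1⟩ := h.ex (sq _ ha1)
  have f1 := h.flag hp1 .rfl (inc_of m1 ha1 a11)
  obtain ⟨b1, hb1, n1⟩ := SetLike.not_le_iff_exists.1 f1.symm.not_le
  have b11 : b1 ≠ 1 := fun e => n1 (e ▸ one_mem _)
  obtain ⟨p2, hp2, m2⟩ := h.ex (sq _ hb1)
  have f2 := h.flag hp2 .rfl (inc_of m2 hb1 b11)
  obtain ⟨p3, hp3, m3⟩ := h.ex (sq _ (mul_mem ha1 hb1))
  have d12 : ∀ z ∈ p1, z ∈ p2 → z = 1 := fun z h1 h2 =>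
    by_contra fun e => n1 (h.uniq hp1 hp2 h1 h2 e ▸ m2)
  have d13 : ∀ z ∈ p1, z ∈ p3 → z = 1 := fun z h1 h2 =>
    by_contra fun e => n1 ((p1.mul_mem_cancel_left m1).1 (h.uniq hp1 hp3 h1 h2 e ▸ m3))
  have d23 : ∀ z ∈ p2, z ∈ p3 → z = 1 := fun z h1 h2 => by_contra fun e =>
    a11 (d12 _ m1 ((p2.mul_mem_cancel_right m2).1 (h.uniq hp2 hp3 h1 h2 e ▸ m3)))
  have f3 := h.flag hp3 .rfl (inc_of m3 (mul_mem ha1 hb1) fun e =>
    a11 (d13 _ m1 (by rw [eq_inv_of_mul_eq_one_left e]; exact inv_mem (by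
      exact absurd (by rw [eq_inv_of_mul_eq_one_right e]; exact inv_mem m1) n1))))
  have nn : p1 ⊓ W ≤ 𝒩 (p2 ⊓ W : Subgroup G) := CfsgH2.le_normalizer_inf
    (inf_le_right.trans f2.pat.WV) (inf_le_right.trans le_normalizer)
  have sup : p1 ⊓ W ⊔ p2 ⊓ W = W := eq_of_le_of_card_ge (sup_le inf_le_right inf_le_right) (by
    rw [CfsgH2.card_sup_of_disjoint nn (eq_bot_iff.2 fun z hz => d12 z hz.1.1 hz.2.1), f1.pat.cardZ,
      f2.pat.cardZ, h.pat.cardW]; norm_num)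
  obtain ⟨c, hc, c1, c2⟩ := exists_ne_ne (A := p3 ⊓ W) (by rw [f3.pat.cardZ]; norm_num) (a1 * b1)
  obtain ⟨a2, ha2, b2, hb2, rfl⟩ := (CfsgH1.mem_sup_of_le_normalizer nn).1 (sup.ge hc.2)
  have a21 : a2 ≠ 1 := fun e => c1 (d23 _ (by rw [e, one_mul]; exact hb2.1) hc.1)
  have b21 : b2 ≠ 1 := fun e => c1 (d13 _ (by rw [e, mul_one]; exact ha2.1) hc.1)
  have a12 : a2 ≠ a1 := fun e => c2 (by
    have := d23 (b1⁻¹ * b2) (mul_mem (inv_mem m2) hb2.1) (by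
      simpa [e, mul_assoc] using mul_mem (inv_mem m3) hc.1)
    rw [e, inv_mul_eq_one.1 this])
  have b12 : b2 ≠ b1 := fun e => c2 (by
    have := d13 (a2 * a1⁻¹) (mul_mem ha2.1 (inv_mem m1)) (by
      simpa [e, mul_assoc] using p3.mul_mem hc.1 (inv_mem m3))
    rw [e, mul_inv_eq_one.1 this])
  have g1 := gam_mem ha1 ha2.2
  have g2 := gam_mem hb1 hb2.2
  have z1 := fun x => gam_eq_one (x := x) (sq _ ha1) a11 a21 a12
  have z2 := fun x => gam_eq_one (x := x) (sq _ hb1) b11 b21 b12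
  set ε : F4 × F4 → G := fun u => gam a1 a2 u.1 * gam b1 b2 u.2 with hε
  have add : ∀ u v, ε (u + v) = ε u * ε v := fun u v => by
    simp only [hε, Prod.fst_add, Prod.snd_add, gam_add (sq _ ha1) (sq _ ha2.2) (cm ha1 ha2.2),
      gam_add (sq _ hb1) (sq _ hb2.2) (cm hb1 hb2.2)]
    exact (show Commute _ _ from cm (g1 _) (g2 _)).mul_mul_mul_comm _ _
  have l1 : ∀ u, ε u ∈ p1 ↔ u.2 = 0 := fun u =>
    ⟨fun e => z2 _ (d12 _ ((p1.mul_mem_cancel_left (gam_mem m1 ha2.1 _)).1 e) (gam_mem m2 hb2.1 _)),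
      fun e => by simpa only [hε, e, gam_zero, mul_one] using gam_mem m1 ha2.1 _⟩
  have l2 : ∀ u, ε u ∈ p2 ↔ u.1 = 0 := fun u =>
    ⟨fun e => z1 _ (d12 _ (gam_mem m1 ha2.1 _) ((p2.mul_mem_cancel_right (gam_mem m2 hb2.1 _)).1 e)),
      fun e => by simpa only [hε, e, gam_zero, one_mul] using gam_mem m2 hb2.1 _⟩
  have inj : ∀ u, ε u = 1 → u = 0 := fun u e =>
    Prod.ext ((l2 u).1 (e ▸ one_mem _)) ((l1 u).1 (e ▸ one_mem _))
  have l3' : ∀ x, ε (x, x) ∈ p3 := fun x => by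
    simp only [hε, gam_mul (cm ha1 hb1) (cm ha2.2 hb2.2) (cm ha2.2 hb1)]
    exact gam_mem m3 hc.1 _
  have l3 : ∀ u, ε u ∈ p3 ↔ u.1 = u.2 := fun u => ⟨fun e => by
      have := inj _ (d23 _ ((l2 (u + (u.1, u.1))).2 ((by decide : ∀ x : F4, x + x = 0) _))
        (add _ _ ▸ mul_mem e (l3' _)))
      exact (by decide : ∀ x y : F4, y + x = 0 → x = y) _ _ (congrArg Prod.snd this),
    fun e => by rw [show u = (u.1, u.1) from Prod.ext rfl e.symm]; exact l3' _⟩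
  have mem : ∀ u, ε u ∈ W := fun u => mul_mem (g1 _) (g2 _)
  have surj : ∀ w ∈ W, ∃ u, ε u = w := fun w hw => by
    obtain ⟨u, e⟩ := ((Nat.bijective_iff_injective_and_card (fun u => (⟨ε u, mem u⟩ : W))).2
      ⟨fun u v e => (by decide : ∀ u v : F4 × F4, u + v = 0 → u = v) u v (inj _ (by
        rw [add, show ε u = ε v from congrArg Subtype.val e, sq _ (mem v)])),
      by rw [h.pat.cardW, Nat.card_eq_fintype_card]; rfl⟩).2 ⟨w, hw⟩
    exact ⟨u, congrArg Subtype.val e⟩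
  have det : ∀ q, Cj V q → ∀ d u, ε d ∈ q → ε u ∈ q → u.1 * d.2 = u.2 * d.1 := fun q hq d u hd hu => by
    have k : ∀ v ≠ 0, ε v ∈ q → v.2 = 0 ∨ v.1 = 0 ∨ v.1 = v.2 → u.1 * d.2 = u.2 * d.1 := by
      rintro v v0 hv (e | e | e)
      · obtain rfl := h.uniq hq hp1 hv ((l1 v).2 e) (mt (inj v) v0)
        rw [(l1 _).1 hd, (l1 _).1 hu, mul_zero, zero_mul]
      · obtain rfl := h.uniq hq hp2 hv ((l2 v).2 e) (mt (inj v) v0)
        rw [(l2 _).1 hd, (l2 _).1 hu, mul_zero, zero_mul]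
      · obtain rfl := h.uniq hq hp3 hv ((l3 v).2 e) (mt (inj v) v0)
        rw [(l3 _).1 hd, (l3 _).1 hu]
    rcases (by decide +kernel : ∀ d u : F4 × F4, u.1 * d.2 = u.2 * d.1 ∨ ∃ v ≠ 0,
      (v = d ∨ v = u ∨ v = d + u) ∧ (v.2 = 0 ∨ v.1 = 0 ∨ v.1 = v.2)) d u with e | ⟨v, v0, e, e'⟩
    · exact e
    · refine k v v0 ?_ e'
      rcases e with rfl | rfl | rfl
      exacts [hd, hu, add _ _ ▸ mul_mem hd hu]
  refine ⟨ε, add, mem, inj, surj, fun q hq d d0 hd u => ⟨det q hq d u hd, fun e => ?_⟩⟩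
  obtain ⟨z, hz, z1, zd⟩ := exists_ne_ne (A := q ⊓ W) (by
    rw [(h.flag hq .rfl (inc_of hd (mem d) (mt (inj d) d0))).pat.cardZ]; norm_num) (ε d)
  obtain ⟨d', rfl⟩ := surj z hz.2
  have e0 : ε 0 = 1 := by simp only [hε, Prod.fst_zero, Prod.snd_zero, gam_zero, mul_one]
  rcases (by decide +kernel : ∀ d d' u : F4 × F4, d ≠ 0 → d' ≠ 0 → d' ≠ d → d'.1 * d.2 = d'.2 * d.1 →
    u.1 * d.2 = u.2 * d.1 → u = 0 ∨ u = d ∨ u = d' ∨ u = d + d') d d' u d0 (fun e => z1 (e ▸ e0))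
    (fun e => zd (e ▸ rfl)) (det q hq d d' hd hz.1) e with rfl | rfl | rfl | rfl
  exacts [e0 ▸ one_mem _, hd, hz.1, add _ _ ▸ mul_mem hd hz.1]

/-- homogeneous coordinates for the points -/
structure Co (V W : Subgroup G) (Φ : Subgroup G → (Fin 3 → F4) → Prop) : Prop where
  pt : ∀ {x v}, Φ x v → Cj V x
  ne : ∀ {x v}, Φ x v → v ≠ 0
  ex : ∀ {x}, Cj V x → ∃ v, Φ x v
  ex' : ∀ {v}, v ≠ 0 → ∃ x, Φ x v
  uniq : ∀ {x y v}, Φ x v → Φ y v → x = y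
  smul : ∀ {x v} {c : F4}, Φ x v → c ≠ 0 → Φ x (c • v)
  par : ∀ {x v w}, Φ x v → Φ x w → ∃ c : F4, w = c • v
  line : ∀ {m}, Cj W m → ∃ φ : Fin 3 → F4, ∀ {x v}, Φ x v → (x ⊓ m ≠ ⊥ ↔ φ ⬝ᵥ v = 0)

theorem PL.exists_co (h : PL V W) : ∃ Φ, Co V W Φ := by
  obtain ⟨ε, s⟩ := h.exists_spr
  obtain ⟨o, ho, oW⟩ := h.off .rfl
  have off : ∀ u, cj (ε u) o ⊓ W = ⊥ := fun u => by
    rw [← CfsgH1.cj_eq_of_mem (s.mem u), ← cj_inf, oW, CfsgH1.cj_bot]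
  have on : ∀ {x : Subgroup G} {u}, u ≠ 0 → ε u ∈ x → x ⊓ W ≠ ⊥ := fun u0 hu =>
    inc_of hu (s.mem _) (mt (s.inj _) u0)
  have aa : ∀ u v : F4 × F4, u + v + v = u := by decide +kernel
  have inj : ∀ u v, cj (ε u) o = cj (ε v) o → u = v := fun u v e =>
    (by decide +kernel : ∀ u v : F4 × F4, u + v = 0 → u = v) u v (s.inj _ (by
      rw [s.add, h.semi ho .rfl oW (s.mem u) (s.mem v) e, h.pat.sqW _ (s.mem v)]))
  refine ⟨fun x v => (v 2 ≠ 0 ∧ x = cj (ε (v 0 / v 2, v 1 / v 2)) o) ∨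
    (v 2 = 0 ∧ (v 0, v 1) ≠ 0 ∧ Cj V x ∧ ε (v 0, v 1) ∈ x), ?_, ?_, fun {x} hx => ?_, fun {v} hv => ?_,
    ?_, ?_, ?_, fun {m} hm => ?_⟩
  · rintro x v (⟨-, rfl⟩ | ⟨-, -, e, -⟩)
    exacts [ho.cj _, e]
  · rintro x v (⟨e, -⟩ | ⟨-, e, -⟩) rfl
    exacts [e rfl, e rfl]
  · by_cases e : x ⊓ W = ⊥
    · obtain ⟨w, hw, rfl⟩ := h.exists_aff ho oW hx e
      obtain ⟨u, rfl⟩ := s.surj w hw
      exact ⟨![u.1, u.2, 1], Or.inl (by simp)⟩
    · obtain ⟨z, z1, z2, z3⟩ := of_inc e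
      obtain ⟨u, rfl⟩ := s.surj z z2
      refine ⟨![u.1, u.2, 0], Or.inr ⟨rfl, ?_, hx, z1⟩⟩
      rintro (e : u = 0)
      have := s.add 0 0
      rw [add_zero, left_eq_mul] at this
      exact z3 (e ▸ this)
  · by_cases e : v 2 = 0
    · obtain ⟨x, hx, e'⟩ := h.ex (h.pat.sqW _ (s.mem (v 0, v 1)))
      refine ⟨x, Or.inr ⟨e, fun e0 => hv (funext fun i => ?_), hx, e'⟩⟩
      fin_cases i
      exacts [congrArg Prod.fst e0, congrArg Prod.snd e0, e]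
    · exact ⟨_, Or.inl ⟨e, rfl⟩⟩
  · rintro x y v (⟨a, rfl⟩ | ⟨a, a1, a2, a3⟩) (⟨b, rfl⟩ | ⟨b, -, b2, b3⟩)
    exacts [rfl, absurd b a, absurd a b, h.uniq a2 b2 a3 b3 (mt (s.inj _) a1)]
  · rintro x v c (⟨a, rfl⟩ | ⟨a, a1, a2, a3⟩) hc
    · exact Or.inl ⟨mul_ne_zero hc a, by simp only [Pi.smul_apply, smul_eq_mul, mul_div_mul_left _ _ hc]⟩
    · refine Or.inr ⟨by simp [a], by simpa [hc] using a1, a2, (s.line x a2 _ a1 a3 _).2 ?_⟩
      simp only [Pi.smul_apply, smul_eq_mul]; ring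
  · rintro x v w (⟨a, rfl⟩ | ⟨a, a1, a2, a3⟩) (⟨b, e⟩ | ⟨b, b1, b2, b3⟩)
    · have := inj _ _ e
      refine ⟨w 2 / v 2, funext fun i => ?_⟩
      have e1 := congrArg Prod.fst this
      have e2 := congrArg Prod.snd this
      simp only [div_eq_div_iff a b] at e1 e2
      fin_cases i <;> simp <;> field_simp
      exacts [e1.symm.trans (mul_comm _ _), e2.symm.trans (mul_comm _ _)]
    · exact absurd (off _) (on b1 b3)
    · exact absurd (e ▸ off _) (on a1 a3)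
    · obtain ⟨c, c1, c2⟩ := (by decide +kernel : ∀ a b c d : F4, (a, b) ≠ 0 → c * b = d * a →
        ∃ e, c = e * a ∧ d = e * b) _ _ _ _ a1 ((s.line x a2 _ a1 a3 _).1 b3)
      refine ⟨c, funext fun i => ?_⟩
      fin_cases i <;> simp [c1, c2, a, b]
      all_goals assumption
  by_cases e : m = W
  · subst e
    refine ⟨![0, 0, 1], ?_⟩
    rintro x v (⟨a, rfl⟩ | ⟨a, a1, a2, a3⟩)
    · simp [off, dotProduct, Fin.sum_univ_three, a]
    · simp [on a1 a3, dotProduct, Fin.sum_univ_three, a]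
  obtain ⟨p, hp, i1, i2⟩ := h.symm.join .rfl hm
  obtain ⟨z, z1, z2, z3⟩ := of_inc i1
  obtain ⟨d, rfl⟩ := s.surj z z1
  have d0 : d ≠ 0 := by
    rintro rfl
    have := s.add 0 0
    rw [add_zero, left_eq_mul] at this
    exact z3 this
  have two : ∀ q, Cj V q → q ⊓ W ≠ ⊥ → q ⊓ m ≠ ⊥ → q = p := fun q hq j1 j2 => by_contra fun ne =>
    e (h.two hq hp hm .rfl j2 (inc_symm i2) j1 (inc_symm i1) ne)
  obtain ⟨w, hw, wp⟩ := SetLike.not_le_iff_exists.1 (h.flag hp hm (inc_symm i2)).symm.not_le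
  obtain ⟨q, hq, wq⟩ := h.ex (h.symm.sq hm hw)
  have j2 := inc_of wq hw fun e => wp (e ▸ one_mem _)
  obtain ⟨w0, hw0, rfl⟩ := h.exists_aff ho oW hq (by_contra fun j1 => wp (two q hq j1 j2 ▸ wq))
  obtain ⟨u0, rfl⟩ := s.surj w0 hw0
  refine ⟨![d.2, d.1, u0.1 * d.2 + u0.2 * d.1], ?_⟩
  rintro x v (⟨a, rfl⟩ | ⟨a, a1, a2, a3⟩)
  · refine Iff.trans (b := ε ((v 0 / v 2, v 1 / v 2) + u0) ∈ p) ⟨fun j => ?_, fun j => ?_⟩
      ((s.line p hp d d0 z2 _).trans ?_)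
    · obtain ⟨t, ht, e⟩ := h.trans hp hq (ho.cj _) .rfl hm (inc_symm i1) (inc_symm i2) j2 j (off _) (off _)
      rw [cj_cj] at e
      rw [s.add, ← h.semi ho .rfl oW (mul_mem ht.2 (s.mem _)) (s.mem _) e, mul_assoc,
        h.pat.sqW _ (s.mem _), mul_one]
      exact ht.1
    · rw [← aa (v 0 / v 2, v 1 / v 2) u0, s.add, ← cj_cj, ← h.symm.norm hm hp i2 j]
      exact inc_cj j2 _
    · simp only [dotProduct, Fin.sum_univ_three, Prod.fst_add, Prod.snd_add]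
      exact (by decide +kernel : ∀ a b c d1 d2 x y : F4, c ≠ 0 → ((a / c + x) * d2 = (b / c + y) * d1 ↔
        d2 * a + d1 * b + (x * d2 + y * d1) * c = 0)) _ _ _ _ _ _ _ a
  · refine Iff.trans (b := ε (v 0, v 1) ∈ p) ⟨fun j => two x a2 (on a1 a3) j ▸ a3, fun j =>
      h.uniq a2 hp a3 j (mt (s.inj _) a1) ▸ inc_symm i2⟩ ((s.line p hp d d0 z2 _).trans ?_)
    simp only [dotProduct, Fin.sum_univ_three, a, mul_zero, add_zero]
    exact (by decide +kernel : ∀ a b d1 d2 : F4, (a * d2 = b * d1 ↔ d2 * a + d1 * b = 0)) _ _ _ _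

end CfsgEO
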