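/-
WP L34: recognition of `L₃(4)`.
-/
import Cfsg.Agent.EO.L34c
import Cfsg.Agent.H5.Rep
import Cfsg.Agent.H7.SLBase

set_option autoImplicit false
set_option linter.unusedSectionVars false

namespace CfsgEO

open Subgroup CfsgFT CfsgAG CfsgH5 Matrix

universe u

variable {G : Type*} [Group G] [Finite G] {V W : Subgroup G} {Φ : Subgroup G → (Fin 3 → F4) → Prop}

theorem third {i j : Fin 3} (h : i ≠ j) : ∃ k, k ≠ i ∧ k ≠ j ∧
    ∀ φ v : Fin 3 → F4, φ ⬝ᵥ v = φ i * v i + φ j * v j + φ k * v k := by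
  obtain ⟨k, h1, h2, e⟩ := (by decide : ∀ i j : Fin 3, i ≠ j → ∃ k, k ≠ i ∧ k ≠ j ∧
    (Finset.univ : Finset (Fin 3)) = {i, j, k}) i j h
  refine ⟨k, h1, h2, fun φ v => ?_⟩
  rw [dotProduct, e, Finset.sum_insert (by simp [h, h1.symm]), Finset.sum_pair h2.symm, add_assoc]

theorem Co.axis (h : PL V W) (c : Co V W Φ) {i j k : Fin 3}
    (e : ∀ φ v : Fin 3 → F4, φ ⬝ᵥ v = φ i * v i + φ j * v j + φ k * v k) {p q m : Subgroup G}
    (hp : Φ p (Pi.single i 1)) (hq : Φ q (Pi.single k 1)) (hm : Cj W m) (i1 : p ⊓ m ≠ ⊥)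
    (i2 : q ⊓ m ≠ ⊥) {x : Subgroup G} {v : Fin 3 → F4} (hx : Φ x v) : x ⊓ m ≠ ⊥ ↔ v j = 0 := by
  obtain ⟨φ, hφ⟩ := c.line hm
  have a := (hφ hp).1 i1
  have b := (hφ hq).1 i2
  rw [dotProduct_single, mul_one] at a b
  obtain ⟨o, ho, oW⟩ := h.off hm
  obtain ⟨w, hw⟩ := c.ex ho
  have d : φ j ≠ 0 := fun d => (hφ hw).2 (by simp [e, a, b, d]) oW
  simp [hφ hx, e, a, b, d]

theorem Co.elation (h : PL V W) (c : Co V W Φ) {i j : Fin 3} (hij : i ≠ j) (a : F4) :
    ∃ t, ∀ x v, Φ x v → Φ (cj t x) (v + (a * v j) • Pi.single i 1) := by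
  obtain ⟨k, ki, kj, e⟩ := third hij
  have s0 : ∀ i : Fin 3, (Pi.single i 1 : Fin 3 → F4) ≠ 0 := fun i => by simp
  obtain ⟨p, hp⟩ := c.ex' (s0 i)
  obtain ⟨q, hq⟩ := c.ex' (s0 k)
  obtain ⟨x0, hx0⟩ := c.ex' (s0 j)
  obtain ⟨l, hl, i1, i2⟩ := h.join (c.pt hp) (c.pt hq)
  have onl := fun {x v} (hx : Φ x v) => c.axis h e hp hq hl i1 i2 hx
  have on0 := fun {m} (hm : Cj W m) i1 i2 {x v} (hx : Φ x v) => c.axis h (j := k)
    (fun φ v => by rw [e, add_right_comm]) hp hx0 hm i1 i2 hx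
  set T : (Fin 3 → F4) → (Fin 3 → F4) := fun v => v + (a * v j) • Pi.single i 1 with hT
  have Tj : ∀ v, T v j = v j := fun v => by simp [hT, hij.symm]
  have T0 : ∀ {v}, v j ≠ 0 → T v ≠ 0 := fun {v} h0 e => h0 ((Tj v).symm.trans (congrFun e j))
  have Tm : ∀ {m x y v}, Cj W m → p ⊓ m ≠ ⊥ → x ⊓ m ≠ ⊥ → Φ x v → Φ y (T v) → y ⊓ m ≠ ⊥ :=
    fun hm j1 j2 hx hy => by
      obtain ⟨φ, hφ⟩ := c.line hm
      rw [hφ hy, dotProduct_add, dotProduct_smul, (hφ hp).1 j1, (hφ hx).1 j2, smul_zero, add_zero]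
  obtain ⟨y0, hy0⟩ := c.ex' (T0 (v := Pi.single j 1) (by simp))
  obtain ⟨m0, hm0, j1, j2⟩ := h.join (c.pt hp) (c.pt hx0)
  obtain ⟨t, ht, e0⟩ := h.trans (c.pt hp) (c.pt hx0) (c.pt hy0) hl hm0 i1 j1 j2 (Tm hm0 j1 j2 hx0 hy0)
    (by_contra fun e => by simpa using (onl hx0).1 e)
    (by_contra fun e => by simpa [Tj] using (onl hy0).1 e)
  have step : ∀ {x1 v1 x v}, Φ x1 v1 → Φ (cj t x1) (T v1) → Φ x v → v1 j ≠ 0 → v j ≠ 0 →
      (∀ m, Cj W m → p ⊓ m ≠ ⊥ → x ⊓ m ≠ ⊥ → x1 ⊓ m = ⊥) → Φ (cj t x) (T v) := by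
    intro x1 v1 x v h1 h1' hx n1 n2 hyp
    obtain ⟨m, hm, k1, k2⟩ := h.join (c.pt hp) (c.pt hx)
    obtain ⟨n, hn, k3, k4⟩ := h.join (c.pt h1) (c.pt hx)
    obtain ⟨z, hz⟩ := c.ex' (v := v j • v1 - v1 j • v) fun e => k2 (by
      have := c.uniq (c.smul h1 n2) (by rw [sub_eq_zero.1 e]; exact c.smul hx n1)
      exact this ▸ hyp m hm k1 k2)
    obtain ⟨φ, hφ⟩ := c.line hn
    have k5 := inc_cj ((hφ hz).2 (by
      rw [dotProduct_sub, dotProduct_smul, dotProduct_smul, (hφ h1).1 k3, (hφ hx).1 k4]; simp)) t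
    rw [h.norm (c.pt hz) hl ((onl hz).2 (by simp [mul_comm])) ht.2] at k5
    obtain ⟨ψ, hψ⟩ := c.line (hn.cj t)
    obtain ⟨y, hy⟩ := c.ex' (T0 n2)
    have k6 : y ⊓ cj t n ≠ ⊥ := (hψ hy).2 (by
      have a1 := (hψ h1').1 (inc_cj k3 t)
      have a2 := (hψ hz).1 k5
      simp only [hT, dotProduct_add, dotProduct_sub, dotProduct_smul, smul_eq_mul] at a1 a2 ⊢
      refine (mul_eq_zero.1 ?_).resolve_left n1
      linear_combination v j * a1 - a2)
    have tm := h.symm.norm hm (c.pt hp) (inc_symm k1) ht.1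
    by_cases e : y = cj t x
    · exact e ▸ hy
    have := h.two (c.pt hy) ((c.pt hx).cj t) hm (hn.cj t) (Tm hm k1 k2 hx hy) (tm ▸ inc_cj k2 t) k6
      (inc_cj k4 t) e
    rw [← tm, CfsgH1.cj_inj] at this
    exact absurd (hyp m hm k1 k2) (this ▸ k3)
  have st0 : ∀ {x v}, Φ x v → v j ≠ 0 → v k ≠ 0 → Φ (cj t x) (T v) := fun hx n1 n2 =>
    step hx0 (e0 ▸ hy0) hx (by simp) n1 fun m hm k1 k2 =>
      by_contra fun k3 => n2 ((on0 hm k1 k3 hx).1 k2)
  refine ⟨t, fun x v hx => ?_⟩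
  by_cases n1 : v j = 0
  · rw [h.norm (c.pt hx) hl ((onl hx).2 n1) ht.2]
    simpa [n1] using hx
  by_cases n2 : v k = 0
  · obtain ⟨x1, h1⟩ := c.ex' (v := Pi.single j 1 + Pi.single k 1) fun e => by
      simpa [kj] using congrFun e k
    refine step h1 (st0 h1 (by simp [kj.symm]) (by simp [kj])) hx (by simp [kj.symm]) n1
      fun m hm k1 k2 => by_contra fun k3 => ?_
    obtain ⟨φ, hφ⟩ := c.line hm
    have a1 := (hφ hp).1 k1
    have a2 := (hφ hx).1 k2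
    rw [dotProduct_single, mul_one] at a1
    rw [e, a1, n2, zero_mul, mul_zero, zero_add, add_zero] at a2
    simpa [kj] using (on0 hm k1 ((hφ hx0).2 (by
      rw [dotProduct_single, (mul_eq_zero.1 a2).resolve_right n1, zero_mul])) h1).1 k3
  · exact st0 hx n1 n2

theorem specL34 : SpecL34.{u} := fun G _ _ cit V W pat => by
  have h : PL V W := ⟨cit, pat⟩
  obtain ⟨Φ, c⟩ := h.exists_co
  let Γ : G → Matrix.SpecialLinearGroup (Fin 3) F4 → Prop := fun g M =>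
    ∀ x v, Φ x v → Φ (cj g x) ((M : Matrix (Fin 3) (Fin 3) F4) *ᵥ v)
  have mul : ∀ {g g' M M'}, Γ g M → Γ g' M' → Γ (g * g') (M * M') := fun h1 h2 x v hx => by
    rw [← cj_cj, Matrix.SpecialLinearGroup.coe_mul, ← mulVec_mulVec]
    exact h1 _ _ (h2 _ _ hx)
  have uq : ∀ {g g' M}, Γ g M → Γ g' M → g = g' := fun {g g' M} h1 h2 =>
    inv_mul_eq_one.1 (h.faith fun p hp => by
      obtain ⟨v, hv⟩ := c.ex hp
      rw [← cj_cj, ← c.uniq (h1 p v hv) (h2 p v hv), cj_inv_cj])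
  choose f hf using CfsgH7.SL_induction (fun M => ∃ g, Γ g M) (fun i j hij a => by
    obtain ⟨t, ht⟩ := c.elation h hij a
    refine ⟨t, fun x v hx => ?_⟩
    convert ht x v hx using 1
    rw [Matrix.SpecialLinearGroup.transvection_coe, add_mulVec, one_mulVec, single_mulVec]
    ext n
    by_cases e : n = i <;> simp [e]) fun A B ⟨_, h1⟩ ⟨_, h2⟩ => ⟨_, mul h1 h2⟩
  let F : Matrix.SpecialLinearGroup (Fin 3) F4 →* G := MonoidHom.mk' f fun A B => uq (hf _) (mul (hf A) (hf B))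
  have ker : F.ker = center _ := by
    ext M
    rw [Matrix.SpecialLinearGroup.mem_center_iff, MonoidHom.mem_ker]
    have det : ∀ r : F4, scalar (Fin 3) r = (M : Matrix (Fin 3) (Fin 3) F4) → r ^ Fintype.card (Fin 3) = 1 := fun r e => by
      have := M.det_coe
      rwa [← e, scalar_apply, det_diagonal, Finset.prod_const, Finset.card_univ] at this
    refine ⟨fun e => ?_, fun ⟨r, r1, e⟩ => uq (hf M) fun x v hx => ?_⟩
    · have a : ∀ v : Fin 3 → F4, v ≠ 0 → ∃ r : F4, (M : Matrix (Fin 3) (Fin 3) F4) *ᵥ v = r • v := fun v hv => by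
        obtain ⟨x, hx⟩ := c.ex' hv
        have := hf M x v hx
        rw [show f M = 1 from e, CfsgH1.cj_one] at this
        exact c.par hx this
      obtain ⟨r, hr⟩ := a (fun _ => 1) fun e => one_ne_zero (congrFun e 0)
      have : scalar (Fin 3) r = (M : Matrix (Fin 3) (Fin 3) F4) := by
        ext i j
        choose s hs using fun j : Fin 3 => a (Pi.single j 1) (by simp)
        have b : ∀ i j, (M : Matrix (Fin 3) (Fin 3) F4) i j = if i = j then s j else 0 := fun i j => by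
          simpa [Pi.single_apply] using congrFun (hs j) i
        have := congrFun hr i
        simp only [mulVec, dotProduct, b, mul_one, Finset.sum_ite_eq, Finset.mem_univ, if_true,
          Pi.smul_apply, smul_eq_mul] at this
        rw [b, scalar_apply, diagonal_apply]
        split_ifs with e
        · rw [← e, this]
        · rfl
      exact ⟨r, det r this, this⟩
    · rw [← e, CfsgH1.cj_one, scalar_apply, ← smul_one_eq_diagonal, smul_mulVec, one_mulVec]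
      exact c.smul hx (by rintro rfl; simp at r1)
  let F' := QuotientGroup.lift (center _) F ker.ge
  have inj : Function.Injective F' := (QuotientGroup.injective_lift_iff _ _ _).2 ker.symm
  have c1 := card_eq_card_quotient_mul_card_subgroup (center (Matrix.SpecialLinearGroup (Fin 3) F4))
  have c2 := card_SL_field (F := F4) 3
  rw [card_center_SL_of_dvd 3 (by rw [F4.card_eq]), F4.card_eq] at c1
  rw [F4.card_eq, show ∏ i : Fin 3, (4 ^ 3 - 4 ^ (i : ℕ)) = 181440 by decide] at c2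
  have c3 := h.card_le
  exact ⟨F4, inferInstance, inferInstance, rfl, ⟨(MulEquiv.ofBijective F'
    ((Nat.bijective_iff_injective_and_card F').2 ⟨inj, le_antisymm (Nat.card_le_card_of_injective _ inj)
      (by omega)⟩)).symm⟩⟩

end CfsgEO
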