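/-
S4371, WP LOC: radical subgroups lie over Sylow subgroups of `G`; the strongly embedded case.
-/
import Cfsg.Agent.EO.L3

set_option autoImplicit false

namespace CfsgEO

open Subgroup CfsgFT CfsgHH CfsgL0 CfsgCA CfsgH3
open CfsgBS (inv_eq_of_sq)
open CfsgH1 (cj cj_top card_lt_of_lt)
open CfsgH2 (IsSylowOf)

variable {G : Type*} [Group G] [Finite G]

namespace Tw

variable {V W T : Subgroup G} (h : Tw V W T)
include h

omit [Finite G] in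
theorem symm : Tw W V T :=
  ⟨h.r', h.r, h.ne.symm, h.oz', h.oz, sup_comm V W ▸ h.sup, h.card', h.card⟩

theorem conj (g : G) : Tw (cj g V) (cj g W) (cj g T) :=
  (h.r.conj g).tw (h.r'.conj g) fun e => h.ne (cj_inj.1 e)

omit [Finite G] in
theorem sq {v : G} (hv : v ∈ V) : v * v = 1 := (h.oz.ge hv).2.1

omit [Finite G] in
theorem cm {a b : G} (ha : a ∈ V) (hb : b ∈ V) : a * b = b * a := (h.oz.ge hb).2.2 a ha

theorem VW : V ≤ 𝒩 W := h.r.le.trans h.r'.syl.1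

theorem nc {v w : G} (hv : v ∈ V) (hw : w ∈ W) (e : v * w = w * v) : v ∈ W ∨ w ∈ V :=
  or_iff_not_imp_right.2 fun w0 =>
    h.r.mem_of_comm (h.oz.le.trans h.VW) (h.oz.ge hv) hw (h.r'.le hw) w0 e.symm

theorem dec {t : G} (ht : t ∈ T) : ∃ v ∈ V, ∃ w ∈ W, v * w = t :=
  (CfsgH2.mem_sup_of_le_normalizer h.symm.VW).1 (h.sup.ge ht)

theorem inv {t : G} (ht : t ∈ T) (tt : t * t = 1) : t ∈ V ∨ t ∈ W := by
  obtain ⟨v, hv, w, hw, rfl⟩ := h.dec ht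
  refine (h.nc hv hw ?_).symm.imp (mul_mem hv) (mul_mem · hw)
  rw [← inv_eq_of_sq tt, mul_inv_rev, inv_eq_of_sq (h.sq hv), inv_eq_of_sq (h.symm.sq hw)]

omit [Finite G] in
theorem card_eq : #V = #W := by rw [← h.card, ← h.card', inf_comm]

theorem out : ∃ v ∈ V, v ∉ W :=
  SetLike.not_le_iff_exists.1 fun e => h.ne (eq_of_le_of_card_ge e h.card_eq.ge)

theorem mem_oz {z : G} : z ∈ CfsgEO.oz T ↔ z ∈ V ⊓ W :=
  ⟨fun hz => ⟨(h.r.oz_le hz).1, (h.r'.oz_le hz).1⟩, fun hz => ⟨h.r.le hz.1, h.sq hz.1, fun t ht => by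
    obtain ⟨v, hv, w, hw, rfl⟩ := h.dec ht
    rw [mul_assoc, h.symm.cm hw hz.2, ← mul_assoc, h.cm hv hz.1, mul_assoc]⟩⟩

theorem nrm {a b : G} (ha : a ∈ V) (hb : b ∈ W) : a * (b * a * b⁻¹) ∈ V ⊓ W :=
  ⟨mul_mem ha (conj_mem (h.symm.VW hb) ha), by
    rw [show a * (b * a * b⁻¹) = a * b * a⁻¹ * b⁻¹ by rw [inv_eq_of_sq (h.sq ha)]; group]
    exact W.mul_mem (conj_mem (h.VW ha) hb) (inv_mem hb)⟩

theorem surj {c z : G} (hc : c ∈ V) (c0 : c ∉ W) (hz : z ∈ V ⊓ W) :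
    ∃ w ∈ W, c * (w * c * w⁻¹) = z :=
  surj_comm (D := V ⊓ W) (fun _ hw => h.nrm hc hw)
    (fun _ hw e => ⟨(h.nc hc hw e.symm).resolve_left c0, hw⟩) (h.card.trans h.card_eq).le hz

theorem nt : Nt (𝒩 V) V T := ⟨h.r.toLoc, fun x hx x0 v hv => by
    obtain ⟨a, ha, w, hw, rfl⟩ := h.dec hx
    refine h.mem_oz.2 ⟨hv.1.1, (h.nc hv.1.1 hw (mul_left_cancel (a := a) ?_)).resolve_right
      fun f => x0 (mul_mem ha f)⟩
    rw [← mul_assoc a w, mem_c1.1 hv.2, ← mul_assoc, h.cm ha hv.1.1, mul_assoc], by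
    have h1 := CfsgH2.card_sup_mul_card_inf h.VW
    rw [h.sup, ← h.card', inf_comm W, ← mul_assoc] at h1
    rw [Nat.eq_of_mul_eq_mul_right Nat.card_pos h1, mul_comm, Subgroup.ext fun _ => h.mem_oz]⟩

theorem eq_or {E : Subgroup G} (hE : E ≤ T) (e : ∀ x ∈ E, x * x = 1) (c : #V ≤ #E) :
    E = V ∨ E = W := by
  have : E ≤ V ∨ E ≤ W := by
    by_contra! f
    obtain ⟨a, ha, a0⟩ := SetLike.not_le_iff_exists.1 f.1
    obtain ⟨b, hb, b0⟩ := SetLike.not_le_iff_exists.1 f.2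
    exact (h.inv (hE (mul_mem ha hb)) (e _ (mul_mem ha hb))).elim
      (fun g => a0 ((mul_mem_cancel_right ((h.inv (hE hb) (e b hb)).resolve_right b0)).1 g))
      fun g => b0 ((mul_mem_cancel_left ((h.inv (hE ha) (e a ha)).resolve_left a0)).1 g)
  exact this.imp (eq_of_le_of_card_ge · c) (eq_of_le_of_card_ge · (h.card_eq ▸ c))

end Tw

theorem Rad.syl_top {D T : Subgroup G} (h : Rad D T) : IsSylowOf 2 T ⊤ := by
  obtain ⟨S, hS, TS⟩ := CfsgH2.exists_isSylowOf_ge h.syl.2.1 le_top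
  suffices S ≤ T from le_antisymm TS this ▸ hS
  refine CfsgH1.le_of_inf_normalizer_le hS.2.1 TS fun y₀ hy₀ => by_contra fun y0 => ?_
  obtain ⟨y, hy, y1, yy⟩ : ∃ y ∈ S ⊓ 𝒩 T, y ∉ T ∧ y * y ∈ T := by
    by_cases e : y₀ * y₀ ∈ T
    · exact ⟨_, hy₀, y0, e⟩
    · exact ⟨_, mul_mem hy₀ hy₀, e, by
        rw [show y₀ * y₀ * (y₀ * y₀) = y₀ ^ 4 by simp [pow_succ, mul_assoc],
          h.cit.pow4 hS.2.1 hy₀.1]; exact one_mem _⟩
  have p : ∀ x ∈ S, x * x * (x * x) = 1 := fun x hx => by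
    rw [← h.cit.pow4 hS.2.1 hx]; simp [pow_succ, mul_assoc]
  have k := h.conj y
  rw [mem_normalizer_iff_cj.1 hy.2] at k
  have t := h.tw k fun e => y1 (h.mem_of_norm (mem_normalizer_iff_cj.2 e.symm)
    (h.cit.pow4 hS.2.1 hy.1) hy.2)
  have n : ∀ x ∈ cj y D, y * x * y⁻¹ ∈ D := by
    rintro _ ⟨x, hx, rfl⟩
    simpa [mul_assoc] using conj_mem (h.syl.1 yy) hx
  have z : y * y ∈ D ⊓ cj y D := (t.inv yy (p y hy.1)).elim
    (fun e => ⟨e, by simpa [mul_assoc] using conj_mem_cj y e⟩)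
      fun e => ⟨by simpa [mul_assoc] using n _ e, e⟩
  obtain ⟨v, hv, v0⟩ := t.out
  have hw := conj_mem_cj y hv
  have w0 : y * v * y⁻¹ ∉ D := fun e => v0 (by
    have := conj_mem_cj y e
    rwa [show y * (y * v * y⁻¹) * y⁻¹ = y * y * v * (y * y)⁻¹ by group, t.cm z.1 hv,
      mul_inv_cancel_right] at this)
  have e := p _ (mul_mem hy.1 (TS (h.le hv)))
  rw [show y * v * (y * v) = y * v * y⁻¹ * (y * y) * v by group] at e
  exact (t.inv (mul_mem (mul_mem (k.le hw) yy) (h.le hv)) e).elim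
    (fun f => w0 ((D.mul_mem_cancel_right z.1).1 ((mul_mem_cancel_right hv).1 f)))
    fun f => v0 ((mul_mem_cancel_left (mul_mem hw z.2)).1 f)

theorem se_of_rad (h : CIT G) {S M : Subgroup G} (hS : IsSylowOf 2 S ⊤) (S0 : S ≠ ⊥) (h1 : M ≠ ⊤)
    (h2 : 𝒩 S ≤ M) (h3 : ∀ D, Rad D S → 𝒩 D ≤ M) : Cfsg.IsStronglyEmbedded M := by
  have SM := le_normalizer.trans h2
  have cv : ∀ R, IsSylowOf 2 R ⊤ → R ≤ M → ∃ m ∈ M, cj m R = S := fun R hR RM =>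
    (hR.mono RM le_top).exists_cj_eq (hS.mono SM le_top)
  have up : ∀ m ∈ M, ∀ X : Subgroup G, 𝒩 (cj m X) ≤ M → 𝒩 X ≤ M := fun m hm X e => by
    rwa [← cj_normalizer, ← cj_eq_of_mem hm, cj_le_cj_iff] at e
  have key : ∀ n, ∀ R R', IsSylowOf 2 R ⊤ → IsSylowOf 2 R' ⊤ → R ≤ M → R ⊓ R' ≠ ⊥ →
      Nat.card G - #(R ⊓ R' : Subgroup G) = n → R' ≤ M := fun n => by
    induction n using Nat.strong_induction_on with | _ n ih =>
    intro R R' hR hR' RM h0 hn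
    have big : ∀ P P', IsSylowOf 2 P ⊤ → IsSylowOf 2 P' ⊤ → P ≤ M → R ⊓ R' ≤ P ⊓ P' →
        ¬ P ⊓ P' ≤ R ⊓ R' → P' ≤ M := fun P P' hP hP' PM e1 e2 =>
      ih _ (hn ▸ Nat.sub_lt_sub_left (lt_of_lt_of_le (card_lt_of_lt (lt_of_le_not_ge e1 e2))
        (Subgroup.card_le_card_group _)) (card_lt_of_lt (lt_of_le_not_ge e1 e2))) P P' hP hP' PM
          (fun e => h0 (eq_bot_iff.2 (e ▸ e1))) rfl
    by_contra c
    set D := R ⊓ R'
    obtain ⟨T, hT, e1⟩ := CfsgH2.exists_isSylowOf_ge (hR.2.1.to_inf_left (K := 𝒩 D)) inf_le_right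
    obtain ⟨T', hT', e1'⟩ := CfsgH2.exists_isSylowOf_ge (hR'.2.1.to_inf_left (K := 𝒩 D))
      inf_le_right
    obtain ⟨P, hP, e2⟩ := CfsgH2.exists_isSylowOf_ge hT.2.1 le_top
    obtain ⟨P', hP', e2'⟩ := CfsgH2.exists_isSylowOf_ge hT'.2.1 le_top
    have d1 : D ≤ R ⊓ 𝒩 D := le_inf inf_le_left le_normalizer
    have d2 : D ≤ R' ⊓ 𝒩 D := le_inf inf_le_right le_normalizer
    have ne : R ≠ R' := fun e => c (e ▸ RM)
    have n1 : ¬ R ⊓ 𝒩 D ≤ D := fun e => ne (hR.eq_of_le hR'.2.1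
      ((CfsgH1.le_of_inf_normalizer_le hR.2.1 inf_le_left e).trans inf_le_right) le_top).symm
    have n2 : ¬ R' ⊓ 𝒩 D ≤ D := fun e => ne (hR'.eq_of_le hR.2.1
      ((CfsgH1.le_of_inf_normalizer_le hR'.2.1 inf_le_right e).trans inf_le_left) le_top)
    have PM := big R P hR hP RM (le_inf inf_le_left (d1.trans (e1.trans e2)))
      fun e => n1 ((le_inf inf_le_left (e1.trans e2)).trans e)
    have PM' : ¬ P' ≤ M := fun f => c (big P' R' hP' hR' f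
      (le_inf (d2.trans (e1'.trans e2')) inf_le_right)
      fun e => n2 ((le_inf (e1'.trans e2') inf_le_left).trans e))
    have PP : P ⊓ P' ≤ D := by_contra fun e => PM' (big P P' hP hP' PM
      (le_inf (d1.trans (e1.trans e2)) (d2.trans (e1'.trans e2'))) e)
    have dc : D ≤ pCoreOf 2 (𝒩 D) := le_pCoreOf le_normalizer le_rfl hR.2.1.to_inf_left
    have c0 : pCoreOf 2 (𝒩 D) ≠ ⊥ := fun e => h0 (eq_bot_iff.2 (e ▸ dc))
    have co : pCoreOf 2 (𝒩 D) = D := le_antisymm ((le_inf ((Loc.mk h c0 rfl hT).le.trans e2)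
      ((Loc.mk h c0 rfl hT').le.trans e2')).trans PP) dc
    have r : Rad D T := ⟨⟨h, h0, co, hT⟩, T', ⟨h, h0, co, hT'⟩, fun e =>
      n1 (e1.trans ((le_inf e2 (e ▸ e2')).trans PP))⟩
    obtain ⟨m, hm, e⟩ := cv T r.syl_top (e2.trans PM)
    exact PM' (((r.of_loc ⟨h, h0, co, hT'⟩).syl_top.eq_of_le hP'.2.1 e2' le_top).le.trans
      (hT'.1.trans (up m hm D (h3 _ (e ▸ r.conj m)))))
  refine se_of h1 (fun e => ?_) fun g u hu hu' u1 uu => ?_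
  · obtain ⟨v, hv, v1⟩ := oz_ne hS.2.1 S0
    exact v1 (eq_one_of_odd (k := 1) (e.of_dvd_nat (M.orderOf_dvd_natCard (SM hv.1)))
      (by simpa [sq] using hv.2.1))
  have sy : ∀ x ∈ M, x * x = 1 → ∃ R, IsSylowOf 2 R ⊤ ∧ R ≤ M ∧ x ∈ R := fun x hx xx => by
    obtain ⟨m, hm, e⟩ := (hS.mono SM le_top).exists_cj_le (pg_invol xx) (zpowers_le.2 hx)
    exact ⟨cj m⁻¹ S, cj_top m⁻¹ ▸ hS.cj _, cj_le_of_mem (inv_mem hm) SM,
      cj_le_iff_le_cj_inv.1 e (mem_zpowers x)⟩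
  obtain ⟨R, hR, RM, uR⟩ := sy u hu uu
  obtain ⟨R', hR', RM', uR'⟩ := sy _ hu' (conj_sq g uu)
  have hg : IsSylowOf 2 (cj g R) ⊤ := cj_top g ▸ hR.cj g
  obtain ⟨m, hm, e⟩ := cv _ hg (key _ R' _ hR' hg RM' (fun e => conj_ne_one g u1
    (mem_bot.1 (e.le ⟨uR', conj_mem_cj g uR⟩))) rfl)
  obtain ⟨m', hm', e'⟩ := cv R hR RM
  have : m * g * m'⁻¹ ∈ M := h2 (mem_normalizer_iff_cj.2 (by
    rw [← cj_cj, ← cj_cj, ← e', cj_inv_cj, e, e']))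
  exact (mul_mem_cancel_left hm).1 ((mul_mem_cancel_right (inv_mem hm')).1 this)

theorem se_or_tw (h : CIT G) (h0 : Cfsg.pCore 2 G = ⊥) {S : Subgroup G} (hS : IsSylowOf 2 S ⊤)
    (S0 : S ≠ ⊥) : (∃ M : Subgroup G, Cfsg.IsStronglyEmbedded M) ∨ ∃ V W, Tw V W S := by
  have pr : ∀ D : Subgroup G, IsPGroup 2 D → D ≠ ⊥ → 𝒩 D ≠ ⊤ := fun D hD D0 e =>
    D0 (eq_bot_iff.2 (by rw [← h0, ← pCoreOf_top]; exact le_pCoreOf le_top e.ge hD))
  by_cases e : ∃ D, Rad D S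
  · obtain ⟨D, hD⟩ := e
    by_cases f : ∀ E, Rad E S → E = D
    · refine .inl ⟨_, se_of_rad h hS S0 (pr D hD.pg hD.ne) (fun g hg => mem_normalizer_iff_cj.2
        (f _ ?_)) fun E hE => (f E hE).symm ▸ le_rfl⟩
      exact mem_normalizer_iff_cj.1 hg ▸ hD.conj g
    · push Not at f
      obtain ⟨E, hE, ne⟩ := f
      exact .inr ⟨E, D, hE.tw hD ne⟩
  · exact .inl ⟨_, se_of_rad h hS S0 (pr S hS.2.1 S0) le_rfl fun D hD => (e ⟨D, hD⟩).elim⟩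

end CfsgEO
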