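/-
S4371, WP LOC: the pattern, `q ≤ 4`, `specLoc`.
-/
import Cfsg.Agent.EO.L4

set_option autoImplicit false

namespace CfsgEO

open Subgroup CfsgFT CfsgHH CfsgL0 CfsgCA CfsgH3
open CfsgBS (inv_eq_of_sq)
open CfsgH1 (cj cj_top)
open CfsgH2 (IsSylowOf)

universe u

variable {G : Type*} [Group G] [Finite G]

omit [Finite G] in
theorem mem_of_odd {x : G} (h : Odd (orderOf x)) {A : Subgroup G} (hA : x * x ∈ A) : x ∈ A := by
  obtain ⟨k, hk⟩ := h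
  have := A.pow_mem hA (k + 1)
  rwa [← sq, ← pow_mul, show 2 * (k + 1) = orderOf x + 1 by omega, pow_succ, pow_orderOf_eq_one,
    one_mul] at this

namespace Tw

variable {V W S W' S' : Subgroup G} (h : Tw V W S)
include h

theorem c1 {z g : G} (hz : z ∈ V ⊓ W) (z1 : z ≠ 1) (e : g * z = z * g) : g ∈ S :=
  (h.r.syl_top.eq_of_le (Q := 𝒞₁ z) (h.r.cit.pg fun y hy ho => by_contra fun y1 =>
    z1 (h.r.cit.eq_one (pow4_of_sq (h.sq hz.1)) ho y1 (mem_c1.1 hy)))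
    (fun t ht => mem_c1.2 ((h.mem_oz.2 hz).2.2 t ht).symm) le_top).le (mem_c1.2 e.symm)

theorem cj_eq {V' : Subgroup G} (k : Tw V' W' S') {a g : G} (ha : a ∈ V' ⊓ W') (a1 : a ≠ 1)
    (e : g * a * g⁻¹ ∈ V ⊓ W) : cj g S' = S :=
  ((cj_top g ▸ k.r.syl_top.cj g : IsSylowOf 2 (cj g S') ⊤).eq_of_le h.r.syl.2.1 (by
    rintro _ ⟨t, ht, rfl⟩
    exact h.c1 e (conj_ne_one g a1) (conj_comm g ((k.mem_oz.2 ha).2.2 t ht))) le_top).symm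

theorem normV : 𝒩 S ≤ 𝒩 V := fun n hn => by
  have key : ∀ {V W : Subgroup G}, Tw V W S → cj n V = V ∨ cj n V = W := fun {V W} h =>
    h.eq_or (CfsgH1.cj_le_of_mem_normalizer hn h.r.le)
      (by rintro _ ⟨x, hx, rfl⟩; exact conj_sq n (h.sq hx)) (card_cj n V).ge
  refine (h.r.cit.or n).elim (fun ho => (key h).elim mem_normalizer_iff_cj.2 fun e =>
    mem_of_odd ho (mem_normalizer_iff_cj.2 ?_)) fun e => h.r.syl.1 ?_
  · rw [← cj_cj, e]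
    exact (key h.symm).resolve_left fun f => h.ne (cj_inj.1 (e.trans f.symm))
  · exact (h.r.syl_top.eq_of_le ((show IsPGroup 2 (zpowers n) from .of_card_dvd_pow (n := 2) (by
      rw [Nat.card_zpowers]; exact orderOf_dvd_of_pow_eq_one e)).to_sup_of_normal_right'
        h.r.syl.2.1 (zpowers_le.2 hn)) le_sup_right le_top).le (mem_sup_left (mem_zpowers n))

theorem conj' {g : G} (hg : g ∈ 𝒩 V) : Tw V (cj g W) (cj g S) := by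
  have := h.conj g
  rwa [mem_normalizer_iff_cj.1 hg] at this

theorem other : ∃ g ∈ 𝒩 V, S ≠ cj g S := by
  obtain ⟨T', h', ne⟩ := h.r.two
  obtain ⟨g, hg, rfl⟩ := h.r.syl.exists_cj_eq h'.syl
  exact ⟨g, hg, ne⟩

theorem nrm_ne {a b : G} (ha : a ∈ V) (a0 : a ∉ W) (hb : b ∈ W) (b0 : b ∉ V) :
    a * (b * a * b⁻¹) ≠ 1 := fun e => (h.nc ha hb (mul_inv_eq_iff_eq_mul.1
      ((eq_inv_of_mul_eq_one_right e).trans (inv_eq_of_sq (h.sq ha)))).symm).elim a0 b0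

theorem move (k : Tw V W' S') (ne : S ≠ S') {v : G} (hv : v ∈ V) (v0 : v ∉ W) :
    ∃ s ∈ W, ∃ a ∈ V ⊓ W', s * a * s⁻¹ = v := by
  obtain ⟨x, hx, x0⟩ := h.symm.out
  obtain ⟨x', hx', x0'⟩ := k.symm.out
  have f := h.r.nrm_fix (h.r'.le hx) (h.oz.ge hv)
  obtain ⟨w, hw, e1, e2⟩ := h.r.free k.r.toLoc ne (h.r'.le hx) x0 (k.r'.le hx') x0' f.1
    (mem_c1.1 f.2)
  have h1 := (h.nc (mul_mem hv hw.1) hx (nrm_eq (fun _ => h.sq) (h.symm.VW hx) hv hw.1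
    e2).symm).resolve_right x0
  obtain ⟨s, hs, e⟩ := h.surj hw.1 (fun f => v0 ((mul_mem_cancel_right f).1 h1))
    ⟨mul_mem hv hw.1, h1⟩
  exact ⟨s, hs, w, ⟨hw.1, (k.nc hw.1 hx' e1.symm).resolve_right x0'⟩,
    mul_left_cancel (e.trans (h.cm hv hw.1))⟩

theorem part (v : G) (hv : v ∈ V) : ∃ g ∈ 𝒩 V, g * v * g⁻¹ ∈ W := by
  by_cases v0 : v ∈ W
  · exact ⟨1, one_mem _, by simpa using v0⟩
  obtain ⟨g, hg, ne⟩ := h.other
  obtain ⟨s, hs, _, ⟨-, a, ha, rfl⟩, rfl⟩ := h.move (h.conj' hg) ne hv v0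
  exact ⟨_, inv_mem (mul_mem (h.symm.VW hs) hg), by simpa [mul_assoc] using ha⟩

theorem rel {n a b : G} (hn : n ∈ 𝒩 S) (ha : a ∈ V) (a0 : a ∉ W) (hb : b ∈ W) (b0 : b ∉ V) :
    n * a * n⁻¹ * (b * (n * a * n⁻¹) * b⁻¹) = n⁻¹ * (a * (b * a * b⁻¹)) * n := by
  obtain ⟨g₀, hg₀, e₀⟩ := h.part a ha
  have k := h.conj' (inv_mem hg₀)
  have aW : a ∈ V ⊓ cj g₀⁻¹ W := ⟨ha, CfsgH1.mem_cj.2 (by rwa [inv_inv])⟩
  generalize cj g₀⁻¹ W = W', cj g₀⁻¹ S = S' at k aW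
  have ne : S ≠ S' := fun e => a0 (h.mem_oz.1 (e ▸ k.mem_oz.2 aW)).2
  obtain ⟨x, hx, x0, r⟩ := k.nt.three h.r.toLoc ne.symm (h.r'.le hb) b0
  have bb := h.symm.sq hb
  have F : ∀ u ∈ V ⊓ W', u * (b * u * b⁻¹) = x⁻¹ * b * x * u * (x⁻¹ * b * x)⁻¹ := fun u hu => by
    have c := (k.mem_oz.2 hu).2.2 x hx
    have r1 : (b * x) ^ 3 = 1 := by simpa using r 1 (one_mem _)
    have r2 : u * (b * x * u * (b * x)⁻¹) = ((b * x)⁻¹ * u * (b * x))⁻¹ :=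
      eq_inv_of_mul_eq_one_left (by
        rw [← mul_inv_eq_one.2 ((r u hu.1).trans r1.symm)]
        generalize b * x = ρ at r1
        rw [show ρ⁻¹ * u * ρ = ρ⁻¹ * ρ ^ 3 * u * ρ * (ρ ^ 3)⁻¹ by rw [r1]; simp]
        simp [pow_succ, mul_assoc])
    calc _ = u * (b * (u * x) * (b * x)⁻¹) := by group
      _ = x⁻¹ * b⁻¹ * u⁻¹ * b⁻¹⁻¹ * x := by rw [← c, ← mul_assoc b, r2]; group
      _ = x⁻¹ * b * (u * x) * x⁻¹ * b⁻¹ * x := by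
        rw [inv_eq_of_sq bb, inv_eq_of_sq bb, inv_eq_of_sq (h.sq hu.1)]; group
      _ = _ := by rw [← c]; group
  have hw : x⁻¹ * b * x ∈ 𝒩 V :=
    mul_mem (mul_mem (inv_mem (k.r.syl.1 hx)) (h.symm.VW hb)) (k.r.syl.1 hx)
  have ww : x⁻¹ * b * x * (x⁻¹ * b * x) = 1 := by simpa using conj_sq x⁻¹ bb
  generalize x⁻¹ * b * x = w at F hw ww
  have o : ∀ m ∈ 𝒩 S, m * a * m⁻¹ ∉ W := fun m hm f =>
    a0 (by simpa [mul_assoc] using conj_mem' (h.symm.normV hm) f)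
  obtain ⟨s, hs, c, hc, e⟩ := h.move k ne (conj_mem (h.normV hn) ha) (o n hn)
  have sS := h.r'.le hs
  have hm : s⁻¹ * n ∈ 𝒩 S := mul_mem (inv_mem (le_normalizer sS)) hn
  have e' : s⁻¹ * n * a * (s⁻¹ * n)⁻¹ = c := by
    rw [show s⁻¹ * n * a * (s⁻¹ * n)⁻¹ = s⁻¹ * (n * a * n⁻¹) * s by group, ← e]; group
  have a1 : a ≠ 1 := fun f => a0 (f ▸ one_mem _)
  have h1 : cj w S' = S := h.cj_eq k aW a1 (F a aW ▸ h.nrm ha hb)
  have h2 : cj (w * (s⁻¹ * n)) S' = S := h.cj_eq k aW a1 (by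
    rw [show w * (s⁻¹ * n) * a * (w * (s⁻¹ * n))⁻¹ = w * (s⁻¹ * n * a * (s⁻¹ * n)⁻¹) * w⁻¹ by group,
      e', ← F c hc]; exact h.nrm hc.1 hb)
  have h3 : cj (w * (s⁻¹ * n)) S = S' := by
    rw [← cj_cj, mem_normalizer_iff_cj.1 hm, ← h1, cj_cj, ww, CfsgH1.cj_one]
  have h4 := h.cm ha (h.r.sq (mul_mem hw (h.normV hm)) ((h.r.cit.or _).resolve_left fun ho =>
    ne ((mem_normalizer_iff_cj.1 (mem_of_odd ho (mem_normalizer_iff_cj.2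
      (by rw [← cj_cj, h3, h2])))).symm.trans h3)))
  have z1 := (h.mem_oz.2 (h.nrm ha hb)).2.2 s sS
  have z2 := (h.mem_oz.2 (h.nrm hc.1 hb)).2.2 s sS
  calc _ = s * (c * (s⁻¹ * (b * s) * c * (s⁻¹ * (b * s))⁻¹)) * s⁻¹ := by rw [← e]; group
    _ = w * (s⁻¹ * n * a * (s⁻¹ * n)⁻¹) * w⁻¹ := by
      rw [h.symm.cm hb hs, inv_mul_cancel_left, z2, mul_inv_cancel_right, F c hc, e']
    _ = (s⁻¹ * n)⁻¹ * w⁻¹ * (w * (s⁻¹ * n) * (w * (s⁻¹ * n)) * a) * (w * (s⁻¹ * n))⁻¹ := by group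
    _ = n⁻¹ * (s * (w⁻¹ * a * w)) * s⁻¹ * n := by rw [← h4]; group
    _ = _ := by
      rw [show w⁻¹ * a * w = w * a * w⁻¹ by rw [inv_eq_of_sq ww], ← F a aW, z1]; group

theorem cube {n z : G} (hn : n ∈ 𝒩 S) (hz : z ∈ V ⊓ W) :
    n * (n * z * n⁻¹) * n⁻¹ = n⁻¹ * z * n := by
  obtain ⟨a, ha, a0⟩ := h.out
  obtain ⟨b, hb, rfl⟩ := h.surj ha a0 hz
  by_cases b0 : b ∈ V
  · rw [h.cm b0 ha, mul_inv_cancel_right, h.sq ha]; group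
  have sw : ∀ a ∈ V, ∀ b ∈ W, b * (a * b * a⁻¹) = a * (b * a * b⁻¹) := fun a ha b hb => by
    rw [← inv_eq_of_sq (h.sq (h.nrm ha hb).1), inv_eq_of_sq (h.sq ha), inv_eq_of_sq (h.symm.sq hb)]
    simp [mul_assoc, inv_eq_of_sq (h.sq ha), inv_eq_of_sq (h.symm.sq hb)]
  have hb' := conj_mem (h.symm.normV hn) hb
  have h1 := h.rel hn ha a0 hb' fun f =>
    b0 (by simpa [mul_assoc] using conj_mem' (h.normV hn) f)
  rw [← sw a ha _ hb', h.symm.rel hn hb b0 ha a0, sw a ha b hb] at h1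
  calc _ = n * (n * a * n⁻¹ * (n * b * n⁻¹ * (n * a * n⁻¹) * (n * b * n⁻¹)⁻¹)) * n⁻¹ := by group
    _ = _ := by rw [h1]; group

theorem normZ : 𝒩 S ≤ 𝒩 (V ⊓ W) := CfsgH2.le_normalizer_inf h.normV h.symm.normV

theorem add {n z : G} (hn : n ∈ 𝒩 S) (n0 : n ∉ S) (hz : z ∈ V ⊓ W) :
    n * z * n⁻¹ * (n⁻¹ * z * n) = z := by
  have h1 := conj_mem (h.normZ hn) hz
  have h2 := conj_mem' (h.normZ hn) hz
  refine (eq_inv_of_mul_eq_one_left (by_contra fun e => n0 (h.c1 (mul_mem (mul_mem h1 h2) hz) e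
    (mul_inv_eq_iff_eq_mul.1 ?_)))).trans (inv_eq_of_sq (h.sq hz.1))
  rw [← conj_mul, ← conj_mul, h.cube hn hz, show n * (n⁻¹ * z * n) * n⁻¹ = z by group,
    h.cm (mul_mem h2.1 hz.1) h1.1, ← mul_assoc]

theorem trans {y z : G} (hy : y ∈ V ⊓ W) (y1 : y ≠ 1) (hz : z ∈ V ⊓ W) (z1 : z ≠ 1) :
    ∃ n ∈ 𝒩 S, n * z * n⁻¹ = y := by
  obtain ⟨g, hg, ne⟩ := h.other
  have k := h.conj' hg
  generalize cj g W = W', cj g S = S' at k ne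
  obtain ⟨v, hv, v0⟩ := h.out
  obtain ⟨s, hs, a, ha, rfl⟩ := h.move k ne hv v0
  have a0 : a ∉ W := fun f => v0 (mul_mem (mul_mem hs f) (inv_mem hs))
  have key : ∀ z ∈ V ⊓ W, z ≠ 1 → IsConj a z := fun z hz z1 => by
    obtain ⟨s, -, e⟩ := h.surj ha.1 a0 hz
    obtain ⟨t, -, f⟩ := k.surj hz.1 (fun f => ne (by simpa using k.cj_eq h (g := 1) hz z1 (by
      simpa using ⟨hz.1, f⟩))) ha
    refine (isConj_iff.2 ⟨s, ?_⟩).trans (isConj_iff.2 ⟨t, ?_⟩).symm (b := a * z)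
    · rw [← e, ← mul_assoc, h.sq ha.1, one_mul]
    · rw [h.cm ha.1 hz.1, ← f, ← mul_assoc, h.sq hz.1, one_mul]
  obtain ⟨n, e⟩ := isConj_iff.1 ((key z hz z1).symm.trans (key y hy y1))
  exact ⟨n, mem_normalizer_iff_cj.2 (h.cj_eq h hz z1 (e ▸ hy)), e⟩

theorem le_four : #(V ⊓ W) ≤ 4 := by
  obtain ⟨a, ha, a0⟩ := h.out
  obtain ⟨b, hb, b0⟩ := h.symm.out
  have hz := h.nrm ha hb
  have z1 := h.nrm_ne ha a0 hb b0
  generalize a * (b * a * b⁻¹) = z at hz z1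
  have fx : ∀ s ∈ S, s * z * s⁻¹ = z := fun s hs =>
    mul_inv_eq_iff_eq_mul.2 ((h.mem_oz.2 hz).2.2 s hs)
  obtain ⟨n, key⟩ : ∃ n : G, ∀ k ∈ 𝒩 S, k ∈ S ∨ n * k ∈ S ∨ n⁻¹ * k ∈ S := by
    by_cases e : 𝒩 S ≤ S
    · exact ⟨1, fun k hk => .inl (e hk)⟩
    obtain ⟨n, hn, n0⟩ := SetLike.not_le_iff_exists.1 e
    refine ⟨n, fun k hk => by_contra fun f => z1 ?_⟩
    push Not at f
    have e1 := h.add hk f.1 hz
    have e2 := h.add (mul_mem hn hk) f.2.1 hz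
    have e3 := h.add (mul_mem (inv_mem hn) hk) f.2.2 hz
    have e4 := h.add hn n0 (conj_mem (h.normZ hk) hz)
    have e5 := h.add (inv_mem hn) (fun f => n0 (inv_mem_iff.1 f)) hz
    have c := h.cm (conj_mem' (h.normV (mul_mem hn hk)) hz.1)
      (conj_mem (h.normV (mul_mem (inv_mem hn) hk)) hz.1)
    rw [← h.sq hz.1]
    calc z = n * (k * z * k⁻¹) * n⁻¹ * (n⁻¹ * (k * z * k⁻¹) * n) *
          (k⁻¹ * (n⁻¹ * z * n⁻¹⁻¹ * (n⁻¹⁻¹ * z * n⁻¹)) * k) := by rw [e4, e5, e1]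
      _ = n * k * z * (n * k)⁻¹ * (n⁻¹ * k * z * (n⁻¹ * k)⁻¹ * ((n * k)⁻¹ * z * (n * k))) *
          ((n⁻¹ * k)⁻¹ * z * (n⁻¹ * k)) := by group
      _ = _ := by rw [← c, ← mul_assoc (n * k * z * (n * k)⁻¹), e2, mul_assoc z, e3]
  classical
  calc #(V ⊓ W) = ((V ⊓ W : Subgroup G) : Set G).ncard := rfl
    _ ≤ (({1, z, n⁻¹ * z * n, n * z * n⁻¹} : Finset G) : Set G).ncard :=
      Set.ncard_le_ncard (fun y hy => ?_) (Set.toFinite _)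
    _ ≤ 4 := by rw [Set.ncard_coe_finset]; exact Finset.card_le_four
  simp only [Finset.coe_insert, Finset.coe_singleton, Set.mem_insert_iff, Set.mem_singleton_iff]
  refine or_iff_not_imp_left.2 fun y1 => ?_
  obtain ⟨k, hk, rfl⟩ := h.trans hy y1 hz z1
  refine (key k hk).imp (fx k) (Or.imp (fun e => ?_) fun e => ?_)
  · rw [← congrArg (n⁻¹ * · * n) (fx _ e)]; group
  · rw [← congrArg (n * · * n⁻¹) (fx _ e)]; group

theorem pat : Pat V W #(V ⊓ W) :=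
  ⟨fun _ => h.sq, fun _ => h.symm.sq, by rw [pow_two, h.card], by rw [pow_two, h.card, h.card_eq], rfl, by
    have := h.card
    have h1 := (one_lt_card_iff_ne_bot V).2 h.r.ne
    nlinarith, h.VW, h.symm.VW, h.sup.symm ▸ h.r.syl_top, fun _ hv _ hw => h.nc hv hw, h.part,
    h.symm.part, h.sup.symm ▸ h.normV, h.sup.symm ▸ h.symm.normV⟩

end Tw

theorem specLoc : SpecLoc.{u} := fun G _ _ h h0 he => by
  obtain ⟨S, hS⟩ := CfsgH2.exists_isSylowOf (p := 2) (⊤ : Subgroup G)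
  refine (se_or_tw h h0 hS fun e => hS.2.2 ?_).imp_right fun ⟨V, W, t⟩ => ⟨V, W, ?_⟩
  · rw [e, relIndex_bot_left, card_top]; exact he.two_dvd
  obtain ⟨n, hn⟩ := IsPGroup.iff_card.1 (t.r.pg.to_inf_left (K := W))
  have h1 := t.pat
  have h2 := t.le_four
  have h3 := h1.two
  have h4 : #(V ⊓ W : Subgroup G) ≠ 3 := fun e => by
    rcases n with _ | n <;> omega
  have : #(V ⊓ W : Subgroup G) = 2 ∨ #(V ⊓ W : Subgroup G) = 4 := by omega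
  exact this.imp (fun e => by rwa [e] at h1) fun e => by rwa [e] at h1

end CfsgEO
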